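import Cfsg.Agent.Lib.CodeCert.Check

/-!
Generated data of a certificate.
-/

set_option autoImplicit false
set_option maxRecDepth 100000

namespace CfsgLib.UFourType.Cert.Central

open CfsgLib.CodeCert

/-- Generating codes. -/
def gens : List ℕ := [545, 204]

/-- The generators of the normalised subgroup with their images. -/
def dgens : List (List (ℕ × ℕ)) := [[(12, 478), (464, 15), (4, 966), (928, 937)]]

/-- The relations. -/
def rels : List (List Tok) := [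
  [.s 0, .s 0, .s 0],
  [.c 1125, .s 0, .c 1125, .s 0, .c 1125, .s 0, .c 1125, .s 0, .c 1125, .s 0],
  [.c 247, .s 0, .c 247, .s 0, .c 247, .s 0, .c 247, .s 0],
  [.s 1, .s 0],
  [.s 0, .s 1],
  [.c 1054, .c 5, .s 0, .c 224, .s 1, .c 1054, .s 0, .c 416, .s 1, .c 5, .c 827, .c 5, .s 0, .c 224, .s 1, .c 827,
   .s 0, .c 416, .s 1, .c 5]]

/-- The words of the nodes. -/
def defs : List (ℕ × ℕ × ℕ) := [
  (0, 0, 0), (0, 0, 1), (0, 1125, 1), (0, 1125, 3), (0, 704, 2), (1, 827, 5), (0, 224, 6), (0, 1139, 5),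
  (0, 1125, 8), (1, 698, 1), (0, 224, 10), (1, 815, 11), (0, 16, 1), (0, 0, 13), (0, 704, 14), (1, 827, 15),
  (0, 224, 16), (1, 815, 17), (0, 32, 1), (0, 1125, 19), (0, 1125, 20), (0, 1125, 21), (0, 14, 9), (1, 827, 23),
  (0, 224, 24), (1, 815, 25), (0, 416, 26), (0, 450, 22), (0, 96, 1), (0, 1125, 29), (0, 1125, 30), (0, 84, 29),
  (0, 32, 3), (0, 1125, 33), (0, 1125, 34), (0, 738, 33), (1, 44, 34), (0, 224, 37), (1, 815, 38), (0, 416, 39),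
  (1, 1054, 40), (1, 816, 34), (0, 224, 42), (1, 815, 43), (0, 416, 44), (1, 1054, 45), (0, 764, 42), (1, 815, 47),
  (1, 676, 35), (0, 224, 49), (0, 764, 49), (1, 837, 35), (0, 224, 52), (0, 764, 52), (0, 16, 6), (0, 0, 55),
  (0, 704, 56), (1, 827, 57), (0, 224, 58), (1, 815, 59), (1, 62, 57), (0, 224, 61), (1, 815, 62), (1, 47, 57),
  (0, 224, 64), (1, 815, 65), (0, 65, 55), (0, 1125, 67), (0, 1005, 56), (1, 62, 69), (0, 224, 70), (0, 32, 6),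
  (0, 0, 72), (0, 1125, 72), (0, 1125, 74), (0, 1125, 75), (0, 704, 73), (1, 47, 77), (0, 48, 6), (0, 0, 79),
  (0, 1125, 79), (0, 1125, 81), (0, 704, 80), (1, 47, 83), (0, 752, 7), (0, 1125, 85), (0, 463, 34), (1, 827, 87),
  (0, 224, 88), (1, 815, 89), (0, 416, 90), (1, 1054, 91), (1, 62, 87), (0, 224, 93), (1, 815, 94), (0, 764, 93),
  (1, 815, 96), (0, 416, 97), (0, 764, 88), (0, 756, 17), (0, 975, 35), (1, 827, 101), (0, 224, 102), (1, 815, 103),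
  (1, 62, 101), (0, 224, 105), (1, 815, 106), (0, 764, 102), (1, 815, 108), (0, 252, 17), (0, 96, 6), (0, 1125, 111),
  (0, 1125, 112), (0, 82, 76), (1, 62, 114), (1, 47, 114), (1, 810, 114), (0, 65, 111), (0, 12, 76), (1, 827, 119),
  (1, 47, 119), (0, 160, 6), (0, 1125, 122), (0, 1125, 123), (0, 65, 122), (0, 84, 111), (0, 74, 76), (0, 1136, 111),
  (0, 20, 76), (1, 47, 129), (0, 736, 122), (0, 95, 92), (1, 810, 132), (0, 232, 122), (0, 1125, 134), (0, 320, 6),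
  (0, 1125, 136), (0, 743, 17), (1, 37, 20), (0, 224, 139), (1, 815, 140), (0, 416, 141), (1, 1054, 142),
  (1, 824, 20), (0, 224, 144), (1, 815, 145), (0, 416, 146), (1, 1054, 147), (0, 16, 10), (0, 0, 149),
  (0, 1125, 149), (0, 1125, 151), (0, 704, 150), (1, 827, 153), (0, 224, 154), (1, 47, 153), (0, 224, 156),
  (1, 815, 157), (0, 32, 10), (0, 0, 159), (0, 1125, 159), (0, 1125, 161), (0, 1125, 162), (0, 704, 160),
  (1, 827, 164), (1, 47, 164), (0, 48, 10), (0, 0, 167), (0, 704, 168), (1, 47, 169), (0, 756, 11), (0, 1125, 171),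
  (0, 947, 30), (1, 827, 173), (0, 224, 174), (1, 815, 175), (0, 416, 176), (1, 1054, 177), (0, 764, 174),
  (1, 815, 179), (0, 416, 180), (0, 252, 11), (1, 830, 30), (0, 224, 183), (0, 764, 183), (0, 84, 163),
  (1, 827, 186), (0, 10, 163), (1, 827, 188), (0, 160, 10), (0, 1125, 190), (0, 1125, 191), (0, 65, 190),
  (0, 76, 163), (1, 827, 194), (0, 224, 195), (1, 815, 196), (0, 416, 197), (0, 764, 195), (1, 815, 199),
  (0, 416, 200), (0, 18, 163), (1, 827, 202), (0, 224, 203), (0, 764, 203), (0, 740, 190), (0, 1125, 206),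
  (0, 95, 178), (1, 827, 208), (0, 236, 190), (0, 1125, 210), (0, 30, 178), (1, 827, 212), (0, 320, 10),
  (0, 336, 10), (0, 743, 11), (0, 32, 11), (0, 1125, 217), (0, 48, 11), (0, 1125, 219), (1, 51, 155), (1, 822, 157),
  (0, 21, 218), (0, 1125, 223), (0, 1009, 218), (0, 1125, 225), (0, 128, 11), (0, 1125, 227), (1, 605, 18),
  (1, 300, 18), (1, 23, 155), (1, 450, 212), (0, 32, 18), (0, 1125, 233), (0, 1125, 234), (0, 65, 233),
  (0, 1125, 236), (0, 48, 18), (0, 1125, 238), (0, 1125, 239), (0, 160, 18), (0, 1125, 241), (0, 1125, 242),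
  (0, 65, 241), (0, 1125, 244), (0, 706, 243), (0, 949, 243), (0, 1125, 247), (0, 23, 123), (0, 1125, 249),
  (0, 48, 26), (0, 1125, 251), (0, 160, 26), (1, 924, 39), (0, 731, 254), (1, 356, 39), (1, 406, 222), (0, 160, 39),
  (0, 65, 258), (0, 1125, 259), (0, 176, 39), (0, 0, 261), (0, 1125, 261), (1, 796, 148), (1, 780, 148),
  (1, 852, 148), (0, 32, 148), (0, 1125, 267)]

/-- Part 0 of the identities. -/
def facts0 : List (Concl × Why) := [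
  (.pair 0 545 545, .def'),
  (.pair 0 204 204, .def'),
  (.edge 0 0 0 0 1 0, .def'),
  (.edge 1 0 1 0 0 0, .walk ⟨0, 0, 0⟩ [.ext 0 2 [] []] [] (some (3, 0))),
  (.pair 1 468 933, .walk ⟨408, 0, 0⟩ [.ext 0 2 [] [0, 1, 1]] [.ext 0 2 [0, 0, 2, 3] [1, 0]] none),
  (.pair 1 477 13, .walk ⟨192, 0, 0⟩ [.ext 0 2 [] [1, 0, 0]] [.ext 0 2 [0, 0, 0] [1]] none),
  (.pair 1 928 9, .walk ⟨577, 0, 0⟩ [.ext 0 2 [] [0, 1, 0, 0]] [.ext 0 2 [0, 2] [0, 0, 0, 1]] none),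
  (.pair 1 968 471, .walk ⟨1146, 0, 0⟩ [.ext 0 2 [] [0, 1, 0, 1]] [.ext 0 2 [1, 2] [0]] none),
  (.edge 0 0 1 0 2 0, .def'),
  (.pair 2 970 933, .walk ⟨468, 1, 0⟩ [.ext 0 8 [] [4]] [.ext 0 8 [2, 1] []] none),
  (.pair 2 467 13, .walk ⟨477, 1, 0⟩ [.ext 0 8 [] [5]] [.ext 0 8 [0, 0, 0, 1] []] none),
  (.pair 2 937 9, .walk ⟨928, 1, 0⟩ [.ext 0 8 [] [6]] [.ext 0 8 [3] []] none),
  (.pair 2 932 471, .walk ⟨968, 1, 0⟩ [.ext 0 8 [] [7]] [.ext 0 8 [0, 1, 3, 0] []] none),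
  (.edge 0 0 2 0 0 0, .walk ⟨0, 0, 0⟩ [.ext 0 2 [] [], .ext 0 8 [] []] [] (some (0, 0))),
  (.edge 1 0 0 0 2 0, .walk ⟨0, 2, 0⟩ [.ext 0 13 [] []] [] (some (3, 0))),
  (.edge 0 1125 1 0 3 0, .def'),
  (.edge 1 0 3 1125 1 0, .walk ⟨1125, 1, 0⟩ [.ext 0 15 [] []] [] (some (3, 0))),
  (.pair 3 963 4, .walk ⟨69, 1, 0⟩ [.ext 0 15 [] [6]] [.ext 0 15 [3, 0, 1] [5]] none),
  (.pair 3 3 2, .walk ⟨1124, 1, 0⟩ [.ext 0 15 [] [4, 4]] [.ext 0 15 [0, 0] []] none),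
  (.pair 3 961 965, .walk ⟨1137, 1, 0⟩ [.ext 0 15 [] [4, 5]] [.ext 0 15 [0, 1, 3] [7]] none),
  (.pair 3 7 964, .walk ⟨66, 1, 0⟩ [.ext 0 15 [] [4, 7]] [.ext 0 15 [0, 1, 3, 2] [5]] none),
  (.edge 0 1125 3 0 4 0, .def'),
  (.edge 0 252 4 715 2 754, .walk ⟨715, 2, 755⟩ [.code 1125, .ext 0 13 [0] [], .code 1125, .ext 0 2 [0, 0] [1, 0, 1], .code 1125, .ext 0 15 [2] [], .code 1125, .ext 0 21 [3, 0, 1] [], .code 1125] [] (some (1, 3))),
  (.edge 1 715 2 252 4 755, .walk ⟨252, 4, 0⟩ [.ext 0 22 [] []] [] (some (3, 0))),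
  (.merge 4 3 954 1005, .walk ⟨1120, 4, 544⟩ [] [.ext 0 22 [0, 3, 1] [], .code 247, .ext 0 13 [1, 1, 2] [], .code 247, .ext 0 2 [0, 2, 1] [0, 0, 0], .code 247, .ext 0 15 [0, 1, 1] [4], .code 247] (some (2, 4))),
  (.edge 0 767 3 715 2 431, .walk ⟨252, 4, 0⟩ [.merge 24] [.ext 0 22 [] []] none),
  (.edge 0 704 2 0 5 0, .def'),
  (.edge 1 0 5 704 2 0, .walk ⟨704, 2, 0⟩ [.ext 0 26 [] []] [] (some (3, 0))),
  (.pair 5 962 4, .walk ⟨1003, 2, 0⟩ [.ext 0 26 [] [11]] [.ext 0 26 [0, 3, 1] [10]] none),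
  (.pair 5 964 2, .walk ⟨711, 2, 0⟩ [.ext 0 26 [] [9, 9]] [.ext 0 26 [0, 0, 1, 1, 2] []] none),
  (.pair 5 2 965, .walk ⟨1010, 2, 0⟩ [.ext 0 26 [] [9, 10]] [.ext 0 26 [0, 0, 1, 1] [12]] none),
  (.pair 5 965 964, .walk ⟨561, 2, 0⟩ [.ext 0 26 [] [9, 12]] [.ext 0 26 [0, 0, 2] [10]] none),
  (.edge 1 827 5 0 6 0, .def'),
  (.edge 0 0 6 827 5 0, .walk ⟨827, 5, 0⟩ [.ext 1 32 [] []] [] (some (4, 0))),
  (.pair 6 937 965, .walk ⟨818, 5, 0⟩ [.ext 1 32 [] [30]] [.ext 1 32 [0, 2, 3] []] none),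
  (.pair 6 2 966, .walk ⟨54, 5, 0⟩ [.ext 1 32 [] [31]] [.ext 1 32 [1, 1] [29]] none),
  (.edge 0 224 6 0 7 0, .def'),
  (.edge 1 0 7 224 6 0, .walk ⟨224, 6, 0⟩ [.ext 0 36 [] []] [] (some (3, 0))),
  (.pair 7 966 966, .walk ⟨228, 6, 0⟩ [.ext 0 36 [] [35]] [.ext 0 36 [2] []] none),
  (.pair 7 43 63, .walk ⟨0, 7, 827⟩ [.ext 1 37 [] [], .code 416, .ext 0 33 [] [], .code 1054, .ext 1 27 [] [], .code 224, .ext 0 13 [1, 2, 0, 3] [], .code 5, .code 1054, .code 5, .ext 1 14 [0, 3, 0, 1] [1], .code 416, .ext 0 26 [0, 1, 3] [9], .code 827, .ext 1 32 [0, 3, 2] [28], .code 224, .ext 0 36 [2] [34], .code 5, .code 827, .code 5] [] (some (5, 9))),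
  (.edge 0 1139 5 0 8 0, .def'),
  (.pair 8 962 4, .walk ⟨235, 5, 0⟩ [.ext 0 40 [] [28]] [.ext 0 40 [0, 3, 1] []] none),
  (.pair 8 963 2, .walk ⟨233, 5, 0⟩ [.ext 0 40 [] [29]] [.ext 0 40 [3, 0, 1] []] none),
  (.pair 8 965 965, .walk ⟨1142, 5, 0⟩ [.ext 0 40 [] [30]] [.ext 0 40 [0, 0, 2] []] none),
  (.pair 8 960 964, .walk ⟨232, 5, 0⟩ [.ext 0 40 [] [31]] [.ext 0 40 [1, 3, 0] []] none),
  (.edge 0 1125 8 0 9 0, .def'),
  (.pair 9 4 4, .walk ⟨253, 8, 0⟩ [.ext 0 45 [] [41]] [.ext 0 45 [0, 2, 1, 3] []] none),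
  (.pair 9 7 2, .walk ⟨252, 8, 0⟩ [.ext 0 45 [] [42]] [.ext 0 45 [0, 1, 3, 2] []] none),
  (.pair 9 5 965, .walk ⟨255, 8, 0⟩ [.ext 0 45 [] [43]] [.ext 0 45 [1, 2, 0, 3] []] none),
  (.pair 9 961 964, .walk ⟨248, 8, 0⟩ [.ext 0 45 [] [44]] [.ext 0 45 [0, 1, 3] []] none),
  (.edge 0 1125 9 720 1 12, .walk ⟨720, 1, 0⟩ [.code 1125, .ext 0 8 [] [], .code 1125, .ext 0 26 [0, 0, 1] [10], .code 1125, .ext 0 40 [] [], .code 1125, .ext 0 45 [] [], .code 1125] [] (some (1, 1))),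
  (.edge 1 720 1 1125 9 13, .walk ⟨1125, 9, 0⟩ [.ext 0 50 [] []] [] (some (3, 0))),
  (.edge 0 93 5 25 9 939, .walk ⟨25, 9, 475⟩ [.code 247, .ext 0 50 [0, 1, 3, 2] [], .code 247, .ext 0 8 [1, 3] [], .code 247, .ext 0 26 [0, 0, 3, 2] [9], .code 247] [] (some (2, 3))),
  (.edge 1 698 1 0 10 0, .def'),
  (.edge 0 0 10 698 1 0, .walk ⟨698, 1, 0⟩ [.ext 1 53 [] []] [] (some (4, 0))),
  (.pair 10 936 939, .walk ⟨55, 1, 0⟩ [.ext 1 53 [] [5]] [.ext 1 53 [2, 0, 3] [4]] none),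
  (.pair 10 928 9, .walk ⟨826, 1, 0⟩ [.ext 1 53 [] [6]] [.ext 1 53 [3] []] none),
  (.pair 10 2 2, .walk ⟨699, 1, 0⟩ [.ext 1 53 [] [4, 4]] [.ext 1 53 [1, 1] []] none),
  (.pair 10 3 938, .walk ⟨696, 1, 0⟩ [.ext 1 53 [] [4, 5]] [.ext 1 53 [0, 0, 1, 1] []] none),
  (.edge 0 224 10 0 11 0, .def'),
  (.edge 1 0 11 224 10 0, .walk ⟨224, 10, 0⟩ [.ext 0 59 [] []] [] (some (3, 0))),
  (.pair 11 966 2, .walk ⟨228, 10, 0⟩ [.ext 0 59 [] [57]] [.ext 0 59 [2] []] none),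
  (.pair 11 965 938, .walk ⟨229, 10, 0⟩ [.ext 0 59 [] [58]] [.ext 0 59 [0, 0, 2] []] none),
  (.edge 1 815 11 0 12 0, .def'),
  (.edge 0 0 12 815 11 0, .walk ⟨815, 11, 0⟩ [.ext 1 63 [] []] [] (some (4, 0))),
  (.pair 12 937 936, .walk ⟨34, 11, 0⟩ [.ext 1 63 [] [62]] [.ext 1 63 [0, 2, 3] [61]] none),
  (.pair 12 1129 715, .walk ⟨968, 12, 0⟩ [.ext 0 64 [0, 1, 3, 0] [], .code 1054, .ext 1 60 [2, 0, 1] [], .code 224, .ext 0 54 [0, 2, 1] [], .code 5, .code 1054, .code 5, .ext 1 3 [1, 2, 0, 3] [], .code 416, .ext 0 2 [0, 1, 1, 2] [1, 0, 1, 0], .code 827, .ext 1 53 [] [], .code 224, .ext 0 59 [] [], .code 5, .code 827, .code 5, .ext 1 63 [] [], .code 416] [] (some (5, 7))),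
  (.edge 0 16 1 0 13 0, .def'),
  (.pair 13 940 933, .walk ⟨452, 1, 0⟩ [.ext 0 67 [] [4]] [.ext 0 67 [1, 2, 0] []] none),
  (.pair 13 13 13, .walk ⟨461, 1, 0⟩ [.ext 0 67 [] [5]] [.ext 0 67 [2, 1, 2] []] none),
  (.pair 13 9 9, .walk ⟨944, 1, 0⟩ [.ext 0 67 [] [6]] [.ext 0 67 [0, 2, 3] []] none),
  (.pair 13 473 471, .walk ⟨984, 1, 0⟩ [.ext 0 67 [] [7]] [.ext 0 67 [1, 2, 3] []] none),
  (.edge 0 0 13 0 14 0, .def'),
  (.pair 14 975 933, .walk ⟨940, 13, 0⟩ [.ext 0 72 [] [68]] [.ext 0 72 [0, 3] []] none),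
  (.pair 14 477 13, .walk ⟨13, 13, 0⟩ [.ext 0 72 [] [69]] [.ext 0 72 [0, 0, 0] []] none),
  (.pair 14 928 9, .walk ⟨9, 13, 0⟩ [.ext 0 72 [] [70]] [.ext 0 72 [0, 2] []] none),
  (.pair 14 941 471, .walk ⟨473, 13, 0⟩ [.ext 0 72 [] [71]] [.ext 0 72 [0, 2, 1] []] none),
  (.edge 0 0 14 16 1 0, .walk ⟨16, 1, 0⟩ [.ext 0 67 [] [], .ext 0 72 [] []] [] (some (0, 0))),
  (.edge 1 16 1 0 14 0, .walk ⟨0, 14, 0⟩ [.ext 0 77 [] []] [] (some (3, 0))),
  (.edge 0 704 14 0 15 0, .def'),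
  (.pair 15 963 4, .walk ⟨1011, 14, 0⟩ [.ext 0 79 [] [75]] [.ext 0 79 [3, 0, 1] [74]] none),
  (.pair 15 967 2, .walk ⟨710, 14, 0⟩ [.ext 0 79 [] [73, 73]] [.ext 0 79 [1, 1, 2] []] none),
  (.pair 15 2 965, .walk ⟨1002, 14, 0⟩ [.ext 0 79 [] [73, 74]] [.ext 0 79 [0, 0, 1, 1] [76]] none),
  (.pair 15 966 964, .walk ⟨557, 14, 0⟩ [.ext 0 79 [] [73, 76]] [.ext 0 79 [2] [74]] none),
  (.edge 1 827 15 0 16 0, .def'),
  (.pair 16 937 965, .walk ⟨818, 15, 0⟩ [.ext 1 84 [] [82]] [.ext 1 84 [0, 2, 3] []] none),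
  (.pair 16 2 966, .walk ⟨63, 15, 0⟩ [.ext 1 84 [] [83]] [.ext 1 84 [1, 1] [81]] none),
  (.edge 0 224 16 0 17 0, .def'),
  (.edge 1 0 17 224 16 0, .walk ⟨224, 16, 0⟩ [.ext 0 87 [] []] [] (some (3, 0))),
  (.pair 17 966 966, .walk ⟨228, 16, 0⟩ [.ext 0 87 [] [86]] [.ext 0 87 [2] []] none),
  (.edge 1 815 17 0 18 0, .def'),
  (.edge 0 0 18 815 17 0, .walk ⟨815, 17, 0⟩ [.ext 1 90 [] []] [] (some (4, 0))),
  (.edge 0 416 18 849 11 466, .walk ⟨849, 11, 466⟩ [.code 1054, .ext 1 60 [2, 3] [], .code 224, .ext 0 54 [0, 0, 3] [], .code 5, .code 1054, .code 5, .ext 1 78 [2, 3, 0] [], .code 416, .ext 0 79 [1, 3, 0] [76], .code 827, .ext 1 84 [0, 3, 2] [80], .code 224, .ext 0 87 [2] [85], .code 5, .code 827, .code 5, .ext 1 90 [] [89], .code 416] [] (some (5, 6))),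
  (.edge 1 849 11 416 18 464, .walk ⟨416, 18, 0⟩ [.ext 0 92 [] []] [] (some (3, 0))),
  (.pair 18 992 938, .walk ⟨697, 11, 0⟩ [.ext 1 93 [] [62]] [.ext 1 93 [0, 3, 2] [61]] none),
  (.edge 0 32 1 0 19 0, .def'),
  (.pair 19 1 939, .walk ⟨677, 1, 0⟩ [.ext 0 95 [] [5]] [.ext 0 95 [1, 1] [4]] none),
  (.pair 19 929 938, .walk ⟨43, 1, 0⟩ [.ext 0 95 [] [4, 5]] [.ext 0 95 [0, 1, 1, 2] []] none),
  (.edge 0 928 19 970 10 470, .walk ⟨970, 10, 471⟩ [.ext 0 54 [3, 1] [], .ext 0 95 [0, 2] [7]] [] (some (0, 1))),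
  (.edge 1 970 10 928 19 471, .walk ⟨928, 19, 0⟩ [.ext 0 98 [] []] [] (some (3, 0)))]

/-- Part 1 of the identities. -/
def facts1 : List (Concl × Why) := [
  (.edge 0 1125 19 0 20 0, .def'),
  (.pair 20 3 939, .walk ⟨1124, 19, 0⟩ [.ext 0 100 [] [96]] [.ext 0 100 [0, 0] []] none),
  (.edge 0 1125 20 0 21 0, .def'),
  (.pair 21 966 939, .walk ⟨1121, 20, 0⟩ [.ext 0 102 [] [101]] [.ext 0 102 [2] []] none),
  (.edge 0 1125 21 0 22 0, .def'),
  (.edge 1 0 22 1125 21 0, .walk ⟨1125, 21, 0⟩ [.ext 0 104 [] []] [] (some (3, 0))),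
  (.pair 22 963 939, .walk ⟨251, 21, 0⟩ [.ext 0 104 [] [103]] [.ext 0 104 [3, 0, 1] []] none),
  (.edge 0 1125 22 592 1 0, .walk ⟨592, 1, 0⟩ [.code 1125, .ext 0 95 [] [], .code 1125, .ext 0 100 [] [], .code 1125, .ext 0 102 [] [], .code 1125, .ext 0 104 [] [], .code 1125] [] (some (1, 1))),
  (.edge 1 592 1 1125 22 0, .walk ⟨1125, 22, 0⟩ [.ext 0 107 [] []] [] (some (3, 0))),
  (.pair 22 94 960, .walk ⟨792, 1, 0⟩ [.ext 1 108 [] [4, 7]] [.ext 1 108 [0, 2, 3] [6]] none),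
  (.edge 0 761 20 26 22 938, .walk ⟨26, 22, 938⟩ [.code 247, .ext 0 107 [0, 3, 1] [], .code 247, .ext 0 95 [0, 1, 1, 2] [], .code 247, .ext 0 100 [0, 3, 0, 1] [97], .code 247] [] (some (2, 3))),
  (.edge 1 26 22 761 20 938, .walk ⟨761, 20, 0⟩ [.ext 0 110 [] []] [] (some (3, 0))),
  (.edge 0 6 3 1134 9 0, .walk ⟨1134, 9, 13⟩ [.ext 0 50 [1, 1, 2, 0] [], .ext 0 15 [0, 1, 2, 3] [5]] [] (some (0, 1))),
  (.edge 0 234 3 434 14 1008, .walk ⟨434, 14, 0⟩ [.code 247, .ext 0 77 [0, 0, 0] [], .code 247, .ext 0 15 [0, 1, 2, 3] [5], .code 247, .ext 0 21 [3, 1] [], .merge 24, .code 247] [] (some (2, 3))),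
  (.edge 0 14 9 0 23 0, .def'),
  (.pair 23 965 4, .walk ⟨11, 9, 0⟩ [.ext 0 114 [] [46]] [.ext 0 114 [0, 0, 2] []] none),
  (.pair 23 967 2, .walk ⟨8, 9, 0⟩ [.ext 0 114 [] [47]] [.ext 0 114 [1, 1, 2] []] none),
  (.pair 23 966 965, .walk ⟨10, 9, 0⟩ [.ext 0 114 [] [48]] [.ext 0 114 [2] []] none),
  (.pair 23 4 964, .walk ⟨975, 9, 0⟩ [.ext 0 114 [] [49]] [.ext 0 114 [0, 2, 1, 3] []] none),
  (.edge 1 827 23 0 24 0, .def'),
  (.pair 24 937 6, .walk ⟨62, 23, 0⟩ [.ext 1 119 [] [116]] [.ext 1 119 [0, 2, 3] [115]] none),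
  (.pair 24 939 961, .walk ⟨63, 23, 0⟩ [.ext 1 119 [] [117]] [.ext 1 119 [0, 3, 2] [115]] none),
  (.edge 0 224 24 0 25 0, .def'),
  (.pair 25 966 967, .walk ⟨764, 24, 0⟩ [.ext 0 122 [] [121]] [.ext 0 122 [2] [120]] none),
  (.edge 1 815 25 0 26 0, .def'),
  (.edge 0 416 26 0 27 0, .def'),
  (.edge 1 0 27 416 26 0, .walk ⟨416, 26, 0⟩ [.ext 0 125 [] []] [] (some (3, 0))),
  (.edge 1 1054 27 973 22 475, .walk ⟨973, 22, 471⟩ [.code 224, .ext 0 107 [1, 1, 2, 0] [], .code 5, .code 1054, .code 5, .ext 1 51 [2, 0] [7], .code 416, .ext 0 114 [0, 3, 1] [], .code 827, .ext 1 119 [0, 3, 2] [115, 118], .code 224, .ext 0 122 [2] [120], .code 5, .code 827, .code 5, .ext 1 124 [] [123], .code 416, .ext 0 125 [] [], .code 1054] [] (some (5, 4))),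
  (.edge 0 973 22 1054 27 474, .walk ⟨1054, 27, 0⟩ [.ext 1 127 [] []] [] (some (4, 0))),
  (.merge 5 3 937 454, .walk ⟨1141, 3, 710⟩ [.ext 0 113 [0, 1, 2, 3] [], .code 1125, .ext 0 77 [0, 3, 1] [], .code 1125, .ext 0 15 [1, 1, 2, 0] [7], .code 1125, .ext 0 25 [3, 1] [], .code 1125, .ext 0 26 [0, 1, 1, 2] [12], .code 1125] [] (some (1, 4))),
  (.edge 0 1132 3 25 9 977, .walk ⟨93, 5, 0⟩ [.merge 129] [.ext 0 52 [] []] none),
  (.edge 1 937 3 704 2 456, .walk ⟨0, 5, 0⟩ [.merge 129] [.ext 1 27 [] []] none),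
  (.edge 1 688 3 0 6 456, .walk ⟨827, 5, 0⟩ [.merge 129] [.ext 1 32 [] []] none),
  (.merge 9 3 9 550, .walk ⟨1132, 3, 0⟩ [.ext 0 130 [] []] [.ext 0 21 [2, 0] [], .merge 24] none),
  (.edge 0 1140 3 720 1 572, .walk ⟨1125, 9, 0⟩ [.merge 133] [.ext 0 50 [] []] none),
  (.edge 0 7 3 0 23 560, .walk ⟨14, 9, 0⟩ [.merge 133] [.ext 0 114 [] []] none),
  (.merge 2 1 959 454, .walk ⟨937, 3, 0⟩ [.ext 1 131 [] []] [.ext 1 16 [3] []] none),
  (.edge 1 1005 1 767 3 80, .walk ⟨715, 2, 0⟩ [.merge 136] [.ext 1 23 [] [], .merge 24] none),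
  (.merge 14 1 962 979, .walk ⟨1140, 3, 0⟩ [.ext 0 113 [1, 2, 0, 3] []] [.ext 0 134 [] []] none),
  (.edge 0 422 1 0 15 983, .walk ⟨704, 14, 0⟩ [.merge 138] [.ext 0 79 [] []] none),
  (.merge 23 3 1148 22, .walk ⟨7, 3, 0⟩ [.ext 0 135 [] []] [.ext 0 112 [0, 0] [], .merge 133] none),
  (.edge 1 359 3 0 24 23, .walk ⟨827, 23, 0⟩ [.merge 140] [.ext 1 119 [] []] none),
  (.pair 3 431 437, .walk ⟨1005, 1, 0⟩ [.ext 1 137 [] []] [.ext 1 51 [3, 0] [5], .merge 133] none),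
  (.merge 15 3 9 452, .walk ⟨422, 1, 0⟩ [.ext 0 139 [] []] [.ext 0 15 [0, 2, 3] [4]] none),
  (.edge 1 816 3 0 16 459, .walk ⟨827, 15, 0⟩ [.merge 143] [.ext 1 84 [] []] none),
  (.merge 24 6 971 575, .walk ⟨359, 3, 0⟩ [.ext 1 141 [] []] [.ext 1 132 [1, 3] [142, 142]] none),
  (.edge 0 1132 6 0 25 571, .walk ⟨224, 24, 0⟩ [.merge 145] [.ext 0 122 [] []] none),
  (.merge 16 6 928 3, .walk ⟨816, 3, 0⟩ [.ext 1 144 [] []] [.ext 1 132 [3] []] none),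
  (.edge 0 748 6 0 17 3, .walk ⟨224, 16, 0⟩ [.merge 147] [.ext 0 87 [] []] none),
  (.merge 25 17 6 995, .walk ⟨748, 6, 0⟩ [.ext 0 146 [0, 1, 2, 3] [34]] [.ext 0 148 [] []] none),
  (.edge 1 822 17 0 26 998, .walk ⟨815, 25, 0⟩ [.merge 149] [.ext 1 124 [] []] none),
  (.edge 0 450 22 0 28 0, .def'),
  (.edge 1 830 28 992 26 90, .walk ⟨992, 26, 973⟩ [.code 416, .ext 0 125 [0, 3, 2] [], .code 1054, .ext 1 127 [0, 0] [], .code 224, .ext 0 107 [0, 1, 1, 2] [], .code 5, .code 1054, .code 5, .ext 1 51 [1, 1, 3] [7], .merge 133, .code 416, .ext 0 25 [2, 0] [], .merge 136, .code 827, .ext 1 108 [3, 1] [4], .code 224, .ext 0 151 [1, 2, 0, 3] [109], .code 5, .code 827, .code 5] [] (some (5, 8))),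
  (.edge 0 992 26 830 28 92, .walk ⟨830, 28, 0⟩ [.ext 1 152 [] []] [] (some (4, 0))),
  (.edge 0 96 1 0 29 0, .def'),
  (.pair 29 966 939, .walk ⟨925, 1, 0⟩ [.ext 0 154 [] [5]] [.ext 0 154 [2] [4]] none),
  (.pair 29 3 2, .walk ⟨97, 1, 0⟩ [.ext 0 154 [] [4, 4]] [.ext 0 154 [0, 0] []] none),
  (.pair 29 930 963, .walk ⟨175, 1, 0⟩ [.ext 0 154 [] [4, 6]] [.ext 0 154 [1, 1, 2, 0] [7]] none),
  (.edge 0 0 29 571 22 9, .walk ⟨571, 22, 9⟩ [.ext 0 107 [0, 0, 0, 1] [], .ext 0 154 [] [6]] [] (some (0, 1))),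
  (.edge 0 1125 29 0 30 0, .def'),
  (.pair 30 963 939, .walk ⟨251, 29, 0⟩ [.ext 0 159 [] [155]] [.ext 0 159 [3, 0, 1] []] none),
  (.pair 30 966 2, .walk ⟨1121, 29, 0⟩ [.ext 0 159 [] [156]] [.ext 0 159 [2] []] none),
  (.edge 0 1125 30 0 31 0, .def'),
  (.edge 1 0 31 1125 30 0, .walk ⟨1125, 30, 0⟩ [.ext 0 162 [] []] [] (some (3, 0))),
  (.edge 0 252 31 550 10 935, .walk ⟨550, 10, 933⟩ [.code 1125, .ext 0 54 [0, 0, 1, 2] [], .code 1125, .ext 0 154 [0, 0] [4], .code 1125, .ext 0 159 [2] [], .code 1125, .ext 0 162 [3, 0, 1] [], .code 1125] [] (some (1, 3))),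
  (.edge 1 550 10 252 31 933, .walk ⟨252, 31, 0⟩ [.ext 0 164 [] []] [] (some (3, 0))),
  (.merge 31 30 959 969, .walk ⟨253, 31, 970⟩ [] [.ext 0 164 [0, 0] [], .code 247, .ext 0 54 [0, 3, 0] [], .code 247, .ext 0 154 [1, 1, 2, 0] [6, 4], .code 247, .ext 0 159 [0, 3, 0, 1] [157], .code 247] (some (2, 4))),
  (.edge 0 760 30 550 10 471, .walk ⟨252, 31, 0⟩ [.merge 166] [.ext 0 164 [] []] none),
  (.edge 1 959 30 1125 30 970, .walk ⟨0, 31, 0⟩ [.merge 166] [.ext 1 163 [] []] none),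
  (.edge 0 84 29 0 32 0, .def'),
  (.edge 1 0 32 84 29 0, .walk ⟨84, 29, 0⟩ [.ext 0 169 [] []] [] (some (3, 0))),
  (.merge 32 21 460 938, .walk ⟨1125, 21, 938⟩ [.ext 0 104 [] [], .code 247, .ext 0 107 [0, 3, 0, 1] [], .code 247, .ext 0 154 [3] [4, 5], .code 247, .ext 0 169 [0, 3, 0, 1] [], .code 247] [] (some (2, 4))),
  (.edge 1 460 21 84 29 938, .walk ⟨0, 32, 0⟩ [.merge 171] [.ext 1 170 [] []] none),
  (.edge 0 32 3 0 33 0, .def'),
  (.pair 33 928 2, .walk ⟨41, 3, 0⟩ [.ext 0 173 [] [18]] [.ext 0 173 [0, 2] []] none),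
  (.pair 33 931 961, .walk ⟨829, 3, 0⟩ [.ext 0 173 [] [19]] [.ext 0 173 [2, 0] [17]] none),
  (.edge 0 0 33 473 6 463, .walk ⟨473, 6, 463⟩ [.ext 0 33 [0, 2, 1] [], .merge 129, .ext 0 173 [] [17]] [] (some (0, 1))),
  (.edge 1 473 6 0 33 450, .walk ⟨0, 33, 0⟩ [.ext 0 176 [] []] [] (some (3, 0))),
  (.edge 0 1125 33 0 34 0, .def'),
  (.edge 1 0 34 1125 33 0, .walk ⟨1125, 33, 0⟩ [.ext 0 178 [] []] [] (some (3, 0))),
  (.pair 34 966 963, .walk ⟨65, 33, 0⟩ [.ext 0 178 [] [175]] [.ext 0 178 [2] [174]] none),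
  (.edge 0 1125 34 0 35 0, .def'),
  (.edge 1 0 35 1125 34 0, .walk ⟨1125, 34, 0⟩ [.ext 0 181 [] []] [] (some (3, 0))),
  (.pair 35 963 963, .walk ⟨251, 34, 0⟩ [.ext 0 181 [] [180]] [.ext 0 181 [3, 0, 1] []] none),
  (.edge 0 252 35 430 6 741, .walk ⟨430, 6, 80⟩ [.code 1125, .ext 0 33 [1, 3] [], .merge 129, .code 1125, .ext 0 173 [2, 0] [142, 17, 142], .code 1125, .ext 0 178 [2] [174], .code 1125, .ext 0 181 [3, 0, 1] [], .code 1125] [] (some (1, 3))),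
  (.edge 1 430 6 252 35 766, .walk ⟨252, 35, 0⟩ [.ext 0 184 [] []] [] (some (3, 0))),
  (.edge 0 761 34 723 6 736, .walk ⟨723, 6, 736⟩ [.code 247, .ext 0 33 [1, 2, 3] [], .merge 129, .code 247, .ext 0 173 [] [142, 17, 142], .code 247, .ext 0 178 [0, 3, 0, 1] [], .code 247] [] (some (2, 3))),
  (.edge 1 723 6 761 34 764, .walk ⟨761, 34, 0⟩ [.ext 0 186 [] []] [] (some (3, 0))),
  (.edge 0 738 33 0 36 0, .def'),
  (.edge 0 1125 36 449 34 433, .walk ⟨449, 34, 1122⟩ [.code 1125, .ext 0 186 [0, 0] [], .code 1125, .ext 0 33 [] [], .merge 129, .code 1125, .ext 0 173 [0, 0, 3, 0] [142], .code 1125, .ext 0 188 [] [174], .code 1125] [] (some (1, 5))),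
  (.edge 1 449 34 1125 36 254, .walk ⟨1125, 36, 0⟩ [.ext 0 189 [] []] [] (some (3, 0))),
  (.merge 36 35 456 436, .walk ⟨1126, 35, 1127⟩ [.ext 0 184 [1, 2, 0, 3] [], .code 247, .ext 0 33 [0, 0, 1, 1, 2] [], .merge 129, .code 247, .ext 0 173 [3, 2] [142], .code 247, .ext 0 188 [0, 3, 0, 1] [], .code 247] [] (some (2, 4))),
  (.edge 0 745 35 449 34 5, .walk ⟨1125, 36, 0⟩ [.merge 191] [.ext 0 189 [] []] none),
  (.edge 1 44 34 0 37 0, .def'),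
  (.edge 0 0 37 44 34 0, .walk ⟨44, 34, 0⟩ [.ext 1 193 [] []] [] (some (4, 0))),
  (.edge 0 224 37 0 38 0, .def'),
  (.edge 1 0 38 224 37 0, .walk ⟨224, 37, 0⟩ [.ext 0 195 [] []] [] (some (3, 0))),
  (.edge 1 815 38 0 39 0, .def'),
  (.edge 0 0 39 815 38 0, .walk ⟨815, 38, 0⟩ [.ext 1 197 [] []] [] (some (4, 0))),
  (.edge 0 416 39 0 40 0, .def')]

/-- Part 2 of the identities. -/
def facts2 : List (Concl × Why) := [
  (.edge 1 1054 40 0 41 0, .def'),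
  (.edge 0 0 41 1054 40 0, .walk ⟨1054, 40, 0⟩ [.ext 1 200 [] []] [] (some (4, 0))),
  (.edge 0 224 41 830 6 460, .walk ⟨830, 6, 0⟩ [.code 5, .code 1054, .code 5, .ext 1 177 [0, 0, 0] [], .code 416, .ext 0 178 [1, 2] [174], .code 827, .ext 1 193 [] [], .code 224, .ext 0 195 [] [], .code 5, .code 827, .code 5, .ext 1 197 [] [], .code 416, .ext 0 199 [] [], .code 1054, .ext 1 200 [] [], .code 224] [] (some (5, 2))),
  (.edge 1 830 6 224 41 448, .walk ⟨224, 41, 0⟩ [.ext 0 202 [] []] [] (some (3, 0))),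
  (.pair 41 30 961, .walk ⟨693, 6, 0⟩ [.ext 1 203 [] [34]] [.ext 1 203 [0, 2] []] none),
  (.pair 41 71 963, .walk ⟨823, 6, 0⟩ [.ext 1 203 [] [35]] [.ext 1 203 [0, 3, 2] []] none),
  (.edge 1 816 34 0 42 0, .def'),
  (.edge 0 0 42 816 34 0, .walk ⟨816, 34, 0⟩ [.ext 1 206 [] []] [] (some (4, 0))),
  (.edge 0 224 42 0 43 0, .def'),
  (.edge 1 0 43 224 42 0, .walk ⟨224, 42, 0⟩ [.ext 0 208 [] []] [] (some (3, 0))),
  (.edge 1 815 43 0 44 0, .def'),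
  (.edge 0 0 44 815 43 0, .walk ⟨815, 43, 0⟩ [.ext 1 210 [] []] [] (some (4, 0))),
  (.edge 0 416 44 0 45 0, .def'),
  (.edge 1 1054 45 0 46 0, .def'),
  (.edge 0 0 46 1054 45 0, .walk ⟨1054, 45, 0⟩ [.ext 1 213 [] []] [] (some (4, 0))),
  (.edge 0 224 46 814 6 460, .walk ⟨814, 6, 0⟩ [.code 5, .code 1054, .code 5, .ext 1 177 [1, 2, 3] [], .code 416, .ext 0 178 [0, 2, 3] [174], .code 827, .ext 1 206 [] [], .code 224, .ext 0 208 [] [], .code 5, .code 827, .code 5, .ext 1 210 [] [], .code 416, .ext 0 212 [] [], .code 1054, .ext 1 213 [] [], .code 224] [] (some (5, 2))),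
  (.edge 1 814 6 224 46 448, .walk ⟨224, 46, 0⟩ [.ext 0 215 [] []] [] (some (3, 0))),
  (.pair 46 95 961, .walk ⟨676, 6, 0⟩ [.ext 1 216 [] [34]] [.ext 1 216 [3] []] none),
  (.pair 46 71 963, .walk ⟨807, 6, 0⟩ [.ext 1 216 [] [35]] [.ext 1 216 [0, 3, 2] []] none),
  (.edge 0 764 42 0 47 0, .def'),
  (.edge 1 0 47 764 42 0, .walk ⟨764, 42, 0⟩ [.ext 0 219 [] []] [] (some (3, 0))),
  (.edge 1 815 47 0 48 0, .def'),
  (.edge 0 0 48 815 47 0, .walk ⟨815, 47, 0⟩ [.ext 1 221 [] []] [] (some (4, 0))),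
  (.edge 0 416 48 864 45 963, .walk ⟨864, 45, 448⟩ [.code 1054, .ext 1 213 [1, 1, 2] [], .code 224, .ext 0 215 [1, 1] [], .code 5, .code 1054, .code 5, .ext 1 177 [1, 3, 2] [], .code 416, .ext 0 178 [0, 0, 3, 0] [174], .code 827, .ext 1 206 [0, 3, 2] [180], .code 224, .ext 0 219 [] [], .code 5, .code 827, .code 5, .ext 1 221 [] [], .code 416] [] (some (5, 6))),
  (.edge 1 676 35 0 49 0, .def'),
  (.edge 0 0 49 676 35 0, .walk ⟨676, 35, 0⟩ [.ext 1 224 [] []] [] (some (4, 0))),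
  (.edge 0 224 49 0 50 0, .def'),
  (.edge 1 0 50 224 49 0, .walk ⟨224, 49, 0⟩ [.ext 0 226 [] []] [] (some (3, 0))),
  (.edge 1 815 50 992 39 1120, .walk ⟨992, 39, 958⟩ [.code 416, .ext 0 199 [0, 3, 2] [], .code 1054, .ext 1 200 [0, 0] [], .code 224, .ext 0 202 [0, 0] [], .code 5, .code 1054, .code 5, .ext 1 177 [2, 3] [], .code 416, .ext 0 188 [0, 3, 2] [174], .merge 191, .code 827, .ext 1 224 [] [183], .code 224, .ext 0 226 [] [], .code 5, .code 827, .code 5] [] (some (5, 8))),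
  (.edge 0 764 49 0 51 0, .def'),
  (.edge 1 0 51 764 49 0, .walk ⟨764, 49, 0⟩ [.ext 0 229 [] []] [] (some (3, 0))),
  (.edge 1 837 35 0 52 0, .def'),
  (.edge 0 224 52 0 53 0, .def'),
  (.edge 1 815 53 992 48 249, .walk ⟨992, 48, 448⟩ [.code 416, .ext 0 223 [0, 3, 2] [], .code 1054, .ext 1 213 [0, 0, 1, 1, 2] [], .code 224, .ext 0 215 [0, 0, 1, 1] [], .code 5, .code 1054, .code 5, .ext 1 177 [0, 0, 0, 1] [], .code 416, .ext 0 188 [0, 0, 2, 1] [174], .merge 191, .code 827, .ext 1 231 [] [183], .code 224, .ext 0 232 [] [], .code 5, .code 827, .code 5] [] (some (5, 8))),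
  (.edge 0 764 52 0 54 0, .def'),
  (.edge 1 815 54 992 44 249, .walk ⟨992, 44, 958⟩ [.code 416, .ext 0 212 [0, 3, 2] [], .code 1054, .ext 1 213 [0, 0] [], .code 224, .ext 0 215 [0, 0] [], .code 5, .code 1054, .code 5, .ext 1 177 [0, 2, 1, 2] [], .code 416, .ext 0 188 [2, 1, 2] [174], .merge 191, .code 827, .ext 1 231 [0, 3, 2] [], .code 224, .ext 0 234 [] [], .code 5, .code 827, .code 5] [] (some (5, 8))),
  (.edge 0 16 6 0 55 0, .def'),
  (.pair 55 2 966, .walk ⟨19, 6, 0⟩ [.ext 0 236 [] [35]] [.ext 0 236 [0, 0, 1, 1] []] none),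
  (.edge 0 0 55 0 56 0, .def'),
  (.pair 56 1 966, .walk ⟨2, 55, 0⟩ [.ext 0 238 [] [237]] [.ext 0 238 [1, 1] []] none),
  (.edge 0 0 56 16 6 0, .walk ⟨16, 6, 0⟩ [.ext 0 236 [] [], .ext 0 238 [] []] [] (some (0, 0))),
  (.edge 1 16 6 0 56 0, .walk ⟨0, 56, 0⟩ [.ext 0 240 [] []] [] (some (3, 0))),
  (.edge 0 704 56 0 57 0, .def'),
  (.pair 57 3 966, .walk ⟨705, 56, 0⟩ [.ext 0 242 [] [239]] [.ext 0 242 [0, 0] []] none),
  (.edge 1 827 57 0 58 0, .def'),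
  (.edge 0 224 58 0 59 0, .def'),
  (.edge 1 815 59 0 60 0, .def'),
  (.edge 0 0 60 815 59 0, .walk ⟨815, 59, 0⟩ [.ext 1 246 [] []] [] (some (4, 0))),
  (.edge 0 416 60 16 45 448, .walk ⟨16, 45, 448⟩ [.code 1054, .ext 1 213 [1, 2, 0, 3] [], .code 224, .ext 0 215 [1, 2, 0, 3] [], .code 5, .code 1054, .code 5, .ext 1 241 [1, 2, 0, 3] [], .code 416, .ext 0 242 [] [], .code 827, .ext 1 244 [] [], .code 224, .ext 0 245 [] [], .code 5, .code 827, .code 5, .ext 1 246 [] [], .code 416] [] (some (5, 6))),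
  (.edge 1 62 57 0 61 0, .def'),
  (.pair 61 939 966, .walk ⟨55, 57, 0⟩ [.ext 1 249 [] [243]] [.ext 1 249 [0, 3, 2] []] none),
  (.edge 0 224 61 0 62 0, .def'),
  (.edge 1 815 62 0 63 0, .def'),
  (.edge 0 416 63 880 45 448, .walk ⟨880, 45, 448⟩ [.code 1054, .ext 1 213 [0, 3, 1] [], .code 224, .ext 0 215 [0, 2, 1, 3] [], .code 5, .code 1054, .code 5, .ext 1 241 [0, 2, 1, 3] [], .code 416, .ext 0 242 [1, 1, 2] [], .code 827, .ext 1 249 [] [], .code 224, .ext 0 251 [] [], .code 5, .code 827, .code 5, .ext 1 252 [] [], .code 416] [] (some (5, 6))),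
  (.edge 1 880 45 416 63 460, .walk ⟨416, 63, 0⟩ [.ext 0 253 [] []] [] (some (3, 0))),
  (.edge 1 47 57 0 64 0, .def'),
  (.pair 64 939 966, .walk ⟨38, 57, 0⟩ [.ext 1 255 [] [243]] [.ext 1 255 [0, 3, 2] []] none),
  (.edge 0 224 64 0 65 0, .def'),
  (.edge 1 0 65 224 64 0, .walk ⟨224, 64, 0⟩ [.ext 0 257 [] []] [] (some (3, 0))),
  (.edge 1 815 65 0 66 0, .def'),
  (.edge 0 416 66 16 40 448, .walk ⟨16, 40, 448⟩ [.code 1054, .ext 1 200 [1, 2, 0, 3] [], .code 224, .ext 0 202 [1, 2, 0, 3] [], .code 5, .code 1054, .code 5, .ext 1 241 [1, 1] [], .code 416, .ext 0 242 [0, 3, 1] [], .code 827, .ext 1 255 [] [], .code 224, .ext 0 257 [] [], .code 5, .code 827, .code 5, .ext 1 259 [] [], .code 416] [] (some (5, 6))),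
  (.edge 1 16 40 416 66 460, .walk ⟨416, 66, 0⟩ [.ext 0 260 [] []] [] (some (3, 0))),
  (.edge 0 65 55 0 67 0, .def'),
  (.edge 1 0 67 65 55 0, .walk ⟨65, 55, 0⟩ [.ext 0 262 [] []] [] (some (3, 0))),
  (.edge 0 1125 67 0 68 0, .def'),
  (.edge 0 1125 68 745 35 766, .walk ⟨745, 35, 766⟩ [.code 1125, .ext 0 184 [0, 0, 0, 3] [], .code 1125, .ext 0 236 [2, 0] [], .code 1125, .ext 0 262 [] [], .code 1125, .ext 0 264 [] [], .code 1125] [] (some (1, 3))),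
  (.edge 0 761 67 1148 34 764, .walk ⟨1148, 34, 764⟩ [.code 247, .ext 0 186 [0, 0, 0, 3] [], .code 247, .ext 0 236 [2, 0] [], .code 247, .ext 0 262 [0, 3, 0, 1] [], .code 247] [] (some (2, 3))),
  (.edge 1 1148 34 761 67 736, .walk ⟨761, 67, 0⟩ [.ext 0 266 [] []] [] (some (3, 0))),
  (.edge 0 1005 56 0 69 0, .def'),
  (.pair 69 3 966, .walk ⟨1004, 56, 0⟩ [.ext 0 268 [] [239]] [.ext 0 268 [0, 0] []] none),
  (.edge 1 62 69 0 70 0, .def'),
  (.pair 70 939 966, .walk ⟨55, 69, 0⟩ [.ext 1 270 [] [269]] [.ext 1 270 [0, 3, 2] []] none),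
  (.edge 0 224 70 0 71 0, .def'),
  (.edge 1 815 71 992 60 966, .walk ⟨992, 60, 966⟩ [.code 416, .ext 0 248 [0, 3, 2] [], .code 1054, .ext 1 213 [0, 1, 2, 3] [], .code 224, .ext 0 215 [0, 1, 2, 3] [], .code 5, .code 1054, .code 5, .ext 1 241 [1] [], .code 416, .ext 0 268 [0, 0, 1, 1, 2] [], .code 827, .ext 1 270 [0, 3, 2] [], .code 224, .ext 0 272 [] [271], .code 5, .code 827, .code 5] [] (some (5, 8))),
  (.edge 0 992 60 815 71 966, .walk ⟨815, 71, 0⟩ [.ext 1 273 [] []] [] (some (4, 0))),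
  (.edge 0 32 6 0 72 0, .def'),
  (.pair 72 931 966, .walk ⟨40, 6, 0⟩ [.ext 0 275 [] [35]] [.ext 0 275 [2, 0] []] none),
  (.edge 0 0 72 0 73 0, .def'),
  (.edge 0 0 73 32 6 0, .walk ⟨32, 6, 0⟩ [.ext 0 275 [] [], .ext 0 277 [] []] [] (some (0, 0))),
  (.edge 1 32 6 0 73 0, .walk ⟨0, 73, 0⟩ [.ext 0 278 [] []] [] (some (3, 0))),
  (.edge 0 1125 72 0 74 0, .def'),
  (.edge 1 0 74 1125 72 0, .walk ⟨1125, 72, 0⟩ [.ext 0 280 [] []] [] (some (3, 0))),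
  (.edge 0 1125 74 0 75 0, .def'),
  (.edge 0 1125 75 0 76 0, .def'),
  (.edge 1 0 76 1125 75 0, .walk ⟨1125, 75, 0⟩ [.ext 0 283 [] []] [] (some (3, 0))),
  (.edge 0 1125 76 592 6 0, .walk ⟨592, 6, 0⟩ [.code 1125, .ext 0 275 [] [], .code 1125, .ext 0 280 [] [], .code 1125, .ext 0 282 [] [], .code 1125, .ext 0 283 [] [], .code 1125] [] (some (1, 1))),
  (.edge 1 592 6 1125 76 0, .walk ⟨1125, 76, 0⟩ [.ext 0 285 [] []] [] (some (3, 0))),
  (.edge 0 761 74 991 76 966, .walk ⟨991, 76, 966⟩ [.code 247, .ext 0 285 [0, 0, 1, 1, 2] [], .code 247, .ext 0 275 [2, 0] [], .code 247, .ext 0 280 [0, 3, 0, 1] [276], .code 247] [] (some (2, 3))),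
  (.edge 1 991 76 761 74 966, .walk ⟨761, 74, 0⟩ [.ext 0 287 [] []] [] (some (3, 0))),
  (.edge 0 704 73 0 77 0, .def'),
  (.edge 1 47 77 0 78 0, .def'),
  (.edge 0 224 78 43 54 1013, .walk ⟨43, 54, 1013⟩ [.code 5, .code 827, .code 5, .ext 1 235 [2] [], .code 416, .ext 0 212 [0, 2, 3] [], .code 1054, .ext 1 213 [0, 0, 1, 1] [], .code 224, .ext 0 215 [0, 0, 2] [], .code 5, .code 1054, .code 5, .ext 1 279 [1, 1] [], .code 416, .ext 0 289 [0, 3, 1] [], .code 827, .ext 1 290 [] [], .code 224] [] (some (5, 12))),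
  (.edge 1 43 54 224 78 1013, .walk ⟨224, 78, 0⟩ [.ext 0 291 [] []] [] (some (3, 0))),
  (.edge 0 48 6 0 79 0, .def'),
  (.pair 79 931 966, .walk ⟨56, 6, 0⟩ [.ext 0 293 [] [35]] [.ext 0 293 [2, 0] []] none),
  (.edge 0 0 79 0 80 0, .def'),
  (.pair 80 939 966, .walk ⟨931, 79, 0⟩ [.ext 0 295 [] [294]] [.ext 0 295 [0, 3, 0] []] none),
  (.edge 0 0 80 48 6 0, .walk ⟨48, 6, 0⟩ [.ext 0 293 [] [], .ext 0 295 [] []] [] (some (0, 0))),
  (.edge 1 48 6 0 80 0, .walk ⟨0, 80, 0⟩ [.ext 0 297 [] []] [] (some (3, 0))),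
  (.edge 0 1125 79 0 81 0, .def')]

/-- Part 3 of the identities. -/
def facts3 : List (Concl × Why) := [
  (.edge 0 1125 81 0 82 0, .def'),
  (.edge 0 1125 82 89 76 0, .walk ⟨89, 76, 0⟩ [.code 1125, .ext 0 285 [0, 3, 2] [], .code 1125, .ext 0 293 [] [], .code 1125, .ext 0 299 [] [], .code 1125, .ext 0 300 [] [], .code 1125] [] (some (1, 3))),
  (.edge 0 761 81 758 76 966, .walk ⟨758, 76, 966⟩ [.code 247, .ext 0 285 [0, 3] [], .code 247, .ext 0 293 [2, 0] [], .code 247, .ext 0 299 [0, 3, 0, 1] [294], .code 247] [] (some (2, 3))),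
  (.edge 1 758 76 761 81 966, .walk ⟨761, 81, 0⟩ [.ext 0 302 [] []] [] (some (3, 0))),
  (.edge 0 704 80 0 83 0, .def'),
  (.edge 1 47 83 0 84 0, .def'),
  (.edge 0 224 84 43 50 552, .walk ⟨43, 50, 552⟩ [.code 5, .code 827, .code 5, .ext 1 228 [2] [], .code 416, .ext 0 199 [0, 2, 3] [], .code 1054, .ext 1 200 [0, 0, 1, 1] [], .code 224, .ext 0 202 [0, 0, 2] [], .code 5, .code 1054, .code 5, .ext 1 298 [1, 1] [], .code 416, .ext 0 304 [0, 3, 1] [], .code 827, .ext 1 305 [] [], .code 224] [] (some (5, 12))),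
  (.edge 1 43 50 224 84 557, .walk ⟨224, 84, 0⟩ [.ext 0 306 [] []] [] (some (3, 0))),
  (.edge 0 764 84 43 38 958, .walk ⟨43, 38, 958⟩ [.code 5, .code 827, .code 5, .ext 1 197 [2] [], .code 416, .ext 0 199 [1, 1] [], .code 1054, .ext 1 200 [1, 1] [], .code 224, .ext 0 202 [2] [], .code 5, .code 1054, .code 5, .ext 1 298 [2, 0, 3] [], .code 416, .ext 0 304 [0, 1, 3] [296], .code 827, .ext 1 305 [0, 3, 2] [], .code 224] [] (some (5, 12))),
  (.edge 1 43 38 764 84 949, .walk ⟨764, 84, 0⟩ [.ext 0 308 [] []] [] (some (3, 0))),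
  (.edge 0 473 7 754 34 79, .walk ⟨754, 34, 764⟩ [.ext 0 186 [0, 1, 1, 2] [], .ext 0 36 [1, 2, 3] [34]] [] (some (0, 1))),
  (.edge 0 752 7 0 85 0, .def'),
  (.edge 0 1125 85 0 86 0, .def'),
  (.edge 0 1125 86 434 33 958, .walk ⟨434, 33, 450⟩ [.code 1125, .ext 0 176 [1, 3, 0] [], .code 1125, .ext 0 36 [1, 2, 3] [34], .code 1125, .ext 0 311 [] [], .code 1125, .ext 0 312 [] [], .code 1125] [] (some (1, 3))),
  (.edge 0 463 34 0 87 0, .def'),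
  (.edge 1 0 87 463 34 0, .walk ⟨463, 34, 0⟩ [.ext 0 314 [] []] [] (some (3, 0))),
  (.edge 1 827 87 0 88 0, .def'),
  (.edge 0 0 88 827 87 0, .walk ⟨827, 87, 0⟩ [.ext 1 316 [] []] [] (some (4, 0))),
  (.edge 0 224 88 0 89 0, .def'),
  (.edge 1 0 89 224 88 0, .walk ⟨224, 88, 0⟩ [.ext 0 318 [] []] [] (some (3, 0))),
  (.edge 1 815 89 0 90 0, .def'),
  (.edge 0 416 90 0 91 0, .def'),
  (.edge 1 1054 91 0 92 0, .def'),
  (.edge 0 224 92 638 6 736, .walk ⟨638, 6, 0⟩ [.code 5, .code 1054, .code 5, .ext 1 187 [0, 1, 3, 0] [], .code 416, .ext 0 314 [] [], .code 827, .ext 1 316 [] [], .code 224, .ext 0 318 [] [], .code 5, .code 827, .code 5, .ext 1 320 [] [], .code 416, .ext 0 321 [] [], .code 1054, .ext 1 322 [] [], .code 224] [] (some (5, 2))),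
  (.edge 1 638 6 224 92 764, .walk ⟨224, 92, 0⟩ [.ext 0 323 [] []] [] (some (3, 0))),
  (.edge 1 62 87 0 93 0, .def'),
  (.edge 0 224 93 0 94 0, .def'),
  (.edge 1 815 94 0 95 0, .def'),
  (.edge 0 0 95 815 94 0, .walk ⟨815, 94, 0⟩ [.ext 1 327 [] []] [] (some (4, 0))),
  (.edge 0 416 95 864 91 0, .walk ⟨864, 91, 764⟩ [.code 1054, .ext 1 322 [1, 1, 2] [], .code 224, .ext 0 323 [1, 1] [], .code 5, .code 1054, .code 5, .ext 1 187 [3, 1] [], .code 416, .ext 0 314 [1, 1, 2] [], .code 827, .ext 1 325 [] [], .code 224, .ext 0 326 [] [], .code 5, .code 827, .code 5, .ext 1 327 [] [], .code 416] [] (some (5, 6))),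
  (.edge 0 764 93 0 96 0, .def'),
  (.edge 1 815 96 0 97 0, .def'),
  (.edge 0 416 97 0 98 0, .def'),
  (.edge 1 1054 98 71 92 0, .walk ⟨71, 92, 764⟩ [.code 224, .ext 0 323 [0, 3, 2] [], .code 5, .code 1054, .code 5, .ext 1 187 [1, 3] [], .code 416, .ext 0 314 [0, 0, 1, 1, 2] [], .code 827, .ext 1 325 [0, 3, 2] [], .code 224, .ext 0 330 [] [], .code 5, .code 827, .code 5, .ext 1 331 [] [], .code 416, .ext 0 332 [] [], .code 1054] [] (some (5, 4))),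
  (.edge 0 764 88 0 99 0, .def'),
  (.edge 1 0 99 764 88 0, .walk ⟨764, 88, 0⟩ [.ext 0 334 [] []] [] (some (3, 0))),
  (.edge 1 51 50 992 95 0, .walk ⟨992, 95, 764⟩ [.code 416, .ext 0 329 [0, 3, 2] [], .code 1054, .ext 1 322 [0, 0, 1, 1, 2] [], .code 224, .ext 0 323 [0, 0, 1, 1] [], .code 5, .code 1054, .code 5, .ext 1 187 [0, 1, 2] [], .code 416, .ext 0 181 [0, 3, 0, 1] [], .code 827, .ext 1 224 [0, 1, 3, 2] [], .code 224, .ext 0 226 [1, 3, 0] [], .code 5, .code 827, .code 5] [] (some (5, 8))),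
  (.edge 0 474 17 243 35 763, .walk ⟨243, 35, 766⟩ [.ext 0 184 [0, 1, 1] [], .ext 0 146 [0] [34], .merge 149] [] (some (0, 1))),
  (.edge 0 756 17 0 100 0, .def'),
  (.edge 0 761 100 550 56 3, .walk ⟨550, 56, 0⟩ [.code 247, .ext 0 240 [3, 2] [], .code 247, .ext 0 146 [0] [34], .merge 149, .code 247, .ext 0 338 [0, 3, 0, 1] [], .code 247] [] (some (2, 3))),
  (.edge 0 975 35 0 101 0, .def'),
  (.edge 1 0 101 975 35 0, .walk ⟨975, 35, 0⟩ [.ext 0 340 [] []] [] (some (3, 0))),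
  (.pair 101 5 963, .walk ⟨12, 35, 0⟩ [.ext 0 340 [] [183]] [.ext 0 340 [1, 2, 0, 3] []] none),
  (.edge 1 827 101 0 102 0, .def'),
  (.edge 0 224 102 0 103 0, .def'),
  (.edge 1 815 103 0 104 0, .def'),
  (.edge 0 416 104 880 91 961, .walk ⟨880, 91, 74⟩ [.code 1054, .ext 1 322 [0, 3, 1] [], .code 224, .ext 0 323 [0, 2, 1, 3] [], .code 5, .code 1054, .code 5, .ext 1 185 [0, 1, 1] [], .code 416, .ext 0 340 [1, 2, 0, 3] [], .code 827, .ext 1 343 [] [342], .code 224, .ext 0 344 [] [], .code 5, .code 827, .code 5, .ext 1 345 [] [], .code 416] [] (some (5, 6))),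
  (.edge 1 880 91 416 104 961, .walk ⟨416, 104, 0⟩ [.ext 0 346 [] []] [] (some (3, 0))),
  (.edge 1 62 101 0 105 0, .def'),
  (.edge 0 0 105 62 101 0, .walk ⟨62, 101, 0⟩ [.ext 1 348 [] []] [] (some (4, 0))),
  (.edge 0 224 105 0 106 0, .def'),
  (.edge 1 0 106 224 105 0, .walk ⟨224, 105, 0⟩ [.ext 0 350 [] []] [] (some (3, 0))),
  (.edge 1 815 106 0 107 0, .def'),
  (.edge 0 416 107 16 91 961, .walk ⟨16, 91, 74⟩ [.code 1054, .ext 1 322 [1, 2, 0, 3] [], .code 224, .ext 0 323 [1, 2, 0, 3] [], .code 5, .code 1054, .code 5, .ext 1 185 [0] [], .code 416, .ext 0 340 [0, 3, 1] [], .code 827, .ext 1 348 [] [342], .code 224, .ext 0 350 [] [], .code 5, .code 827, .code 5, .ext 1 352 [] [], .code 416] [] (some (5, 6))),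
  (.edge 0 764 102 0 108 0, .def'),
  (.edge 1 815 108 0 109 0, .def'),
  (.edge 0 416 109 880 98 961, .walk ⟨880, 98, 74⟩ [.code 1054, .ext 1 333 [0, 3, 1] [], .code 224, .ext 0 323 [0, 0, 1] [], .code 5, .code 1054, .code 5, .ext 1 185 [0, 0, 0, 1, 1] [], .code 416, .ext 0 340 [0, 1, 2, 3] [], .code 827, .ext 1 343 [0, 3, 2] [342], .code 224, .ext 0 354 [] [], .code 5, .code 827, .code 5, .ext 1 355 [] [], .code 416] [] (some (5, 6))),
  (.edge 0 252 17 0 110 0, .def'),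
  (.merge 110 86 462 3, .walk ⟨250, 86, 966⟩ [.ext 0 313 [1, 3, 0] [], .code 247, .ext 0 176 [1, 3] [], .code 247, .ext 0 146 [0, 0] [], .merge 149, .code 247, .ext 0 357 [0] [], .code 247] [] (some (2, 4))),
  (.edge 1 51 43 992 109 966, .walk ⟨992, 109, 766⟩ [.code 416, .ext 0 356 [0, 3, 2] [], .code 1054, .ext 1 333 [0, 1, 3] [], .code 224, .ext 0 323 [1] [], .code 5, .code 1054, .code 5, .ext 1 185 [3, 2] [], .code 416, .ext 0 192 [0, 0, 1, 2, 3] [], .code 827, .ext 1 206 [0, 1, 3, 2] [], .code 224, .ext 0 208 [1, 3, 0] [], .code 5, .code 827, .code 5] [] (some (5, 8))),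
  (.edge 1 822 47 992 104 966, .walk ⟨992, 104, 766⟩ [.code 416, .ext 0 346 [0, 3, 2] [], .code 1054, .ext 1 322 [0, 1, 3] [], .code 224, .ext 0 323 [0, 1, 3, 2] [], .code 5, .code 1054, .code 5, .ext 1 185 [0, 0, 3, 2] [], .code 416, .ext 0 192 [1, 2, 3] [], .code 827, .ext 1 206 [1, 1, 1] [], .code 224, .ext 0 219 [0, 1, 2, 3] [], .code 5, .code 827, .code 5] [] (some (5, 8))),
  (.edge 0 992 104 822 47 966, .walk ⟨822, 47, 0⟩ [.ext 1 360 [] []] [] (some (4, 0))),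
  (.edge 1 51 38 992 107 966, .walk ⟨992, 107, 766⟩ [.code 416, .ext 0 353 [0, 3, 2] [], .code 1054, .ext 1 322 [0, 1, 2, 3] [], .code 224, .ext 0 323 [0, 1, 2, 3] [], .code 5, .code 1054, .code 5, .ext 1 185 [0, 0, 2, 3] [], .code 416, .ext 0 192 [3, 1] [], .code 827, .ext 1 193 [0, 1, 3, 2] [], .code 224, .ext 0 195 [1, 3, 0] [], .code 5, .code 827, .code 5] [] (some (5, 8))),
  (.edge 0 96 6 0 111 0, .def'),
  (.edge 1 0 111 96 6 0, .walk ⟨96, 6, 0⟩ [.ext 0 363 [] []] [] (some (3, 0))),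
  (.edge 0 0 111 993 76 965, .walk ⟨993, 76, 965⟩ [.ext 0 285 [3, 2] [], .ext 0 363 [] [34]] [] (some (0, 1))),
  (.edge 1 993 76 0 111 965, .walk ⟨0, 111, 0⟩ [.ext 0 365 [] []] [] (some (3, 0))),
  (.edge 0 1125 111 0 112 0, .def'),
  (.edge 0 1125 112 0 113 0, .def'),
  (.edge 0 1125 113 722 80 0, .walk ⟨722, 80, 0⟩ [.code 1125, .ext 0 297 [0, 0, 2] [], .code 1125, .ext 0 363 [] [], .code 1125, .ext 0 367 [] [], .code 1125, .ext 0 368 [] [], .code 1125] [] (some (1, 3))),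
  (.edge 1 722 80 1125 113 0, .walk ⟨1125, 113, 0⟩ [.ext 0 369 [] []] [] (some (3, 0))),
  (.edge 0 82 76 0 114 0, .def'),
  (.edge 1 62 114 0 115 0, .def'),
  (.edge 0 0 115 62 114 0, .walk ⟨62, 114, 0⟩ [.ext 1 372 [] []] [] (some (4, 0))),
  (.edge 0 224 115 878 50 764, .walk ⟨878, 50, 79⟩ [.code 5, .code 827, .code 5, .ext 1 227 [1, 3, 0] [], .code 416, .ext 0 225 [0, 1, 3, 2] [], .code 1054, .ext 1 182 [0, 3, 0, 1] [], .code 224, .ext 0 186 [0, 1, 2] [], .code 5, .code 1054, .code 5, .ext 1 286 [0, 2, 1, 2] [], .code 416, .ext 0 371 [1, 1, 2] [], .code 827, .ext 1 372 [] [], .code 224] [] (some (5, 12))),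
  (.edge 1 878 50 224 115 736, .walk ⟨224, 115, 0⟩ [.ext 0 374 [] []] [] (some (3, 0))),
  (.edge 0 764 115 1038 99 764, .walk ⟨1038, 99, 79⟩ [.code 5, .code 827, .code 5, .ext 1 335 [] [], .code 416, .ext 0 317 [0, 3, 2] [], .code 1054, .ext 1 315 [0, 0] [], .code 224, .ext 0 186 [0, 3, 0, 1] [], .code 5, .code 1054, .code 5, .ext 1 286 [0, 1, 1, 1] [], .code 416, .ext 0 371 [0, 0, 1, 1, 2] [], .code 827, .ext 1 372 [0, 3, 2] [], .code 224] [] (some (5, 12))),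
  (.edge 1 47 114 0 116 0, .def'),
  (.edge 0 224 116 1040 47 77, .walk ⟨1040, 47, 766⟩ [.code 5, .code 827, .code 5, .ext 1 220 [0, 1, 2, 3] [], .code 416, .ext 0 207 [1, 1, 1] [], .code 1054, .ext 1 190 [1, 2, 3] [], .merge 191, .code 224, .ext 0 184 [0, 0, 3, 2] [], .code 5, .code 1054, .code 5, .ext 1 286 [2, 3] [35], .code 416, .ext 0 371 [0, 3, 1] [], .code 827, .ext 1 377 [] [], .code 224] [] (some (5, 12))),
  (.edge 1 1040 47 224 116 83, .walk ⟨224, 116, 0⟩ [.ext 0 378 [] []] [] (some (3, 0))),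
  (.edge 1 810 114 0 117 0, .def'),
  (.edge 0 224 117 878 38 77, .walk ⟨878, 38, 766⟩ [.code 5, .code 827, .code 5, .ext 1 196 [1, 3, 0] [], .code 416, .ext 0 194 [0, 1, 3, 2] [], .code 1054, .ext 1 190 [3, 1] [], .merge 191, .code 224, .ext 0 184 [0, 0, 2, 3] [], .code 5, .code 1054, .code 5, .ext 1 286 [3, 2] [35], .code 416, .ext 0 371 [1, 2, 0, 3] [], .code 827, .ext 1 380 [] [], .code 224] [] (some (5, 12))),
  (.edge 1 878 38 224 117 83, .walk ⟨224, 117, 0⟩ [.ext 0 381 [] []] [] (some (3, 0))),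
  (.edge 0 65 111 0 118 0, .def'),
  (.merge 118 113 459 965, .walk ⟨1123, 113, 965⟩ [.ext 0 369 [1, 1, 2] [], .code 247, .ext 0 297 [0, 2] [], .code 247, .ext 0 363 [2, 0] [34], .code 247, .ext 0 383 [0, 3, 0, 1] [], .code 247] [] (some (2, 4))),
  (.edge 0 12 76 0 119 0, .def'),
  (.edge 1 827 119 0 120 0, .def'),
  (.edge 0 224 120 1038 89 764, .walk ⟨1038, 89, 79⟩ [.code 5, .code 827, .code 5, .ext 1 319 [] [], .code 416, .ext 0 317 [] [], .code 1054, .ext 1 315 [] [], .code 224, .ext 0 186 [0, 1, 3, 0] [], .code 5, .code 1054, .code 5, .ext 1 286 [0, 0, 1, 2, 3] [], .code 416, .ext 0 385 [] [], .code 827, .ext 1 386 [] [], .code 224] [] (some (5, 12))),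
  (.edge 0 764 120 1040 51 764, .walk ⟨1040, 51, 79⟩ [.code 5, .code 827, .code 5, .ext 1 230 [0, 1, 2, 3] [], .code 416, .ext 0 225 [1, 1, 1] [], .code 1054, .ext 1 182 [0, 1, 3, 0] [], .code 224, .ext 0 186 [1, 2, 0] [], .code 5, .code 1054, .code 5, .ext 1 286 [1, 2, 3] [], .code 416, .ext 0 385 [0, 0] [], .code 827, .ext 1 386 [0, 3, 2] [], .code 224] [] (some (5, 12))),
  (.edge 1 1040 51 764 120 736, .walk ⟨764, 120, 0⟩ [.ext 0 388 [] []] [] (some (3, 0))),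
  (.edge 1 47 119 0 121 0, .def'),
  (.edge 0 224 121 1038 106 766, .walk ⟨1038, 106, 77⟩ [.code 5, .code 827, .code 5, .ext 1 351 [] [], .code 416, .ext 0 349 [] [], .code 1054, .ext 1 341 [1, 1, 2] [], .code 224, .ext 0 184 [2, 1, 3] [], .code 5, .code 1054, .code 5, .ext 1 286 [0] [], .code 416, .ext 0 385 [0, 3, 1] [], .code 827, .ext 1 390 [] [], .code 224] [] (some (5, 12))),
  (.edge 1 1038 106 224 121 741, .walk ⟨224, 121, 0⟩ [.ext 0 391 [] []] [] (some (3, 0))),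
  (.edge 0 764 121 878 43 77, .walk ⟨878, 43, 766⟩ [.code 5, .code 827, .code 5, .ext 1 209 [1, 3, 0] [], .code 416, .ext 0 207 [0, 1, 3, 2] [], .code 1054, .ext 1 190 [0, 0, 1, 2, 3] [], .merge 191, .code 224, .ext 0 184 [3, 2] [], .code 5, .code 1054, .code 5, .ext 1 286 [0, 0, 0] [35], .code 416, .ext 0 385 [0, 1, 3] [], .code 827, .ext 1 390 [0, 3, 2] [], .code 224] [] (some (5, 12))),
  (.edge 1 878 43 764 121 83, .walk ⟨764, 121, 0⟩ [.ext 0 393 [] []] [] (some (3, 0))),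
  (.edge 0 160 6 0 122 0, .def'),
  (.edge 0 0 122 1018 92 761, .walk ⟨1018, 92, 761⟩ [.ext 0 323 [0, 0, 1, 2] [], .ext 0 395 [] [34, 35]] [] (some (0, 1))),
  (.edge 1 1018 92 0 122 739, .walk ⟨0, 122, 0⟩ [.ext 0 396 [] []] [] (some (3, 0))),
  (.edge 0 1125 122 0 123 0, .def'),
  (.edge 0 1125 123 0 124 0, .def')]

/-- Part 4 of the identities. -/
def facts4 : List (Concl × Why) := [
  (.edge 0 1125 124 980 46 448, .walk ⟨980, 46, 448⟩ [.code 1125, .ext 0 215 [1, 1, 2] [], .code 1125, .ext 0 395 [] [], .code 1125, .ext 0 398 [] [], .code 1125, .ext 0 399 [] [], .code 1125] [] (some (1, 3))),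
  (.edge 0 761 123 767 41 448, .walk ⟨767, 41, 448⟩ [.code 247, .ext 0 202 [2, 1, 2] [], .code 247, .ext 0 395 [] [], .code 247, .ext 0 398 [0, 3, 0, 1] [], .code 247] [] (some (2, 3))),
  (.edge 0 65 122 0 125 0, .def'),
  (.merge 125 124 459 3, .walk ⟨1123, 124, 3⟩ [.ext 0 400 [1, 1, 2] [], .code 247, .ext 0 215 [1, 1, 2, 0] [], .code 247, .ext 0 395 [2, 0] [34, 35], .code 247, .ext 0 402 [0, 3, 0, 1] [], .code 247] [] (some (2, 4))),
  (.edge 0 84 111 0 126 0, .def'),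
  (.merge 126 75 458 966, .walk ⟨1122, 75, 966⟩ [.ext 0 283 [0, 0, 1, 1, 2] [], .code 247, .ext 0 285 [2, 0] [], .code 247, .ext 0 363 [3] [35], .code 247, .ext 0 404 [0, 3, 0, 1] [], .code 247] [] (some (2, 4))),
  (.edge 0 74 76 0 127 0, .def'),
  (.edge 0 1136 111 0 128 0, .def'),
  (.edge 0 1125 128 450 74 0, .walk ⟨450, 74, 0⟩ [.code 1125, .ext 0 287 [0, 0, 2] [], .code 1125, .ext 0 285 [0, 0, 0, 1, 1] [], .code 1125, .ext 0 363 [2, 0, 3] [35], .code 1125, .ext 0 407 [] [], .code 1125] [] (some (1, 5))),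
  (.edge 1 450 74 1125 128 0, .walk ⟨1125, 128, 0⟩ [.ext 0 408 [] []] [] (some (3, 0))),
  (.merge 128 82 944 0, .walk ⟨254, 82, 0⟩ [.ext 0 301 [0, 1, 2, 3] [], .code 247, .ext 0 285 [0, 2, 1] [], .code 247, .ext 0 363 [2, 0, 3] [], .code 247, .ext 0 407 [0, 3, 0, 1] [], .code 247] [] (some (2, 4))),
  (.edge 0 92 82 450 74 0, .walk ⟨1125, 128, 0⟩ [.merge 410] [.ext 0 408 [] []] none),
  (.edge 0 20 76 0 129 0, .def'),
  (.edge 1 47 129 0 130 0, .def'),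
  (.edge 0 736 122 0 131 0, .def'),
  (.edge 0 761 131 11 92 74, .walk ⟨11, 92, 761⟩ [.code 247, .ext 0 323 [0, 0, 1, 1, 2] [], .code 247, .ext 0 395 [0, 1, 1, 1] [35], .code 247, .ext 0 414 [0, 3, 0, 1] [], .code 247] [] (some (2, 3))),
  (.edge 0 95 92 0 132 0, .def'),
  (.edge 1 810 132 0 133 0, .def'),
  (.edge 0 232 122 0 134 0, .def'),
  (.edge 0 1125 134 0 135 0, .def'),
  (.edge 0 1125 135 976 92 74, .walk ⟨976, 92, 761⟩ [.code 1125, .ext 0 323 [] [], .code 1125, .ext 0 395 [1, 2] [35], .code 1125, .ext 0 418 [] [], .code 1125, .ext 0 419 [] [], .code 1125] [] (some (1, 3))),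
  (.edge 1 976 92 1125 135 85, .walk ⟨1125, 135, 0⟩ [.ext 0 420 [] []] [] (some (3, 0))),
  (.edge 0 761 134 77 92 764, .walk ⟨77, 92, 79⟩ [.code 247, .ext 0 323 [0, 3] [], .code 247, .ext 0 395 [1, 2] [], .code 247, .ext 0 418 [0, 3, 0, 1] [], .code 247] [] (some (2, 3))),
  (.edge 1 77 92 761 134 736, .walk ⟨761, 134, 0⟩ [.ext 0 422 [] []] [] (some (3, 0))),
  (.edge 0 320 6 0 136 0, .def'),
  (.pair 136 939 965, .walk ⟨868, 6, 0⟩ [.ext 0 424 [] [34]] [.ext 0 424 [0, 3, 0] []] none),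
  (.pair 136 930 966, .walk ⟨330, 6, 0⟩ [.ext 0 424 [] [35]] [.ext 0 424 [1, 1, 2, 0] []] none),
  (.edge 0 1125 136 0 137 0, .def'),
  (.merge 137 135 463 965, .walk ⟨1120, 135, 965⟩ [.ext 0 420 [0, 0, 2] [], .code 247, .ext 0 323 [0, 2] [], .code 247, .ext 0 424 [0, 2, 3] [], .code 247, .ext 0 427 [0, 3, 0, 1] [425, 426], .code 247] [] (some (2, 4))),
  (.edge 0 743 17 0 138 0, .def'),
  (.edge 1 0 138 743 17 0, .walk ⟨743, 17, 0⟩ [.ext 0 429 [] []] [] (some (3, 0))),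
  (.merge 138 35 973 79, .walk ⟨95, 35, 74⟩ [.ext 0 192 [0, 3, 1] [], .code 247, .ext 0 186 [1, 1, 2, 0] [], .code 247, .ext 0 146 [0, 1, 1, 1] [], .merge 149, .code 247, .ext 0 429 [0, 3, 0, 1] [], .code 247] [] (some (2, 4))),
  (.edge 1 973 35 743 17 86, .walk ⟨0, 138, 0⟩ [.merge 431] [.ext 1 430 [] []] none),
  (.merge 34 17 246 86, .walk ⟨973, 35, 0⟩ [.ext 1 182 [0, 0, 3, 0] []] [.ext 1 432 [] []] none),
  (.edge 0 958 17 723 6 965, .walk ⟨761, 34, 0⟩ [.merge 433] [.ext 0 186 [] []] none),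
  (.edge 0 1017 17 0 87 79, .walk ⟨463, 34, 0⟩ [.merge 433] [.ext 0 314 [] []] none),
  (.edge 1 246 17 1125 33 79, .walk ⟨0, 34, 0⟩ [.merge 433] [.ext 1 179 [] []] none),
  (.edge 1 1014 17 745 35 74, .walk ⟨449, 34, 0⟩ [.merge 433] [.ext 1 190 [] [], .merge 191] none),
  (.edge 1 368 17 0 37 79, .walk ⟨44, 34, 0⟩ [.merge 433] [.ext 1 193 [] []] none),
  (.edge 1 1115 17 0 42 79, .walk ⟨816, 34, 0⟩ [.merge 433] [.ext 1 206 [] []] none),
  (.edge 1 442 17 761 67 965, .walk ⟨1148, 34, 0⟩ [.merge 433] [.ext 1 267 [] []] none),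
  (.edge 0 740 87 990 33 5, .walk ⟨990, 33, 79⟩ [.code 1125, .ext 0 178 [0, 0, 1, 2, 3] [], .merge 433, .code 1125, .ext 0 434 [0, 0, 0] [], .code 1125, .ext 0 146 [1, 2] [], .merge 149, .code 1125, .ext 0 435 [0, 2, 1, 2] [], .code 1125] [] (some (1, 5))),
  (.merge 87 68 978 739, .walk ⟨252, 68, 965⟩ [.ext 0 265 [0, 1, 3, 2] [], .code 247, .ext 0 184 [0, 2, 1, 2] [], .code 247, .ext 0 146 [1, 2] [], .merge 149, .code 247, .ext 0 435 [0, 3] [], .code 247] [] (some (2, 4))),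
  (.edge 0 91 68 990 33 764, .walk ⟨740, 87, 0⟩ [.merge 442] [.ext 0 441 [] []] none),
  (.edge 1 59 68 0 88 761, .walk ⟨827, 87, 0⟩ [.merge 442] [.ext 1 316 [] []] none),
  (.edge 1 814 68 0 93 761, .walk ⟨62, 87, 0⟩ [.merge 442] [.ext 1 325 [] []] none),
  (.merge 67 7 740 240, .walk ⟨569, 67, 712⟩ [] [.ext 0 264 [0, 2, 1, 2] [], .code 1125, .ext 0 443 [2, 1, 3] [], .code 1125, .ext 0 188 [1, 2, 3] [], .merge 191, .code 1125, .ext 0 184 [0, 3, 0, 1] [], .code 1125, .ext 0 36 [0, 3, 2] [], .code 1125] (some (1, 8))),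
  (.edge 0 6 7 442 17 717, .walk ⟨761, 67, 0⟩ [.merge 446] [.ext 0 266 [] [], .merge 433] none),
  (.edge 1 740 7 65 55 427, .walk ⟨0, 67, 0⟩ [.merge 446] [.ext 1 263 [] []] none),
  (.pair 17 1129 717, .walk ⟨6, 7, 0⟩ [.ext 0 447 [] []] [.ext 0 310 [0, 1, 1, 1] [], .merge 433] none),
  (.merge 86 35 549 552, .walk ⟨252, 17, 0⟩ [.ext 0 357 [] [], .merge 358] [.ext 0 337 [0, 3] [449]] none),
  (.edge 0 466 35 434 33 249, .walk ⟨1125, 86, 0⟩ [.merge 450] [.ext 0 313 [] []] none),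
  (.merge 100 6 757 246, .walk ⟨958, 17, 0⟩ [.ext 0 338 [1, 2, 3] [449]] [.ext 0 434 [] []] none),
  (.edge 0 12 6 550 56 429, .walk ⟨761, 100, 0⟩ [.merge 452] [.ext 0 339 [] []] none),
  (.merge 68 6 81 718, .walk ⟨1017, 17, 0⟩ [.ext 0 435 [] [], .merge 442] [.ext 0 338 [0, 2, 1, 3] [449, 449], .merge 452] none),
  (.edge 0 18 6 990 33 450, .walk ⟨91, 68, 0⟩ [.merge 454] [.ext 0 443 [] []] none),
  (.edge 1 159 6 0 88 455, .walk ⟨59, 68, 0⟩ [.merge 454] [.ext 1 444 [] []] none),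
  (.edge 1 634 6 0 93 455, .walk ⟨814, 68, 0⟩ [.merge 454] [.ext 1 445 [] []] none),
  (.merge 33 6 457 944, .walk ⟨246, 17, 0⟩ [.ext 1 436 [] []] [.ext 1 88 [2] [449], .merge 147] none),
  (.merge 37 18 963 947, .walk ⟨368, 17, 0⟩ [.ext 1 438 [] []] [.ext 1 90 [0, 1, 3, 2] [449]] none),
  (.edge 0 1145 18 0 38 955, .walk ⟨224, 37, 0⟩ [.merge 459] [.ext 0 195 [] []] none),
  (.merge 42 26 961 420, .walk ⟨1115, 17, 0⟩ [.ext 1 439 [] []] [.ext 1 150 [0, 1, 2, 3] [89, 449]] none),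
  (.edge 0 1149 26 0 43 230, .walk ⟨224, 42, 0⟩ [.merge 461] [.ext 0 208 [] []] none),
  (.edge 0 76 26 0 47 230, .walk ⟨764, 42, 0⟩ [.merge 461] [.ext 0 219 [] []] none),
  (.merge 35 7 73 949, .walk ⟨442, 17, 0⟩ [.ext 1 437 [1, 3, 2] [449]] [.ext 1 440 [] [], .merge 446] none),
  (.edge 1 73 7 419 17 1129, .walk ⟨0, 35, 0⟩ [.merge 464] [.ext 1 182 [] [], .merge 433] none),
  (.edge 1 302 7 0 49 958, .walk ⟨676, 35, 0⟩ [.merge 464] [.ext 1 224 [] []] none),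
  (.edge 1 582 7 0 52 958, .walk ⟨837, 35, 0⟩ [.merge 464] [.ext 1 231 [] []] none),
  (.merge 101 6 248 552, .walk ⟨466, 35, 0⟩ [.ext 0 340 [0, 0, 2, 3] []] [.ext 0 451 [] [], .merge 458] none),
  (.edge 1 1090 6 0 102 557, .walk ⟨827, 101, 0⟩ [.merge 468] [.ext 1 343 [] []] none),
  (.edge 1 376 6 0 105 557, .walk ⟨62, 101, 0⟩ [.merge 468] [.ext 1 348 [] []] none),
  (.merge 56 3 515 1014, .walk ⟨12, 6, 0⟩ [.ext 0 453 [] []] [.ext 0 33 [0] [], .merge 129] none),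
  (.edge 0 628 3 0 57 1010, .walk ⟨704, 56, 0⟩ [.merge 471] [.ext 0 242 [] []] none),
  (.edge 0 810 3 0 69 1010, .walk ⟨1005, 56, 0⟩ [.merge 471] [.ext 0 268 [] []] none),
  (.merge 55 6 937 960, .walk ⟨18, 6, 0⟩ [.ext 0 236 [1, 1] []] [.ext 0 455 [] [], .merge 458] none),
  (.merge 88 76 1134 457, .walk ⟨159, 6, 0⟩ [.ext 1 456 [] []] [.ext 1 286 [1, 1, 2, 0] []] none),
  (.edge 0 443 76 0 89 455, .walk ⟨224, 88, 0⟩ [.merge 475] [.ext 0 318 [] []] none),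
  (.edge 0 451 76 0 99 455, .walk ⟨764, 88, 0⟩ [.merge 475] [.ext 0 334 [] []] none),
  (.merge 93 92 1150 1122, .walk ⟨634, 6, 0⟩ [.ext 1 457 [] []] [.ext 1 324 [0, 2, 1, 3] []] none),
  (.edge 0 420 92 0 94 725, .walk ⟨224, 93, 0⟩ [.merge 478] [.ext 0 326 [] []] none),
  (.merge 49 6 1022 526, .walk ⟨302, 7, 0⟩ [.ext 1 466 [] []] [.ext 1 448 [0, 0, 3, 2] [39, 38], .merge 474] none),
  (.edge 0 456 6 0 50 269, .walk ⟨224, 49, 0⟩ [.merge 480] [.ext 0 226 [] []] none),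
  (.edge 0 421 6 0 51 269, .walk ⟨764, 49, 0⟩ [.merge 480] [.ext 0 229 [] []] none),
  (.merge 52 17 425 151, .walk ⟨582, 7, 0⟩ [.ext 1 467 [] []] [.ext 1 465 [1, 1, 2, 0] [39]] none),
  (.edge 0 20 17 0 53 133, .walk ⟨224, 52, 0⟩ [.merge 483] [.ext 0 232 [] []] none),
  (.edge 0 1012 17 0 54 133, .walk ⟨764, 52, 0⟩ [.merge 483] [.ext 0 234 [] []] none),
  (.merge 102 76 247 555, .walk ⟨1090, 6, 0⟩ [.ext 1 469 [] []] [.ext 1 286 [0, 3, 0, 1] [34, 35]] none),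
  (.edge 0 954 76 0 108 554, .walk ⟨764, 102, 0⟩ [.merge 486] [.ext 0 354 [] []] none),
  (.merge 105 92 224 435, .walk ⟨376, 6, 0⟩ [.ext 1 470 [] []] [.ext 1 324 [] [34]] none),
  (.edge 0 704 92 0 106 251, .walk ⟨224, 105, 0⟩ [.merge 488] [.ext 0 350 [] []] none),
  (.merge 57 6 19 424, .walk ⟨628, 3, 0⟩ [.ext 0 472 [] []] [.ext 0 173 [0, 0, 3, 2] [142], .merge 458] none),
  (.edge 1 807 6 0 58 245, .walk ⟨827, 57, 0⟩ [.merge 490] [.ext 1 244 [] []] none),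
  (.edge 1 51 6 0 61 245, .walk ⟨62, 57, 0⟩ [.merge 490] [.ext 1 249 [] []] none),
  (.edge 1 34 6 0 64 245, .walk ⟨47, 57, 0⟩ [.merge 490] [.ext 1 255 [] []] none),
  (.merge 69 6 945 240, .walk ⟨810, 3, 0⟩ [.ext 0 473 [] []] [.ext 0 173 [1, 1, 2] [17, 20], .merge 458] none),
  (.edge 1 854 6 0 70 427, .walk ⟨62, 69, 0⟩ [.merge 494] [.ext 1 270 [] []] none),
  (.merge 127 89 464 455, .walk ⟨443, 76, 0⟩ [.ext 0 406 [0, 2, 1, 2] []] [.ext 0 476 [] []] none),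
  (.merge 129 99 940 455, .walk ⟨451, 76, 0⟩ [.ext 0 412 [0, 1, 2] []] [.ext 0 477 [] []] none),
  (.edge 1 848 99 0 130 457, .walk ⟨47, 129, 0⟩ [.merge 497] [.ext 1 413 [] []] none),
  (.merge 132 94 941 725, .walk ⟨420, 92, 0⟩ [.ext 0 416 [2, 0, 1] []] [.ext 0 479 [] []] none)]

/-- Part 5 of the identities. -/
def facts5 : List (Concl × Why) := [
  (.edge 1 689 94 0 133 1122, .walk ⟨810, 132, 0⟩ [.merge 499] [.ext 1 417 [] []] none),
  (.merge 50 6 474 411, .walk ⟨456, 6, 0⟩ [.ext 0 481 [] []] [.ext 0 236 [0, 0, 1, 2] [], .merge 474] none),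
  (.edge 1 863 6 992 39 329, .walk ⟨815, 50, 0⟩ [.merge 501] [.ext 1 228 [] []] none),
  (.edge 1 695 6 224 84 807, .walk ⟨43, 50, 0⟩ [.merge 501] [.ext 1 307 [] []] none),
  (.edge 1 686 6 992 95 390, .walk ⟨51, 50, 0⟩ [.merge 501] [.ext 1 336 [] []] none),
  (.edge 1 220 6 224 115 314, .walk ⟨878, 50, 0⟩ [.merge 501] [.ext 1 375 [] []] none),
  (.merge 51 17 937 525, .walk ⟨421, 6, 0⟩ [.ext 0 482 [] []] [.ext 0 146 [1, 2, 0] [34], .merge 149] none),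
  (.edge 1 192 17 764 120 579, .walk ⟨1040, 51, 0⟩ [.merge 506] [.ext 1 389 [] []] none),
  (.merge 53 6 75 1081, .walk ⟨20, 17, 0⟩ [.ext 0 484 [] []] [.ext 0 338 [0, 0, 2, 1] [449], .merge 452] none),
  (.edge 1 620 6 992 48 385, .walk ⟨815, 53, 0⟩ [.merge 508] [.ext 1 233 [] []] none),
  (.merge 54 6 721 216, .walk ⟨1012, 17, 0⟩ [.ext 0 485 [] []] [.ext 0 338 [2, 1, 3] [449, 449], .merge 452] none),
  (.edge 1 295 6 992 44 923, .walk ⟨815, 54, 0⟩ [.merge 510] [.ext 1 235 [] []] none),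
  (.edge 1 591 6 224 78 288, .walk ⟨43, 54, 0⟩ [.merge 510] [.ext 1 292 [] []] none),
  (.merge 108 99 963 1122, .walk ⟨954, 76, 0⟩ [.ext 0 487 [] []] [.ext 0 412 [0, 0, 2, 3] [], .merge 497] none),
  (.edge 1 58 99 0 109 725, .walk ⟨815, 108, 0⟩ [.merge 513] [.ext 1 355 [] []] none),
  (.merge 106 94 963 251, .walk ⟨704, 92, 0⟩ [.ext 0 489 [] []] [.ext 0 416 [0, 0, 3, 2] [], .merge 499] none),
  (.edge 1 868 94 224 121 1014, .walk ⟨1038, 106, 0⟩ [.merge 515] [.ext 1 392 [] []] none),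
  (.merge 58 46 547 74, .walk ⟨807, 6, 0⟩ [.ext 1 491 [] []] [.ext 1 216 [0, 3, 2] []] none),
  (.edge 0 950 46 0 59 85, .walk ⟨224, 58, 0⟩ [.merge 517] [.ext 0 245 [] []] none),
  (.merge 80 61 1 245, .walk ⟨51, 6, 0⟩ [.ext 1 298 [0, 0] []] [.ext 1 492 [] []] none),
  (.edge 0 705 61 0 83 424, .walk ⟨704, 80, 0⟩ [.merge 519] [.ext 0 304 [] []] none),
  (.edge 1 723 61 1125 113 424, .walk ⟨722, 80, 0⟩ [.merge 519] [.ext 1 370 [] []] none),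
  (.pair 61 11 963, .walk ⟨860, 6, 0⟩ [.ext 1 492 [] [34]] [.ext 1 298 [1, 1, 2, 0] [], .merge 519] none),
  (.merge 73 64 3 245, .walk ⟨34, 6, 0⟩ [.ext 1 279 [0, 0, 1, 1] []] [.ext 1 493 [] []] none),
  (.edge 0 711 64 0 77 424, .walk ⟨704, 73, 0⟩ [.merge 523] [.ext 0 289 [] []] none),
  (.pair 64 930 963, .walk ⟨844, 6, 0⟩ [.ext 1 493 [] [34]] [.ext 1 279 [0, 0, 3] [], .merge 523] none),
  (.merge 70 61 929 715, .walk ⟨854, 6, 0⟩ [.ext 1 495 [] []] [.ext 1 298 [3] [], .merge 519] none),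
  (.edge 0 749 61 0 71 1129, .walk ⟨224, 70, 0⟩ [.merge 526] [.ext 0 272 [] []] none),
  (.merge 61 39 1002 1070, .walk ⟨863, 6, 0⟩ [.ext 1 298 [0, 1, 1, 2] [], .merge 519] [.ext 1 502 [] []] none),
  (.edge 0 464 39 0 62 634, .walk ⟨224, 61, 0⟩ [.merge 528] [.ext 0 251 [] []] none),
  (.edge 0 77 39 0 83 347, .walk ⟨705, 61, 0⟩ [.merge 528] [.ext 0 520 [] []] none),
  (.edge 1 95 39 1125 113 347, .walk ⟨723, 61, 0⟩ [.merge 528] [.ext 1 521 [] []] none),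
  (.pair 39 31 43, .walk ⟨48, 6, 0⟩ [.ext 1 502 [] [34]] [.ext 1 298 [] [], .merge 519, .merge 528] none),
  (.pair 39 95 32, .walk ⟨854, 6, 0⟩ [.ext 1 502 [] [35]] [.ext 1 298 [3] [], .merge 519, .merge 528] none),
  (.merge 84 41 25 848, .walk ⟨695, 6, 0⟩ [.ext 1 503 [] []] [.ext 1 203 [1, 1, 2, 0] []] none),
  (.merge 95 46 739 357, .walk ⟨686, 6, 0⟩ [.ext 1 504 [] []] [.ext 1 216 [1, 1, 2, 0] []] none),
  (.edge 0 739 46 815 94 503, .walk ⟨0, 95, 0⟩ [.merge 535] [.ext 0 328 [] []] none),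
  (.edge 0 955 46 864 91 503, .walk ⟨416, 95, 0⟩ [.merge 535] [.ext 0 329 [] []] none),
  (.merge 115 64 445 585, .walk ⟨220, 6, 0⟩ [.ext 1 505 [] []] [.ext 1 279 [0, 0, 0, 1, 1] [], .merge 523] none),
  (.edge 0 445 64 62 114 1118, .walk ⟨0, 115, 0⟩ [.merge 538] [.ext 0 373 [] []] none),
  (.edge 0 1021 64 1038 99 207, .walk ⟨764, 115, 0⟩ [.merge 538] [.ext 0 376 [] []] none),
  (.merge 120 26 754 1069, .walk ⟨192, 17, 0⟩ [.ext 1 507 [] []] [.ext 1 150 [0, 0, 0, 1, 1] [89]] none),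
  (.edge 0 1019 26 1038 89 865, .walk ⟨224, 120, 0⟩ [.merge 541] [.ext 0 387 [] []] none),
  (.merge 92 48 737 164, .walk ⟨620, 6, 0⟩ [.ext 1 324 [0, 0] [35]] [.ext 1 509 [] []] none),
  (.edge 1 246 48 0 122 514, .walk ⟨1018, 92, 0⟩ [.merge 543] [.ext 1 397 [] []] none),
  (.edge 1 67 48 1125 135 400, .walk ⟨976, 92, 0⟩ [.merge 543] [.ext 1 421 [] []] none),
  (.edge 1 965 48 761 134 513, .walk ⟨77, 92, 0⟩ [.merge 543] [.ext 1 423 [] []] none),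
  (.merge 48 44 71 704, .walk ⟨295, 6, 0⟩ [.ext 1 324 [0, 3, 0] [35], .merge 543] [.ext 1 511 [] []] none),
  (.edge 0 71 44 815 47 1148, .walk ⟨0, 48, 0⟩ [.merge 547] [.ext 0 222 [] []] none),
  (.edge 1 564 44 0 122 633, .walk ⟨246, 48, 0⟩ [.merge 547] [.ext 1 544 [] []] none),
  (.edge 1 4 44 1125 135 922, .walk ⟨67, 48, 0⟩ [.merge 547] [.ext 1 545 [] []] none),
  (.edge 1 757 44 761 134 634, .walk ⟨965, 48, 0⟩ [.merge 547] [.ext 1 546 [] []] none),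
  (.merge 78 76 23 1117, .walk ⟨591, 6, 0⟩ [.ext 1 512 [] []] [.ext 1 286 [0, 1, 3, 2] [35]] none),
  (.merge 130 109 970 554, .walk ⟨58, 99, 0⟩ [.ext 1 498 [0, 3, 0, 1] []] [.ext 1 514 [] []] none),
  (.merge 133 121 1136 949, .walk ⟨868, 94, 0⟩ [.ext 1 500 [2, 1, 3] []] [.ext 1 516 [] []] none),
  (.merge 59 45 856 72, .walk ⟨950, 46, 0⟩ [.ext 0 518 [] []] [.ext 0 214 [0, 0, 3, 2] [217, 218]] none),
  (.edge 1 347 45 0 60 80, .walk ⟨815, 59, 0⟩ [.merge 555] [.ext 1 246 [] []] none),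
  (.merge 83 62 466 240, .walk ⟨705, 61, 0⟩ [.ext 0 520 [] []] [.ext 0 251 [0, 2, 1, 2] [250, 522]] none),
  (.merge 77 65 466 1135, .walk ⟨711, 64, 0⟩ [.ext 0 524 [] []] [.ext 0 257 [0, 2, 1, 2] [525]] none),
  (.edge 1 689 65 23 76 43, .walk ⟨47, 77, 0⟩ [.merge 558] [.ext 1 290 [] [], .merge 552] none),
  (.merge 71 62 3 718, .walk ⟨749, 61, 0⟩ [.ext 0 527 [] []] [.ext 0 251 [0, 0] [250, 522]] none),
  (.merge 62 38 801 1070, .walk ⟨464, 39, 0⟩ [.ext 0 529 [] []] [.ext 0 198 [1] []] none),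
  (.edge 1 1052 38 0 63 634, .walk ⟨815, 62, 0⟩ [.merge 561] [.ext 1 252 [] []] none),
  (.merge 40 38 339 32, .walk ⟨77, 39, 0⟩ [.ext 0 199 [2, 1, 2] [532]] [.ext 0 530 [] [], .merge 557, .merge 561] none),
  (.edge 1 322 38 416 66 204, .walk ⟨16, 40, 0⟩ [.merge 563] [.ext 1 261 [] []] none),
  (.merge 94 45 472 164, .walk ⟨739, 46, 0⟩ [.ext 0 536 [] []] [.ext 0 214 [0, 0, 1, 2, 3] [217]] none),
  (.edge 1 36 45 1136 121 347, .walk ⟨689, 94, 0⟩ [.merge 565] [.ext 1 500 [] [], .merge 554] none),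
  (.merge 91 45 965 359, .walk ⟨955, 46, 0⟩ [.ext 0 537 [] []] [.ext 0 214 [2, 3, 0] [217, 218]] none),
  (.edge 1 1028 45 416 104 592, .walk ⟨880, 91, 0⟩ [.merge 567] [.ext 1 347 [] []] none),
  (.merge 114 65 848 497, .walk ⟨445, 64, 0⟩ [.ext 0 539 [] []] [.ext 0 257 [3] [256]] none),
  (.edge 1 953 65 0 116 365, .walk ⟨47, 114, 0⟩ [.merge 569] [.ext 1 377 [] []] none),
  (.merge 99 65 821 698, .walk ⟨1021, 64, 0⟩ [.ext 0 540 [] []] [.ext 0 257 [0, 0, 1] []] none),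
  (.edge 1 462 65 970 109 283, .walk ⟨848, 99, 0⟩ [.merge 571] [.ext 1 498 [] [], .merge 553] none),
  (.merge 89 43 33 359, .walk ⟨1019, 26, 0⟩ [.ext 0 542 [] []] [.ext 0 462 [0, 3] []] none),
  (.merge 63 60 1129 240, .walk ⟨347, 45, 0⟩ [.ext 1 254 [1, 3] []] [.ext 1 556 [] []] none),
  (.merge 107 60 967 275, .walk ⟨1052, 38, 0⟩ [.ext 1 362 [0, 0, 1, 2] []] [.ext 1 562 [] [], .merge 574] none),
  (.merge 117 66 932 497, .walk ⟨322, 38, 0⟩ [.ext 1 382 [0, 0, 3] []] [.ext 1 564 [] []] none),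
  (.merge 121 104 1125 260, .walk ⟨1028, 45, 0⟩ [.ext 1 566 [1, 3, 0] []] [.ext 1 568 [] []] none),
  (.merge 116 109 932 703, .walk ⟨462, 65, 0⟩ [.ext 1 570 [0, 0, 1, 2] []] [.ext 1 572 [] []] none),
  (.edge 1 37 20 0 139 0, .def'),
  (.edge 0 224 139 0 140 0, .def'),
  (.edge 1 815 140 0 141 0, .def'),
  (.edge 0 0 141 815 140 0, .walk ⟨815, 140, 0⟩ [.ext 1 581 [] []] [] (some (4, 0))),
  (.edge 0 416 141 0 142 0, .def'),
  (.edge 1 0 142 416 141 0, .walk ⟨416, 141, 0⟩ [.ext 0 583 [] []] [] (some (3, 0))),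
  (.edge 1 1054 142 0 143 0, .def'),
  (.edge 0 0 143 1054 142 0, .walk ⟨1054, 142, 0⟩ [.ext 1 585 [] []] [] (some (4, 0))),
  (.edge 0 224 143 830 10 964, .walk ⟨830, 10, 0⟩ [.code 5, .code 1054, .code 5, .ext 1 99 [0, 0, 0, 3] [], .code 416, .ext 0 100 [0, 0, 1, 2] [97], .code 827, .ext 1 579 [] [], .code 224, .ext 0 580 [] [], .code 5, .code 827, .code 5, .ext 1 581 [] [], .code 416, .ext 0 583 [] [], .code 1054, .ext 1 585 [] [], .code 224] [] (some (5, 2))),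
  (.edge 1 830 10 224 143 964, .walk ⟨224, 143, 0⟩ [.ext 0 587 [] []] [] (some (3, 0))),
  (.pair 143 24 938, .walk ⟨692, 10, 0⟩ [.ext 1 588 [] [55]] [.ext 1 588 [0, 1, 1, 2] []] none),
  (.pair 143 94 11, .walk ⟨702, 10, 0⟩ [.ext 1 588 [] [56]] [.ext 1 588 [0, 0, 3] []] none),
  (.pair 143 71 2, .walk ⟨823, 10, 0⟩ [.ext 1 588 [] [57]] [.ext 1 588 [0, 3, 2] []] none),
  (.pair 143 65 939, .walk ⟨822, 10, 0⟩ [.ext 1 588 [] [58]] [.ext 1 588 [0, 2, 3] []] none),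
  (.pair 142 8 931, .walk ⟨70, 143, 0⟩ [.ext 0 586 [] [589, 590]] [.ext 0 586 [0, 0] [591]] none),
  (.pair 142 864 937, .walk ⟨65, 143, 0⟩ [.ext 0 586 [] [592]] [.ext 0 586 [1, 1, 2] [591]] none),
  (.pair 141 992 931, .walk ⟨8, 142, 0⟩ [.ext 1 584 [] [593]] [.ext 1 584 [0, 3, 2] []] none),
  (.edge 1 824 20 0 144 0, .def'),
  (.edge 0 224 144 0 145 0, .def'),
  (.edge 1 815 145 0 146 0, .def'),
  (.edge 0 416 146 0 147 0, .def')]

/-- Part 6 of the identities. -/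
def facts6 : List (Concl × Why) := [
  (.edge 1 1054 147 0 148 0, .def'),
  (.edge 0 224 148 814 10 964, .walk ⟨814, 10, 0⟩ [.code 5, .code 1054, .code 5, .ext 1 99 [1, 2] [], .code 416, .ext 0 100 [2, 0, 3] [97], .code 827, .ext 1 596 [] [], .code 224, .ext 0 597 [] [], .code 5, .code 827, .code 5, .ext 1 598 [] [], .code 416, .ext 0 599 [] [], .code 1054, .ext 1 600 [] [], .code 224] [] (some (5, 2))),
  (.edge 1 814 10 224 148 964, .walk ⟨224, 148, 0⟩ [.ext 0 601 [] []] [] (some (3, 0))),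
  (.pair 148 89 938, .walk ⟨677, 10, 0⟩ [.ext 1 602 [] [55]] [.ext 1 602 [1, 1, 3] []] none),
  (.pair 148 71 2, .walk ⟨807, 10, 0⟩ [.ext 1 602 [] [57]] [.ext 1 602 [0, 3, 2] []] none),
  (.pair 148 65 939, .walk ⟨806, 10, 0⟩ [.ext 1 602 [] [58]] [.ext 1 602 [0, 2, 3] []] none),
  (.edge 0 16 10 0 149 0, .def'),
  (.pair 149 938 939, .walk ⟨952, 10, 0⟩ [.ext 0 606 [] [55]] [.ext 0 606 [0, 0, 3] []] none),
  (.pair 149 9 9, .walk ⟨944, 10, 0⟩ [.ext 0 606 [] [56]] [.ext 0 606 [0, 2, 3] []] none),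
  (.pair 149 2 2, .walk ⟨19, 10, 0⟩ [.ext 0 606 [] [57]] [.ext 0 606 [0, 0, 1, 1] []] none),
  (.pair 149 1 938, .walk ⟨18, 10, 0⟩ [.ext 0 606 [] [58]] [.ext 0 606 [1, 1] []] none),
  (.edge 0 0 149 0 150 0, .def'),
  (.pair 150 1 2, .walk ⟨2, 149, 0⟩ [.ext 0 611 [] [609]] [.ext 0 611 [1, 1] []] none),
  (.edge 0 0 150 16 10 0, .walk ⟨16, 10, 0⟩ [.ext 0 606 [] [], .ext 0 611 [] []] [] (some (0, 0))),
  (.edge 1 16 10 0 150 0, .walk ⟨0, 150, 0⟩ [.ext 0 613 [] []] [] (some (3, 0))),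
  (.edge 0 1125 149 0 151 0, .def'),
  (.edge 1 0 151 1125 149 0, .walk ⟨1125, 149, 0⟩ [.ext 0 615 [] []] [] (some (3, 0))),
  (.pair 151 965 2, .walk ⟨1120, 149, 0⟩ [.ext 0 615 [] [609]] [.ext 0 615 [0, 0, 2] []] none),
  (.pair 151 3 938, .walk ⟨1124, 149, 0⟩ [.ext 0 615 [] [610]] [.ext 0 615 [0, 0] []] none),
  (.edge 0 1125 151 0 152 0, .def'),
  (.pair 152 5 2, .walk ⟨255, 151, 0⟩ [.ext 0 619 [] [617]] [.ext 0 619 [1, 2, 0, 3] []] none),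
  (.pair 152 966 938, .walk ⟨1121, 151, 0⟩ [.ext 0 619 [] [618]] [.ext 0 619 [2] []] none),
  (.edge 0 1125 152 1123 30 965, .walk ⟨1123, 30, 965⟩ [.code 1125, .ext 0 167 [0, 0, 2, 1] [], .code 1125, .ext 0 606 [0, 0, 3] [], .code 1125, .ext 0 615 [] [607], .code 1125, .ext 0 619 [] [], .code 1125] [] (some (1, 3))),
  (.edge 1 1123 30 1125 152 965, .walk ⟨1125, 152, 0⟩ [.ext 0 622 [] []] [] (some (3, 0))),
  (.edge 0 761 151 230 30 476, .walk ⟨230, 30, 476⟩ [.code 247, .ext 0 167 [1, 1, 1] [], .code 247, .ext 0 606 [0, 2, 3] [], .code 247, .ext 0 615 [0, 3, 0, 1] [608], .code 247] [] (some (2, 3))),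
  (.edge 0 704 150 0 153 0, .def'),
  (.pair 153 3 2, .walk ⟨705, 150, 0⟩ [.ext 0 625 [] [612]] [.ext 0 625 [0, 0] []] none),
  (.edge 1 827 153 0 154 0, .def'),
  (.pair 154 939 2, .walk ⟨819, 153, 0⟩ [.ext 1 627 [] [626]] [.ext 1 627 [0, 3, 2] []] none),
  (.edge 0 224 154 0 155 0, .def'),
  (.edge 1 47 153 0 156 0, .def'),
  (.pair 156 939 2, .walk ⟨38, 153, 0⟩ [.ext 1 630 [] [626]] [.ext 1 630 [0, 3, 2] []] none),
  (.edge 0 224 156 0 157 0, .def'),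
  (.edge 1 815 157 0 158 0, .def'),
  (.edge 0 416 158 16 142 964, .walk ⟨16, 142, 964⟩ [.code 1054, .ext 1 585 [1, 2, 0, 3] [], .code 224, .ext 0 587 [1, 2, 0, 3] [], .code 5, .code 1054, .code 5, .ext 1 614 [1, 1] [], .code 416, .ext 0 625 [0, 3, 1] [], .code 827, .ext 1 630 [] [], .code 224, .ext 0 632 [] [], .code 5, .code 827, .code 5, .ext 1 633 [] [], .code 416] [] (some (5, 6))),
  (.edge 0 32 10 0 159 0, .def'),
  (.pair 159 9 939, .walk ⟨847, 10, 0⟩ [.ext 0 635 [] [55]] [.ext 0 635 [0, 2, 3] []] none),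
  (.pair 159 8 9, .walk ⟨845, 10, 0⟩ [.ext 0 635 [] [56]] [.ext 0 635 [0, 3, 2] []] none),
  (.pair 159 931 2, .walk ⟨40, 10, 0⟩ [.ext 0 635 [] [57]] [.ext 0 635 [2, 0] []] none),
  (.pair 159 928 938, .walk ⟨41, 10, 0⟩ [.ext 0 635 [] [58]] [.ext 0 635 [0, 2] []] none),
  (.edge 0 0 159 0 160 0, .def'),
  (.pair 160 928 939, .walk ⟨9, 159, 0⟩ [.ext 0 640 [] [636]] [.ext 0 640 [0, 2] []] none),
  (.pair 160 931 9, .walk ⟨8, 159, 0⟩ [.ext 0 640 [] [637]] [.ext 0 640 [2, 0] []] none),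
  (.pair 160 939 2, .walk ⟨931, 159, 0⟩ [.ext 0 640 [] [638]] [.ext 0 640 [0, 3, 0] []] none),
  (.edge 0 0 160 32 10 0, .walk ⟨32, 10, 0⟩ [.ext 0 635 [] [], .ext 0 640 [] []] [] (some (0, 0))),
  (.edge 1 32 10 0 160 0, .walk ⟨0, 160, 0⟩ [.ext 0 644 [] []] [] (some (3, 0))),
  (.edge 0 1125 159 0 161 0, .def'),
  (.pair 161 966 936, .walk ⟨69, 159, 0⟩ [.ext 0 646 [] [639]] [.ext 0 646 [2] [638]] none),
  (.edge 0 1125 161 0 162 0, .def'),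
  (.pair 162 963 936, .walk ⟨251, 161, 0⟩ [.ext 0 648 [] [647]] [.ext 0 648 [3, 0, 1] []] none),
  (.edge 0 1125 162 0 163 0, .def'),
  (.pair 163 7 936, .walk ⟨252, 162, 0⟩ [.ext 0 650 [] [649]] [.ext 0 650 [0, 1, 3, 2] []] none),
  (.edge 0 1125 163 592 10 0, .walk ⟨592, 10, 0⟩ [.code 1125, .ext 0 635 [] [], .code 1125, .ext 0 646 [] [], .code 1125, .ext 0 648 [] [], .code 1125, .ext 0 650 [] [], .code 1125] [] (some (1, 1))),
  (.edge 1 592 10 1125 163 0, .walk ⟨1125, 163, 0⟩ [.ext 0 652 [] []] [] (some (3, 0))),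
  (.edge 0 704 160 0 164 0, .def'),
  (.pair 164 964 930, .walk ⟨1012, 160, 0⟩ [.ext 0 654 [] [642]] [.ext 0 654 [0, 0, 1, 1, 2] [641]] none),
  (.edge 1 827 164 0 165 0, .def'),
  (.edge 0 0 165 827 164 0, .walk ⟨827, 164, 0⟩ [.ext 1 656 [] []] [] (some (4, 0))),
  (.edge 0 224 165 43 157 928, .walk ⟨43, 157, 928⟩ [.code 5, .code 827, .code 5, .ext 1 633 [2] [], .code 416, .ext 0 634 [1, 1] [], .code 1054, .ext 1 585 [0, 2, 1, 3] [], .code 224, .ext 0 587 [3, 0, 1] [], .code 5, .code 1054, .code 5, .ext 1 645 [1] [], .code 416, .ext 0 654 [0, 0, 1, 1, 2] [643], .code 827, .ext 1 656 [] [655], .code 224] [] (some (5, 12))),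
  (.edge 1 43 157 224 165 928, .walk ⟨224, 165, 0⟩ [.ext 0 658 [] []] [] (some (3, 0))),
  (.edge 1 47 164 0 166 0, .def'),
  (.edge 0 0 166 47 164 0, .walk ⟨47, 164, 0⟩ [.ext 1 660 [] []] [] (some (4, 0))),
  (.edge 0 764 166 43 145 966, .walk ⟨43, 145, 975⟩ [.code 5, .code 827, .code 5, .ext 1 598 [2] [], .code 416, .ext 0 599 [1, 1] [], .code 1054, .ext 1 600 [1, 1] [], .code 224, .ext 0 601 [2] [], .code 5, .code 1054, .code 5, .ext 1 645 [2, 0, 3] [], .code 416, .ext 0 654 [0, 1, 3] [643], .code 827, .ext 1 660 [0, 3, 2] [], .code 224] [] (some (5, 12))),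
  (.edge 1 43 145 764 166 966, .walk ⟨764, 166, 0⟩ [.ext 0 662 [] []] [] (some (3, 0))),
  (.edge 0 48 10 0 167 0, .def'),
  (.pair 167 937 939, .walk ⟨862, 10, 0⟩ [.ext 0 664 [] [55]] [.ext 0 664 [3] []] none),
  (.pair 167 939 9, .walk ⟨861, 10, 0⟩ [.ext 0 664 [] [56]] [.ext 0 664 [0, 3, 0] []] none),
  (.pair 167 931 2, .walk ⟨56, 10, 0⟩ [.ext 0 664 [] [57]] [.ext 0 664 [2, 0] []] none),
  (.edge 0 0 167 0 168 0, .def'),
  (.pair 168 9 939, .walk ⟨937, 167, 0⟩ [.ext 0 668 [] [665]] [.ext 0 668 [0, 2, 3] []] none),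
  (.pair 168 8 9, .walk ⟨939, 167, 0⟩ [.ext 0 668 [] [666]] [.ext 0 668 [0, 3, 2] []] none),
  (.pair 168 939 2, .walk ⟨931, 167, 0⟩ [.ext 0 668 [] [667]] [.ext 0 668 [0, 3, 0] []] none),
  (.edge 0 0 168 48 10 0, .walk ⟨48, 10, 0⟩ [.ext 0 664 [] [], .ext 0 668 [] []] [] (some (0, 0))),
  (.edge 1 48 10 0 168 0, .walk ⟨0, 168, 0⟩ [.ext 0 672 [] []] [] (some (3, 0))),
  (.edge 0 704 168 0 169 0, .def'),
  (.pair 169 3 930, .walk ⟨728, 168, 0⟩ [.ext 0 674 [] [670]] [.ext 0 674 [0, 0] [669]] none),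
  (.edge 1 47 169 0 170 0, .def'),
  (.pair 170 939 930, .walk ⟨38, 169, 0⟩ [.ext 1 676 [] [675]] [.ext 1 676 [0, 3, 2] []] none),
  (.edge 0 764 170 43 140 966, .walk ⟨43, 140, 479⟩ [.code 5, .code 827, .code 5, .ext 1 581 [2] [], .code 416, .ext 0 583 [1, 1] [], .code 1054, .ext 1 585 [1, 1] [], .code 224, .ext 0 587 [2] [], .code 5, .code 1054, .code 5, .ext 1 673 [2, 0, 3] [], .code 416, .ext 0 674 [0, 1, 3] [671], .code 827, .ext 1 676 [0, 3, 2] [], .code 224] [] (some (5, 12))),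
  (.edge 0 474 11 64 30 470, .walk ⟨64, 30, 965⟩ [.ext 0 167 [1, 2, 3] [], .ext 0 59 [0, 0, 1, 2, 3] []] [] (some (0, 1))),
  (.edge 0 756 11 0 171 0, .def'),
  (.edge 0 1125 171 0 172 0, .def'),
  (.edge 0 1125 172 434 19 964, .walk ⟨434, 19, 471⟩ [.code 1125, .ext 0 98 [0, 1, 1, 1] [], .code 1125, .ext 0 59 [0, 0, 1, 2, 3] [55], .code 1125, .ext 0 680 [] [], .code 1125, .ext 0 681 [] [], .code 1125] [] (some (1, 3))),
  (.edge 0 761 171 434 150 939, .walk ⟨434, 150, 0⟩ [.code 247, .ext 0 613 [0, 0, 0] [], .code 247, .ext 0 59 [0, 0, 1, 2, 3] [55], .code 247, .ext 0 680 [0, 3, 0, 1] [], .code 247] [] (some (2, 3))),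
  (.edge 1 434 150 761 171 939, .walk ⟨761, 171, 0⟩ [.ext 0 683 [] []] [] (some (3, 0))),
  (.edge 0 947 30 0 173 0, .def'),
  (.edge 1 0 173 947 30 0, .walk ⟨947, 30, 0⟩ [.ext 0 685 [] []] [] (some (3, 0))),
  (.pair 173 962 939, .walk ⟨458, 30, 0⟩ [.ext 0 685 [] [160]] [.ext 0 685 [0, 3, 1] []] none),
  (.pair 173 5 2, .walk ⟨460, 30, 0⟩ [.ext 0 685 [] [161]] [.ext 0 685 [1, 2, 0, 3] []] none),
  (.edge 1 827 173 0 174 0, .def'),
  (.edge 0 0 174 827 173 0, .walk ⟨827, 173, 0⟩ [.ext 1 689 [] []] [] (some (4, 0))),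
  (.edge 0 224 174 0 175 0, .def'),
  (.edge 1 0 175 224 174 0, .walk ⟨224, 174, 0⟩ [.ext 0 691 [] []] [] (some (3, 0))),
  (.edge 1 815 175 0 176 0, .def'),
  (.edge 0 416 176 0 177 0, .def'),
  (.edge 1 1054 177 0 178 0, .def'),
  (.edge 0 224 178 638 10 965, .walk ⟨638, 10, 0⟩ [.code 5, .code 1054, .code 5, .ext 1 165 [0, 0, 0, 1, 1] [55], .merge 166, .code 416, .ext 0 685 [] [], .code 827, .ext 1 689 [] [], .code 224, .ext 0 691 [] [], .code 5, .code 827, .code 5, .ext 1 693 [] [], .code 416, .ext 0 694 [] [], .code 1054, .ext 1 695 [] [], .code 224] [] (some (5, 2))),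
  (.edge 1 638 10 224 178 965, .walk ⟨224, 178, 0⟩ [.ext 0 696 [] []] [] (some (3, 0))),
  (.pair 178 6 937, .walk ⟨622, 10, 0⟩ [.ext 1 697 [] [58]] [.ext 1 697 [1, 1] [57]] none),
  (.edge 0 764 174 0 179 0, .def')]

/-- Part 7 of the identities. -/
def facts7 : List (Concl × Why) := [
  (.edge 1 0 179 764 174 0, .walk ⟨764, 174, 0⟩ [.ext 0 699 [] []] [] (some (3, 0))),
  (.edge 1 815 179 0 180 0, .def'),
  (.edge 0 0 180 815 179 0, .walk ⟨815, 179, 0⟩ [.ext 1 701 [] []] [] (some (4, 0))),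
  (.edge 0 416 180 0 181 0, .def'),
  (.edge 1 0 181 416 180 0, .walk ⟨416, 180, 0⟩ [.ext 0 703 [] []] [] (some (3, 0))),
  (.edge 1 1054 181 71 178 937, .walk ⟨71, 178, 965⟩ [.code 224, .ext 0 696 [0, 3, 2] [], .code 5, .code 1054, .code 5, .ext 1 165 [0] [55], .merge 166, .code 416, .ext 0 685 [0, 0, 1, 1, 2] [], .code 827, .ext 1 689 [0, 3, 2] [687, 688], .code 224, .ext 0 699 [] [], .code 5, .code 827, .code 5, .ext 1 701 [] [], .code 416, .ext 0 703 [] [], .code 1054] [] (some (5, 4))),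
  (.edge 0 252 11 0 182 0, .def'),
  (.edge 0 1125 182 451 171 939, .walk ⟨451, 171, 0⟩ [.code 1125, .ext 0 683 [2] [], .code 1125, .ext 0 613 [0, 0] [], .code 1125, .ext 0 59 [3, 0, 1] [], .code 1125, .ext 0 706 [] [], .code 1125] [] (some (1, 5))),
  (.merge 182 172 951 9, .walk ⟨1123, 172, 928⟩ [.ext 0 682 [1, 1, 2] [], .code 247, .ext 0 98 [1, 1, 1] [], .code 247, .ext 0 59 [1, 2, 0, 3] [55, 56], .code 247, .ext 0 706 [0] [], .code 247] [] (some (2, 4))),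
  (.edge 0 94 172 451 171 930, .walk ⟨1125, 182, 0⟩ [.merge 708] [.ext 0 707 [] []] none),
  (.edge 1 830 30 0 183 0, .def'),
  (.edge 0 0 183 830 30 0, .walk ⟨830, 30, 0⟩ [.ext 1 710 [] []] [] (some (4, 0))),
  (.edge 0 224 183 0 184 0, .def'),
  (.edge 1 0 184 224 183 0, .walk ⟨224, 183, 0⟩ [.ext 0 712 [] []] [] (some (3, 0))),
  (.edge 1 815 184 992 180 473, .walk ⟨992, 180, 469⟩ [.code 416, .ext 0 703 [0, 3, 2] [], .code 1054, .ext 1 705 [0, 0] [], .code 224, .ext 0 696 [2, 3, 0] [], .code 5, .code 1054, .code 5, .ext 1 165 [0, 0, 2, 3] [55], .merge 166, .code 416, .ext 0 162 [0, 2] [], .merge 166, .code 827, .ext 1 710 [] [], .code 224, .ext 0 712 [] [], .code 5, .code 827, .code 5] [] (some (5, 8))),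
  (.edge 0 992 180 815 184 472, .walk ⟨815, 184, 0⟩ [.ext 1 714 [] []] [] (some (4, 0))),
  (.edge 0 764 183 0 185 0, .def'),
  (.edge 1 0 185 764 183 0, .walk ⟨764, 183, 0⟩ [.ext 0 716 [] []] [] (some (3, 0))),
  (.edge 1 815 185 992 176 473, .walk ⟨992, 176, 965⟩ [.code 416, .ext 0 694 [0, 3, 2] [], .code 1054, .ext 1 695 [0, 0] [], .code 224, .ext 0 696 [0, 0] [], .code 5, .code 1054, .code 5, .ext 1 165 [3, 2] [55], .merge 166, .code 416, .ext 0 162 [0, 1, 1] [], .merge 166, .code 827, .ext 1 710 [0, 3, 2] [160], .code 224, .ext 0 716 [] [], .code 5, .code 827, .code 5] [] (some (5, 8))),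
  (.edge 0 84 163 0 186 0, .def'),
  (.edge 1 827 186 0 187 0, .def'),
  (.edge 0 224 187 1038 185 13, .walk ⟨1038, 185, 934⟩ [.code 5, .code 827, .code 5, .ext 1 717 [] [], .code 416, .ext 0 711 [0, 3, 2] [], .code 1054, .ext 1 168 [2, 0] [], .code 224, .ext 0 167 [2, 3] [], .code 5, .code 1054, .code 5, .ext 1 653 [0, 2, 1, 2] [55], .code 416, .ext 0 719 [] [], .code 827, .ext 1 720 [] [], .code 224] [] (some (5, 12))),
  (.edge 1 1038 185 224 187 12, .walk ⟨224, 187, 0⟩ [.ext 0 721 [] []] [] (some (3, 0))),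
  (.edge 0 764 187 1038 179 965, .walk ⟨1038, 179, 966⟩ [.code 5, .code 827, .code 5, .ext 1 700 [] [], .code 416, .ext 0 690 [0, 3, 2] [], .code 1054, .ext 1 686 [0, 0] [], .code 224, .ext 0 167 [0, 1, 1] [], .code 5, .code 1054, .code 5, .ext 1 653 [0, 1, 1, 1] [55], .code 416, .ext 0 719 [0, 0] [], .code 827, .ext 1 720 [0, 3, 2] [], .code 224] [] (some (5, 12))),
  (.edge 1 1038 179 764 187 965, .walk ⟨764, 187, 0⟩ [.ext 0 723 [] []] [] (some (3, 0))),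
  (.edge 0 10 163 0 188 0, .def'),
  (.pair 188 967 936, .walk ⟨12, 163, 0⟩ [.ext 0 725 [] [651]] [.ext 0 725 [1, 1, 2] []] none),
  (.edge 1 827 188 0 189 0, .def'),
  (.edge 0 224 189 1038 175 469, .walk ⟨1038, 175, 966⟩ [.code 5, .code 827, .code 5, .ext 1 692 [] [], .code 416, .ext 0 690 [] [], .code 1054, .ext 1 686 [] [], .code 224, .ext 0 167 [0, 0, 0, 1, 1] [], .code 5, .code 1054, .code 5, .ext 1 653 [0, 0, 1, 2, 3] [55], .code 416, .ext 0 725 [1, 1, 2] [], .code 827, .ext 1 727 [] [726], .code 224] [] (some (5, 12))),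
  (.edge 0 764 189 1038 184 933, .walk ⟨1038, 184, 934⟩ [.code 5, .code 827, .code 5, .ext 1 713 [] [], .code 416, .ext 0 711 [] [], .code 1054, .ext 1 168 [0, 2] [], .code 224, .ext 0 167 [0, 0, 2, 3] [], .code 5, .code 1054, .code 5, .ext 1 653 [1, 2, 3] [55], .code 416, .ext 0 725 [0, 0, 1, 1, 2] [], .code 827, .ext 1 727 [0, 3, 2] [726], .code 224] [] (some (5, 12))),
  (.edge 1 1038 184 764 189 935, .walk ⟨764, 189, 0⟩ [.ext 0 729 [] []] [] (some (3, 0))),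
  (.edge 0 160 10 0 190 0, .def'),
  (.edge 0 0 190 548 178 975, .walk ⟨548, 178, 975⟩ [.ext 0 696 [0, 3] [], .ext 0 731 [] [56]] [] (some (0, 1))),
  (.edge 0 1125 190 0 191 0, .def'),
  (.edge 1 0 191 1125 190 0, .walk ⟨1125, 190, 0⟩ [.ext 0 733 [] []] [] (some (3, 0))),
  (.edge 0 1125 191 0 192 0, .def'),
  (.edge 1 0 192 1125 191 0, .walk ⟨1125, 191, 0⟩ [.ext 0 735 [] []] [] (some (3, 0))),
  (.edge 0 1125 192 980 148 964, .walk ⟨980, 148, 964⟩ [.code 1125, .ext 0 601 [1, 1, 2] [], .code 1125, .ext 0 731 [] [], .code 1125, .ext 0 733 [] [], .code 1125, .ext 0 735 [] [], .code 1125] [] (some (1, 3))),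
  (.edge 1 980 148 1125 192 964, .walk ⟨1125, 192, 0⟩ [.ext 0 737 [] []] [] (some (3, 0))),
  (.edge 0 761 191 767 143 964, .walk ⟨767, 143, 964⟩ [.code 247, .ext 0 587 [2, 1, 2] [], .code 247, .ext 0 731 [] [], .code 247, .ext 0 733 [0, 3, 0, 1] [], .code 247] [] (some (2, 3))),
  (.edge 0 65 190 0 193 0, .def'),
  (.edge 1 0 193 65 190 0, .walk ⟨65, 190, 0⟩ [.ext 0 740 [] []] [] (some (3, 0))),
  (.edge 0 1125 193 957 191 939, .walk ⟨957, 191, 939⟩ [.code 1125, .ext 0 739 [0, 1, 3] [], .code 1125, .ext 0 587 [0, 1] [], .code 1125, .ext 0 731 [2, 0] [55], .code 1125, .ext 0 740 [] [], .code 1125] [] (some (1, 5))),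
  (.merge 193 192 462 9, .walk ⟨1121, 192, 9⟩ [.ext 0 737 [2] [], .code 247, .ext 0 601 [0, 1, 1, 2] [], .code 247, .ext 0 731 [2, 0] [56], .code 247, .ext 0 740 [0, 3, 0, 1] [], .code 247] [] (some (2, 4))),
  (.edge 0 746 192 957 191 930, .walk ⟨1125, 193, 0⟩ [.merge 743] [.ext 0 742 [] []] none),
  (.edge 1 462 192 65 190 9, .walk ⟨0, 193, 0⟩ [.merge 743] [.ext 1 741 [] []] none),
  (.edge 0 76 163 0 194 0, .def'),
  (.edge 1 0 194 76 163 0, .walk ⟨76, 163, 0⟩ [.ext 0 746 [] []] [] (some (3, 0))),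
  (.pair 194 967 936, .walk ⟨74, 163, 0⟩ [.ext 0 746 [] [651]] [.ext 0 746 [1, 1, 2] []] none),
  (.edge 1 827 194 0 195 0, .def'),
  (.edge 0 0 195 827 194 0, .walk ⟨827, 194, 0⟩ [.ext 1 749 [] []] [] (some (4, 0))),
  (.edge 0 224 195 0 196 0, .def'),
  (.edge 1 0 196 224 195 0, .walk ⟨224, 195, 0⟩ [.ext 0 751 [] []] [] (some (3, 0))),
  (.edge 1 815 196 0 197 0, .def'),
  (.edge 0 0 197 815 196 0, .walk ⟨815, 196, 0⟩ [.ext 1 753 [] []] [] (some (4, 0))),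
  (.edge 0 416 197 0 198 0, .def'),
  (.edge 1 0 198 416 197 0, .walk ⟨416, 197, 0⟩ [.ext 0 755 [] []] [] (some (3, 0))),
  (.edge 1 1054 198 940 30 965, .walk ⟨940, 30, 470⟩ [.code 224, .ext 0 167 [0, 0, 1, 1, 2] [], .code 5, .code 1054, .code 5, .ext 1 653 [2, 1] [55], .code 416, .ext 0 746 [] [], .code 827, .ext 1 749 [] [], .code 224, .ext 0 751 [] [], .code 5, .code 827, .code 5, .ext 1 753 [] [], .code 416, .ext 0 755 [] [], .code 1054] [] (some (5, 4))),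
  (.edge 0 940 30 1054 198 965, .walk ⟨1054, 198, 0⟩ [.ext 1 757 [] []] [] (some (4, 0))),
  (.edge 0 764 195 0 199 0, .def'),
  (.edge 1 0 199 764 195 0, .walk ⟨764, 195, 0⟩ [.ext 0 759 [] []] [] (some (3, 0))),
  (.edge 1 815 199 0 200 0, .def'),
  (.edge 0 416 200 0 201 0, .def'),
  (.edge 1 0 201 416 200 0, .walk ⟨416, 200, 0⟩ [.ext 0 762 [] []] [] (some (3, 0))),
  (.edge 1 1054 201 1140 30 469, .walk ⟨1140, 30, 470⟩ [.code 224, .ext 0 167 [0, 0, 3, 0] [], .code 5, .code 1054, .code 5, .ext 1 653 [1, 2] [55], .code 416, .ext 0 746 [0, 0, 1, 1, 2] [], .code 827, .ext 1 749 [0, 3, 2] [748], .code 224, .ext 0 759 [] [], .code 5, .code 827, .code 5, .ext 1 761 [] [], .code 416, .ext 0 762 [] [], .code 1054] [] (some (5, 4))),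
  (.edge 0 1140 30 1054 201 468, .walk ⟨1054, 201, 0⟩ [.ext 1 764 [] []] [] (some (4, 0))),
  (.edge 0 18 163 0 202 0, .def'),
  (.edge 1 0 202 18 163 0, .walk ⟨18, 163, 0⟩ [.ext 0 766 [] []] [] (some (3, 0))),
  (.pair 202 967 936, .walk ⟨20, 163, 0⟩ [.ext 0 766 [] [651]] [.ext 0 766 [1, 1, 2] []] none),
  (.edge 1 827 202 0 203 0, .def'),
  (.edge 0 0 203 827 202 0, .walk ⟨827, 202, 0⟩ [.ext 1 769 [] []] [] (some (4, 0))),
  (.edge 0 224 203 0 204 0, .def'),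
  (.edge 1 0 204 224 203 0, .walk ⟨224, 203, 0⟩ [.ext 0 771 [] []] [] (some (3, 0))),
  (.edge 1 815 204 992 200 936, .walk ⟨992, 200, 3⟩ [.code 416, .ext 0 762 [0, 3, 2] [], .code 1054, .ext 1 764 [0, 0] [], .code 224, .ext 0 167 [3, 0] [], .code 5, .code 1054, .code 5, .ext 1 653 [3, 0, 1] [55], .code 416, .ext 0 766 [] [], .code 827, .ext 1 769 [] [], .code 224, .ext 0 771 [] [], .code 5, .code 827, .code 5] [] (some (5, 8))),
  (.edge 0 764 203 0 205 0, .def'),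
  (.edge 1 0 205 764 203 0, .walk ⟨764, 203, 0⟩ [.ext 0 774 [] []] [] (some (3, 0))),
  (.edge 1 815 205 992 197 936, .walk ⟨992, 197, 939⟩ [.code 416, .ext 0 755 [0, 3, 2] [], .code 1054, .ext 1 757 [0, 0] [], .code 224, .ext 0 167 [1, 1, 2] [], .code 5, .code 1054, .code 5, .ext 1 653 [0, 1, 3] [55], .code 416, .ext 0 766 [0, 0, 1, 1, 2] [], .code 827, .ext 1 769 [0, 3, 2] [768], .code 224, .ext 0 774 [] [], .code 5, .code 827, .code 5] [] (some (5, 8))),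
  (.edge 0 992 197 815 205 936, .walk ⟨815, 205, 0⟩ [.ext 1 776 [] []] [] (some (4, 0))),
  (.edge 0 740 190 0 206 0, .def'),
  (.edge 0 1125 206 0 207 0, .def'),
  (.edge 0 1125 207 743 178 965, .walk ⟨743, 178, 470⟩ [.code 1125, .ext 0 696 [0, 2, 3] [], .code 1125, .ext 0 731 [0, 2, 1, 2] [], .code 1125, .ext 0 778 [] [], .code 1125, .ext 0 779 [] [], .code 1125] [] (some (1, 3))),
  (.edge 1 743 178 1125 207 965, .walk ⟨1125, 207, 0⟩ [.ext 0 780 [] []] [] (some (3, 0))),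
  (.edge 0 766 206 971 178 967, .walk ⟨971, 178, 975⟩ [.code 247, .ext 0 696 [0, 1, 3] [], .code 247, .ext 0 731 [2, 0, 1] [57], .code 247, .ext 0 778 [2, 0] [], .code 247] [] (some (2, 3))),
  (.edge 0 95 178 0 208 0, .def'),
  (.edge 1 0 208 95 178 0, .walk ⟨95, 178, 0⟩ [.ext 0 783 [] []] [] (some (3, 0))),
  (.edge 1 827 208 0 209 0, .def'),
  (.edge 0 0 209 827 208 0, .walk ⟨827, 208, 0⟩ [.ext 1 785 [] []] [] (some (4, 0))),
  (.edge 0 224 209 1038 199 965, .walk ⟨1038, 199, 2⟩ [.code 5, .code 827, .code 5, .ext 1 760 [] [], .code 416, .ext 0 750 [0, 3, 2] [], .code 1054, .ext 1 747 [0, 0] [], .code 224, .ext 0 652 [0, 0, 2, 1] [], .code 5, .code 1054, .code 5, .ext 1 697 [3] [], .code 416, .ext 0 783 [] [], .code 827, .ext 1 785 [] [], .code 224] [] (some (5, 12))),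
  (.edge 1 1038 199 224 209 965, .walk ⟨224, 209, 0⟩ [.ext 0 787 [] []] [] (some (3, 0))),
  (.edge 0 764 209 1038 205 965, .walk ⟨1038, 205, 938⟩ [.code 5, .code 827, .code 5, .ext 1 775 [] [], .code 416, .ext 0 770 [0, 3, 2] [], .code 1054, .ext 1 767 [0, 0] [], .code 224, .ext 0 652 [1, 3, 0] [], .code 5, .code 1054, .code 5, .ext 1 697 [0, 0, 3] [], .code 416, .ext 0 783 [0, 0] [], .code 827, .ext 1 785 [0, 3, 2] [], .code 224] [] (some (5, 12))),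
  (.edge 1 1038 205 764 209 965, .walk ⟨764, 209, 0⟩ [.ext 0 789 [] []] [] (some (3, 0))),
  (.edge 0 236 190 0 210 0, .def'),
  (.edge 0 1125 210 0 211 0, .def'),
  (.edge 0 249 211 16 178 967, .walk ⟨16, 178, 975⟩ [.code 1125, .ext 0 696 [1, 2, 0, 3] [], .code 1125, .ext 0 731 [1] [57], .code 1125, .ext 0 791 [1, 3, 0] [], .code 1125, .ext 0 792 [0, 1, 3] [], .code 1125] [] (some (1, 3))),
  (.edge 1 16 178 249 211 967, .walk ⟨249, 211, 0⟩ [.ext 0 793 [] []] [] (some (3, 0))),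
  (.edge 0 30 178 0 212 0, .def'),
  (.pair 212 967 937, .walk ⟨24, 178, 0⟩ [.ext 0 795 [] [698]] [.ext 0 795 [1, 1, 2] []] none),
  (.edge 1 827 212 0 213 0, .def'),
  (.edge 0 0 213 827 212 0, .walk ⟨827, 212, 0⟩ [.ext 1 797 [] []] [] (some (4, 0))),
  (.edge 0 224 213 1038 204 468, .walk ⟨1038, 204, 938⟩ [.code 5, .code 827, .code 5, .ext 1 772 [] [], .code 416, .ext 0 770 [] [], .code 1054, .ext 1 767 [] [], .code 224, .ext 0 652 [3, 0, 1] [], .code 5, .code 1054, .code 5, .ext 1 697 [0, 1, 1, 2] [], .code 416, .ext 0 795 [1, 1, 2] [], .code 827, .ext 1 797 [] [796], .code 224] [] (some (5, 12)))]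

/-- Part 8 of the identities. -/
def facts8 : List (Concl × Why) := [
  (.edge 0 764 213 1038 196 468, .walk ⟨1038, 196, 2⟩ [.code 5, .code 827, .code 5, .ext 1 752 [] [], .code 416, .ext 0 750 [] [], .code 1054, .ext 1 747 [] [], .code 224, .ext 0 652 [2, 1] [], .code 5, .code 1054, .code 5, .ext 1 697 [1, 1, 2, 0] [], .code 416, .ext 0 795 [0, 0, 1, 1, 2] [], .code 827, .ext 1 797 [0, 3, 2] [796], .code 224] [] (some (5, 12))),
  (.edge 1 1038 196 764 213 469, .walk ⟨764, 213, 0⟩ [.ext 0 800 [] []] [] (some (3, 0))),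
  (.edge 0 320 10 0 214 0, .def'),
  (.edge 0 0 214 237 143 964, .walk ⟨237, 143, 964⟩ [.ext 0 587 [0, 0, 0] [], .ext 0 802 [] []] [] (some (0, 1))),
  (.edge 1 237 143 0 214 964, .walk ⟨0, 214, 0⟩ [.ext 0 803 [] []] [] (some (3, 0))),
  (.edge 0 336 10 0 215 0, .def'),
  (.edge 0 0 215 1010 148 964, .walk ⟨1010, 148, 964⟩ [.ext 0 601 [0, 2, 1, 2] [], .ext 0 805 [] []] [] (some (0, 1))),
  (.edge 1 1010 148 0 215 964, .walk ⟨0, 215, 0⟩ [.ext 0 806 [] []] [] (some (3, 0))),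
  (.edge 0 743 11 0 216 0, .def'),
  (.edge 1 0 216 743 11 0, .walk ⟨743, 11, 0⟩ [.ext 0 808 [] []] [] (some (3, 0))),
  (.edge 0 1125 216 958 151 930, .walk ⟨958, 151, 939⟩ [.code 1125, .ext 0 624 [0, 1, 3, 2] [], .code 1125, .ext 0 167 [1, 1, 3] [], .code 1125, .ext 0 59 [0, 0, 2, 3] [55], .code 1125, .ext 0 808 [] [], .code 1125] [] (some (1, 5))),
  (.merge 216 30 462 940, .walk ⟨1121, 30, 933⟩ [.ext 0 162 [2] [], .merge 166, .code 247, .ext 0 167 [2, 1, 3] [], .code 247, .ext 0 59 [0, 0, 2, 3] [56], .code 247, .ext 0 808 [0, 3, 0, 1] [], .code 247] [] (some (2, 4))),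
  (.edge 0 746 30 958 151 15, .walk ⟨1125, 216, 0⟩ [.merge 811] [.ext 0 810 [] []] none),
  (.edge 1 462 30 743 11 943, .walk ⟨0, 216, 0⟩ [.merge 811] [.ext 1 809 [] []] none),
  (.merge 30 11 241 476, .walk ⟨462, 30, 0⟩ [.ext 1 168 [0, 0, 0, 3] []] [.ext 1 813 [] []] none),
  (.edge 0 953 11 550 10 10, .walk ⟨760, 30, 0⟩ [.merge 814] [.ext 0 167 [] []] none),
  (.edge 0 547 11 0 173 479, .walk ⟨947, 30, 0⟩ [.merge 814] [.ext 0 685 [] []] none),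
  (.edge 0 572 11 1054 198 929, .walk ⟨940, 30, 0⟩ [.merge 814] [.ext 0 758 [] []] none),
  (.edge 0 432 11 1054 201 9, .walk ⟨1140, 30, 0⟩ [.merge 814] [.ext 0 765 [] []] none),
  (.edge 0 939 11 958 151 465, .walk ⟨746, 30, 0⟩ [.merge 814] [.ext 0 812 [] []] none),
  (.edge 1 423 11 1125 152 929, .walk ⟨1123, 30, 0⟩ [.merge 814] [.ext 1 623 [] []] none),
  (.edge 1 1100 11 0 183 479, .walk ⟨830, 30, 0⟩ [.merge 814] [.ext 1 710 [] []] none),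
  (.merge 198 172 822 936, .walk ⟨572, 11, 0⟩ [.ext 0 817 [] []] [.ext 0 706 [0, 3, 0] [], .merge 708] none),
  (.edge 1 822 172 416 197 936, .walk ⟨0, 198, 0⟩ [.merge 822] [.ext 1 756 [] []] none),
  (.merge 201 171 857 9, .walk ⟨432, 11, 0⟩ [.ext 0 818 [] []] [.ext 0 680 [0, 0, 2, 3] []] none),
  (.edge 1 857 171 416 200 9, .walk ⟨0, 201, 0⟩ [.merge 824] [.ext 1 763 [] []] none),
  (.merge 151 11 474 473, .walk ⟨939, 11, 0⟩ [.ext 0 819 [] []] [.ext 0 679 [3, 1] [], .merge 814] none),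
  (.edge 0 756 11 0 152 472, .walk ⟨1125, 151, 0⟩ [.merge 826] [.ext 0 619 [] []] none),
  (.edge 0 1129 11 728 11 475, .walk ⟨761, 151, 0⟩ [.merge 826] [.ext 0 624 [] [], .merge 814] none),
  (.edge 1 474 11 1125 149 472, .walk ⟨0, 151, 0⟩ [.merge 826] [.ext 1 616 [] []] none),
  (.merge 171 152 0 472, .walk ⟨756, 11, 0⟩ [.ext 0 680 [] []] [.ext 0 827 [] []] none),
  (.edge 1 857 152 416 200 464, .walk ⟨857, 171, 0⟩ [.merge 830] [.ext 1 825 [] []] none),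
  (.merge 172 11 416 465, .walk ⟨1129, 11, 0⟩ [.ext 0 706 [1, 3, 2] [], .merge 708] [.ext 0 828 [] []] none),
  (.edge 0 984 11 434 19 943, .walk ⟨1125, 172, 0⟩ [.merge 832] [.ext 0 682 [] []] none),
  (.edge 0 556 11 451 152 938, .walk ⟨94, 172, 0⟩ [.merge 832] [.ext 0 709 [] [], .merge 830] none),
  (.edge 1 587 11 416 197 961, .walk ⟨822, 172, 0⟩ [.merge 832] [.ext 1 823 [] []] none),
  (.merge 149 10 10 473, .walk ⟨474, 11, 0⟩ [.ext 1 829 [] []] [.ext 1 60 [0, 0, 1, 2, 3] []] none),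
  (.edge 0 10 10 0 150 472, .walk ⟨0, 149, 0⟩ [.merge 836] [.ext 0 611 [] []] none),
  (.merge 19 10 449 935, .walk ⟨984, 11, 0⟩ [.ext 0 833 [] []] [.ext 0 815 [1, 2] []] none),
  (.edge 0 760 10 0 20 933, .walk ⟨1125, 19, 0⟩ [.merge 838] [.ext 0 100 [] []] none),
  (.merge 173 152 16 975, .walk ⟨556, 11, 0⟩ [.ext 0 816 [0, 0, 0, 1, 1] []] [.ext 0 834 [] []] none),
  (.edge 1 814 152 0 174 973, .walk ⟨827, 173, 0⟩ [.merge 840] [.ext 1 689 [] []] none),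
  (.merge 150 1 817 473, .walk ⟨10, 10, 0⟩ [.ext 0 837 [] []] [.ext 0 54 [1, 1, 2, 0] []] none),
  (.edge 0 314 1 0 153 472, .walk ⟨704, 150, 0⟩ [.merge 842] [.ext 0 625 [] []] none),
  (.edge 1 655 1 761 152 936, .walk ⟨434, 150, 0⟩ [.merge 842] [.ext 1 684 [] [], .merge 830] none),
  (.merge 20 11 3 15, .walk ⟨760, 10, 0⟩ [.ext 0 839 [] []] [.ext 0 59 [0, 0] [55]] none),
  (.edge 0 1121 11 0 21 14, .walk ⟨1125, 20, 0⟩ [.merge 845] [.ext 0 102 [] []] none),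
  (.edge 1 44 11 0 139 14, .walk ⟨37, 20, 0⟩ [.merge 845] [.ext 1 579 [] []] none),
  (.edge 1 816 11 0 144 14, .walk ⟨824, 20, 0⟩ [.merge 845] [.ext 1 596 [] []] none),
  (.merge 200 174 92 13, .walk ⟨814, 152, 0⟩ [.ext 1 831 [0, 1, 2] [620, 621]] [.ext 1 841 [] []] none),
  (.merge 153 29 969 966, .walk ⟨314, 1, 0⟩ [.ext 0 843 [] []] [.ext 0 154 [0, 0, 2, 1] [4]] none),
  (.edge 1 45 29 0 154 966, .walk ⟨827, 153, 0⟩ [.merge 850] [.ext 1 627 [] []] none),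
  (.edge 1 817 29 0 156 966, .walk ⟨47, 153, 0⟩ [.merge 850] [.ext 1 630 [] []] none),
  (.merge 152 22 724 4, .walk ⟨655, 1, 0⟩ [.ext 1 844 [] []] [.ext 1 108 [0, 0, 2, 1] [4, 6]] none),
  (.edge 0 6 22 423 11 935, .walk ⟨1125, 152, 0⟩ [.merge 853] [.ext 0 622 [] [], .merge 814] none),
  (.merge 21 11 73 469, .walk ⟨1121, 11, 0⟩ [.ext 0 846 [] []] [.ext 0 706 [0, 1, 3] [], .merge 708, .merge 832] none),
  (.edge 1 426 11 84 29 967, .walk ⟨460, 21, 0⟩ [.merge 855] [.ext 1 172 [] []] none),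
  (.merge 139 12 963 13, .walk ⟨44, 11, 0⟩ [.ext 1 847 [] []] [.ext 1 63 [0, 1, 3, 2] [61]] none),
  (.edge 0 1145 12 0 140 12, .walk ⟨224, 139, 0⟩ [.merge 857] [.ext 0 580 [] []] none),
  (.merge 144 18 745 477, .walk ⟨816, 11, 0⟩ [.ext 1 848 [] []] [.ext 1 93 [1, 1, 3] [61]] none),
  (.edge 0 1012 18 0 145 478, .walk ⟨224, 144, 0⟩ [.merge 859] [.ext 0 597 [] []] none),
  (.merge 27 11 137 966, .walk ⟨6, 22, 0⟩ [.ext 0 128 [0, 3, 0, 1] []] [.ext 0 854 [] []] none),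
  (.edge 1 137 11 416 26 966, .walk ⟨0, 27, 0⟩ [.merge 861] [.ext 1 126 [] []] none),
  (.merge 29 22 224 474, .walk ⟨426, 11, 0⟩ [.ext 1 856 [] []] [.ext 1 820 [0, 0, 1] [], .merge 853] none),
  (.edge 0 224 22 571 22 466, .walk ⟨0, 29, 0⟩ [.merge 863] [.ext 0 158 [] []] none),
  (.edge 0 440 22 241 11 6, .walk ⟨1125, 29, 0⟩ [.merge 863] [.ext 0 159 [] [], .merge 814] none),
  (.edge 1 365 22 0 154 934, .walk ⟨45, 29, 0⟩ [.merge 863] [.ext 1 851 [] []] none),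
  (.edge 1 1111 22 0 156 934, .walk ⟨817, 29, 0⟩ [.merge 863] [.ext 1 852 [] []] none),
  (.pair 140 937 1008, .walk ⟨730, 12, 0⟩ [.ext 0 858 [] [66]] [.ext 0 858 [3] [65]] none),
  (.merge 145 38 471 991, .walk ⟨1012, 18, 0⟩ [.ext 0 860 [] []] [.ext 0 460 [2, 3] []] none),
  (.edge 1 836 38 0 146 984, .walk ⟨815, 145, 0⟩ [.merge 869] [.ext 1 598 [] []] none),
  (.edge 1 677 38 764 166 25, .walk ⟨43, 145, 0⟩ [.merge 869] [.ext 1 663 [] []] none),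
  (.merge 197 26 981 7, .walk ⟨137, 11, 0⟩ [.ext 1 835 [1, 3] []] [.ext 1 862 [] []] none),
  (.edge 0 981 26 815 196 7, .walk ⟨0, 197, 0⟩ [.merge 872] [.ext 0 754 [] []] none),
  (.edge 0 554 26 815 205 940, .walk ⟨992, 197, 0⟩ [.merge 872] [.ext 0 777 [] []] none),
  (.merge 28 11 1135 966, .walk ⟨440, 22, 0⟩ [.ext 0 151 [1, 1, 2] [109]] [.ext 0 865 [] []] none),
  (.edge 1 383 11 992 26 749, .walk ⟨830, 28, 0⟩ [.merge 875] [.ext 1 152 [] []] none),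
  (.pair 141 928 1008, .walk ⟨677, 140, 0⟩ [.ext 1 581 [] [868]] [.ext 1 581 [3] []] none),
  (.merge 146 41 426 800, .walk ⟨836, 38, 0⟩ [.ext 1 870 [] []] [.ext 1 309 [1, 1, 3] [], .merge 534] none),
  (.edge 0 1124 41 0 147 1042, .walk ⟨416, 146, 0⟩ [.merge 878] [.ext 0 599 [] []] none),
  (.merge 166 39 237 25, .walk ⟨677, 38, 0⟩ [.ext 1 871 [] []] [.ext 1 197 [3] []] none),
  (.edge 0 237 39 47 164 25, .walk ⟨0, 166, 0⟩ [.merge 880] [.ext 0 661 [] []] none),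
  (.merge 205 43 202 764, .walk ⟨554, 26, 0⟩ [.ext 0 874 [] []] [.ext 0 462 [0, 2, 1] []] none),
  (.edge 1 202 43 764 203 736, .walk ⟨0, 205, 0⟩ [.merge 882] [.ext 1 775 [] []] none),
  (.edge 1 692 43 764 209 86, .walk ⟨1038, 205, 0⟩ [.merge 882] [.ext 1 790 [] []] none),
  (.merge 183 26 994 1151, .walk ⟨383, 11, 0⟩ [.ext 1 821 [1, 1] [61]] [.ext 1 876 [] []] none),
  (.edge 0 453 26 0 184 711, .walk ⟨224, 183, 0⟩ [.merge 885] [.ext 0 712 [] []] none),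
  (.edge 0 440 26 0 185 711, .walk ⟨764, 183, 0⟩ [.merge 885] [.ext 0 716 [] []] none),
  (.pair 147 929 63, .walk ⟨1134, 41, 0⟩ [.ext 0 879 [] [204]] [.ext 0 879 [0, 1, 1, 2] []] none),
  (.merge 203 109 462 79, .walk ⟨202, 43, 0⟩ [.ext 1 883 [] []] [.ext 1 359 [2, 3] []] none),
  (.merge 209 104 70 273, .walk ⟨692, 43, 0⟩ [.ext 1 884 [] []] [.ext 1 394 [2, 3] [], .merge 577] none),
  (.edge 0 70 104 827 208 533, .walk ⟨0, 209, 0⟩ [.merge 890] [.ext 0 786 [] []] none),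
  (.merge 196 184 222 706, .walk ⟨453, 26, 0⟩ [.ext 0 873 [3] []] [.ext 0 886 [] []] none),
  (.edge 1 222 184 224 195 1144, .walk ⟨0, 196, 0⟩ [.merge 892] [.ext 1 752 [] []] none),
  (.edge 1 677 184 764 213 544, .walk ⟨1038, 196, 0⟩ [.merge 892] [.ext 1 801 [] []] none),
  (.merge 185 47 942 419, .walk ⟨440, 26, 0⟩ [.ext 0 887 [] []] [.ext 0 463 [2, 0, 1] []] none),
  (.edge 1 700 47 992 176 1011, .walk ⟨815, 185, 0⟩ [.merge 895] [.ext 1 718 [] []] none),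
  (.edge 1 193 47 224 187 232, .walk ⟨1038, 185, 0⟩ [.merge 895] [.ext 1 722 [] []] none),
  (.pair 148 8 63, .walk ⟨205, 147, 0⟩ [.ext 1 600 [] [888]] [.ext 1 600 [2, 0] []] none),
  (.merge 195 189 1130 95, .walk ⟨222, 184, 0⟩ [.ext 1 893 [] []] [.ext 1 730 [3] []] none)]

/-- Part 9 of the identities. -/
def facts9 : List (Concl × Why) := [
  (.edge 0 448 189 0 199 95, .walk ⟨764, 195, 0⟩ [.merge 899] [.ext 0 759 [] []] none),
  (.merge 213 180 460 1129, .walk ⟨677, 184, 0⟩ [.ext 1 894 [] []] [.ext 1 714 [3] []] none),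
  (.edge 0 460 180 827 212 715, .walk ⟨0, 213, 0⟩ [.merge 901] [.ext 0 798 [] []] none),
  (.edge 0 64 180 1038 204 749, .walk ⟨224, 213, 0⟩ [.merge 901] [.ext 0 799 [] []] none),
  (.merge 176 104 31 559, .walk ⟨700, 47, 0⟩ [.ext 1 896 [] []] [.ext 1 360 [0, 1, 1, 2] []] none),
  (.edge 0 432 104 0 177 558, .walk ⟨416, 176, 0⟩ [.merge 904] [.ext 0 694 [] []] none),
  (.merge 187 109 954 1111, .walk ⟨193, 47, 0⟩ [.ext 1 897 [] []] [.ext 1 379 [2, 0] [], .merge 578] none),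
  (.merge 208 177 218 54, .walk ⟨432, 104, 0⟩ [.ext 0 891 [2, 0, 1] []] [.ext 0 905 [] []] none),
  (.edge 1 218 177 95 178 60, .walk ⟨0, 208, 0⟩ [.merge 907] [.ext 1 784 [] []] none),
  (.edge 0 32 11 0 217 0, .def'),
  (.edge 1 0 217 32 11 0, .walk ⟨32, 11, 0⟩ [.ext 0 909 [] []] [] (some (3, 0))),
  (.edge 0 0 217 938 12 2, .walk ⟨938, 12, 2⟩ [.ext 0 64 [2, 3, 0] [], .ext 0 909 [] [61]] [] (some (0, 1))),
  (.edge 0 1125 217 0 218 0, .def'),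
  (.edge 0 761 218 244 26 966, .walk ⟨244, 26, 966⟩ [.code 247, .ext 0 125 [1, 3, 2] [], .merge 861, .code 247, .ext 0 909 [] [], .code 247, .ext 0 912 [0, 3, 0, 1] [], .code 247] [] (some (2, 3))),
  (.edge 0 48 11 0 219 0, .def'),
  (.edge 0 0 219 89 18 464, .walk ⟨89, 18, 464⟩ [.ext 0 92 [0, 2, 1] [], .ext 0 914 [] []] [] (some (0, 1))),
  (.edge 0 1125 219 0 220 0, .def'),
  (.edge 0 761 220 466 26 966, .walk ⟨466, 26, 966⟩ [.code 247, .ext 0 125 [0, 2, 1, 2] [], .merge 861, .code 247, .ext 0 914 [] [], .code 247, .ext 0 916 [0, 3, 0, 1] [], .code 247] [] (some (2, 3))),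
  (.edge 1 51 155 0 221 0, .def'),
  (.edge 0 0 221 51 155 0, .walk ⟨51, 155, 0⟩ [.ext 1 918 [] []] [] (some (4, 0))),
  (.edge 0 416 221 54 184 706, .walk ⟨54, 184, 566⟩ [.code 1054, .ext 1 713 [0, 0, 2] [], .merge 885, .code 224, .ext 0 125 [1, 1, 1] [], .merge 861, .code 5, .code 1054, .code 5, .ext 1 820 [1, 1, 3] [], .merge 853, .code 416, .ext 0 864 [0, 0, 3] [], .code 827, .ext 1 866 [1] [106], .code 224, .ext 0 629 [1, 3, 0] [628], .code 5, .code 827, .code 5, .ext 1 918 [] [], .code 416] [] (some (5, 6))),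
  (.edge 1 54 184 416 221 1144, .walk ⟨416, 221, 0⟩ [.ext 0 920 [] []] [] (some (3, 0))),
  (.edge 1 822 157 0 222 0, .def'),
  (.edge 0 0 222 822 157 0, .walk ⟨822, 157, 0⟩ [.ext 1 922 [] []] [] (some (4, 0))),
  (.edge 0 416 222 818 184 708, .walk ⟨818, 184, 566⟩ [.code 1054, .ext 1 713 [0, 0, 1, 1] [], .merge 885, .code 224, .ext 0 125 [1] [], .merge 861, .code 5, .code 1054, .code 5, .ext 1 820 [3] [], .merge 853, .code 416, .ext 0 864 [0, 0, 3, 2] [], .code 827, .ext 1 867 [0, 1, 2, 3] [106], .code 224, .ext 0 632 [0, 1, 2, 3] [], .code 5, .code 827, .code 5, .ext 1 922 [] [], .code 416] [] (some (5, 6))),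
  (.edge 1 818 184 416 222 1146, .walk ⟨416, 222, 0⟩ [.ext 0 924 [] []] [] (some (3, 0))),
  (.edge 1 51 157 551 76 692, .walk ⟨551, 76, 35⟩ [.code 416, .ext 0 406 [0, 0, 0, 1, 1] [], .merge 496, .merge 573, .code 1054, .ext 1 209 [0, 3, 1] [], .merge 461, .code 224, .ext 0 125 [0, 1, 3, 2] [], .merge 861, .code 5, .code 1054, .code 5, .ext 1 820 [0, 0, 3] [], .merge 853, .code 416, .ext 0 864 [3, 2] [], .code 827, .ext 1 867 [1] [106], .code 224, .ext 0 632 [1, 3, 0] [631], .code 5, .code 827, .code 5] [] (some (5, 8))),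
  (.edge 0 551 76 51 157 217, .walk ⟨51, 157, 0⟩ [.ext 1 926 [] []] [] (some (4, 0))),
  (.edge 1 822 155 1148 44 225, .walk ⟨1148, 44, 76⟩ [.code 416, .ext 0 211 [1, 2, 0, 3] [], .code 1054, .ext 1 209 [1, 2, 0, 3] [], .merge 461, .code 224, .ext 0 125 [0, 1, 2, 3] [], .merge 861, .code 5, .code 1054, .code 5, .ext 1 820 [0, 3, 0] [], .merge 853, .code 416, .ext 0 864 [3] [], .code 827, .ext 1 866 [0, 1, 2, 3] [106], .code 224, .ext 0 629 [0, 1, 2, 3] [], .code 5, .code 827, .code 5] [] (some (5, 8))),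
  (.pair 221 735 1146, .walk ⟨736, 221, 467⟩ [.ext 0 920 [0, 3, 2] [], .code 1054, .ext 1 713 [2] [], .merge 885, .code 224, .ext 0 125 [2, 1, 2] [], .merge 861, .code 5, .code 1054, .code 5, .ext 1 820 [2, 0] [], .merge 853, .code 416, .ext 0 151 [2] [109], .merge 875, .code 827, .ext 1 821 [0, 2, 1, 3] [], .merge 885, .code 224, .ext 0 873 [0, 2, 1, 2] [], .merge 892, .code 5, .code 827, .code 5, .ext 1 921 [2, 1, 2] [], .code 416] [] (some (5, 7))),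
  (.pair 222 731 1144, .walk ⟨736, 222, 465⟩ [.ext 0 924 [0, 3, 2] [], .code 1054, .ext 1 713 [1, 1] [], .merge 885, .code 224, .ext 0 125 [0, 0, 1] [], .merge 861, .code 5, .code 1054, .code 5, .ext 1 820 [1, 1, 2, 0] [], .merge 853, .code 416, .ext 0 151 [1, 1] [109], .merge 875, .code 827, .ext 1 821 [1, 2, 0, 3] [61], .merge 885, .code 224, .ext 0 873 [1, 2, 0] [], .merge 892, .code 5, .code 827, .code 5, .ext 1 925 [0, 0, 1] [], .code 416] [] (some (5, 7))),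
  (.edge 0 190 11 730 218 91, .walk ⟨730, 218, 1135⟩ [.ext 0 913 [0, 1] [], .ext 0 153 [2] [], .merge 875] [] (some (0, 2))),
  (.edge 0 21 218 0 223 0, .def'),
  (.edge 0 1125 223 0 224 0, .def'),
  (.edge 0 1125 224 944 18 751, .walk ⟨944, 18, 464⟩ [.code 1125, .ext 0 92 [0, 1] [], .code 1125, .ext 0 931 [] [62], .code 1125, .ext 0 932 [] [], .code 1125, .ext 0 933 [] [], .code 1125] [] (some (1, 3))),
  (.edge 1 944 18 1125 224 750, .walk ⟨1125, 224, 0⟩ [.ext 0 934 [] []] [] (some (3, 0))),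
  (.merge 223 217 739 936, .walk ⟨0, 217, 996⟩ [.ext 0 911 [] [], .code 247, .ext 0 64 [0, 2, 1, 3] [66, 65], .code 247, .ext 0 931 [] [61, 62], .code 247, .ext 0 932 [0, 3, 0, 1] [], .code 247] [] (some (2, 4))),
  (.edge 0 551 217 0 224 936, .walk ⟨1125, 223, 0⟩ [.merge 936] [.ext 0 933 [] []] none),
  (.edge 0 1009 218 0 225 0, .def'),
  (.edge 1 0 225 1009 218 0, .walk ⟨1009, 218, 0⟩ [.ext 0 938 [] []] [] (some (3, 0))),
  (.edge 0 1125 225 0 226 0, .def'),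
  (.edge 1 0 226 1125 225 0, .walk ⟨1125, 225, 0⟩ [.ext 0 940 [] []] [] (some (3, 0))),
  (.edge 0 1125 226 434 12 716, .walk ⟨434, 12, 2⟩ [.code 1125, .ext 0 64 [1, 3, 0] [], .code 1125, .ext 0 931 [2, 0] [61, 62], .code 1125, .ext 0 938 [] [], .code 1125, .ext 0 940 [] [], .code 1125] [] (some (1, 3))),
  (.edge 1 434 12 1125 226 1131, .walk ⟨1125, 226, 0⟩ [.ext 0 942 [] []] [] (some (3, 0))),
  (.pair 226 24 936, .walk ⟨754, 12, 0⟩ [.ext 1 943 [] [65, 66]] [.ext 1 943 [2, 0] []] none),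
  (.edge 0 761 225 464 18 751, .walk ⟨464, 18, 464⟩ [.code 247, .ext 0 92 [1, 2, 0] [], .code 247, .ext 0 931 [2, 0] [62], .code 247, .ext 0 938 [0, 3, 0, 1] [], .code 247] [] (some (2, 3))),
  (.edge 0 128 11 0 227 0, .def'),
  (.edge 1 0 227 128 11 0, .walk ⟨128, 11, 0⟩ [.ext 0 946 [] []] [] (some (3, 0))),
  (.edge 0 0 227 738 26 966, .walk ⟨738, 26, 966⟩ [.ext 0 125 [0, 2, 3] [], .merge 861, .ext 0 946 [] []] [] (some (0, 1))),
  (.edge 1 738 26 0 227 966, .walk ⟨0, 227, 0⟩ [.ext 0 948 [] []] [] (some (3, 0))),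
  (.edge 0 1125 227 0 228 0, .def'),
  (.edge 1 0 228 1125 227 0, .walk ⟨1125, 227, 0⟩ [.ext 0 950 [] []] [] (some (3, 0))),
  (.edge 0 1125 228 953 225 95, .walk ⟨953, 225, 95⟩ [.code 1125, .ext 0 945 [0, 1, 2, 3] [], .code 1125, .ext 0 92 [0, 2, 3] [], .code 1125, .ext 0 946 [] [61, 62], .code 1125, .ext 0 950 [] [], .code 1125] [] (some (1, 5))),
  (.edge 1 953 225 1125 228 95, .walk ⟨1125, 228, 0⟩ [.ext 0 952 [] []] [] (some (3, 0))),
  (.merge 228 226 463 1135, .walk ⟨1120, 226, 1135⟩ [.ext 0 942 [0, 0, 2] [], .code 247, .ext 0 64 [0, 0, 1, 2, 3] [], .code 247, .ext 0 946 [] [61], .code 247, .ext 0 950 [0, 3, 0, 1] [], .code 247] [] (some (2, 4))),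
  (.edge 1 463 226 1125 227 718, .walk ⟨0, 228, 0⟩ [.merge 954] [.ext 1 951 [] []] none),
  (.merge 227 225 990 996, .walk ⟨463, 226, 0⟩ [.ext 1 955 [] []] [.ext 1 941 [0, 0, 1, 2, 3] [944]] none),
  (.edge 0 990 225 738 26 568, .walk ⟨0, 227, 0⟩ [.merge 956] [.ext 0 948 [] []] none),
  (.edge 1 990 225 128 11 996, .walk ⟨0, 227, 0⟩ [.merge 956] [.ext 1 947 [] []] none),
  (.merge 226 11 796 0, .walk ⟨990, 225, 0⟩ [.ext 1 953 [0, 1, 1, 1] [], .merge 954] [.ext 1 958 [] []] none),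
  (.edge 0 858 11 434 12 716, .walk ⟨1125, 226, 0⟩ [.merge 959] [.ext 0 942 [] []] none),
  (.edge 1 796 11 1125 225 0, .walk ⟨0, 226, 0⟩ [.merge 959] [.ext 1 941 [] []] none),
  (.merge 219 12 74 716, .walk ⟨858, 11, 0⟩ [.ext 0 914 [2, 3] []] [.ext 0 960 [] []] none),
  (.edge 0 74 12 89 18 569, .walk ⟨0, 219, 0⟩ [.merge 962] [.ext 0 915 [] []] none),
  (.edge 0 1008 12 0 220 1131, .walk ⟨1125, 219, 0⟩ [.merge 962] [.ext 0 916 [] []] none),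
  (.merge 225 26 92 240, .walk ⟨796, 11, 0⟩ [.ext 1 961 [] []] [.ext 1 821 [2, 0] [61, 62], .merge 885] none),
  (.edge 0 978 26 464 18 995, .walk ⟨761, 225, 0⟩ [.merge 965] [.ext 0 945 [] []] none),
  (.edge 0 755 26 738 26 937, .walk ⟨990, 225, 0⟩ [.merge 965] [.ext 0 957 [] []] none),
  (.edge 1 92 26 1009 218 427, .walk ⟨0, 225, 0⟩ [.merge 965] [.ext 1 939 [] []] none),
  (.merge 140 18 88 439, .walk ⟨74, 12, 0⟩ [.ext 0 858 [1, 1] [65]] [.ext 0 963 [] []] none),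
  (.merge 220 18 715 246, .walk ⟨1008, 12, 0⟩ [.ext 0 964 [] []] [.ext 0 858 [3] [], .merge 969] none),
  (.edge 0 554 18 466 26 715, .walk ⟨761, 220, 0⟩ [.merge 970] [.ext 0 917 [] []] none),
  (.merge 184 18 6 72, .walk ⟨978, 26, 0⟩ [.ext 0 873 [0, 0, 1, 1, 2] [], .merge 892] [.ext 0 966 [] []] none),
  (.edge 1 822 18 992 180 427, .walk ⟨815, 184, 0⟩ [.merge 972] [.ext 1 714 [] []] none),
  (.edge 1 1040 18 764 189 717, .walk ⟨1038, 184, 0⟩ [.merge 972] [.ext 1 730 [] []] none),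
  (.edge 1 46 18 416 221 993, .walk ⟨54, 184, 0⟩ [.merge 972] [.ext 1 921 [] []] none),
  (.merge 47 26 430 741, .walk ⟨755, 26, 0⟩ [.ext 0 463 [3, 1] []] [.ext 0 967 [] []] none),
  (.merge 218 26 471 568, .walk ⟨92, 26, 0⟩ [.ext 1 968 [] []] [.ext 1 949 [0, 0, 3, 0] [], .merge 956, .merge 965] none),
  (.edge 0 1150 26 244 26 997, .walk ⟨761, 218, 0⟩ [.merge 977] [.ext 0 913 [] []] none),
  (.edge 0 451 26 739 217 240, .walk ⟨21, 218, 0⟩ [.merge 977] [.ext 0 932 [] [], .merge 936] none),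
  (.merge 38 26 0 1014, .walk ⟨554, 18, 0⟩ [.ext 0 460 [0, 2, 1, 2] []] [.ext 0 971 [] []] none),
  (.edge 1 815 26 0 39 1010, .walk ⟨815, 38, 0⟩ [.merge 980] [.ext 1 197 [] []] none),
  (.edge 1 51 26 572 60 880, .walk ⟨51, 38, 0⟩ [.merge 980] [.ext 1 362 [] [], .merge 575] none),
  (.edge 1 878 26 746 66 96, .walk ⟨878, 38, 0⟩ [.merge 980] [.ext 1 382 [] [], .merge 576] none),
  (.merge 43 26 246 460, .walk ⟨1150, 26, 0⟩ [.ext 0 462 [0, 0, 1, 1] []] [.ext 0 978 [] []] none),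
  (.edge 1 96 26 467 104 926, .walk ⟨878, 43, 0⟩ [.merge 984] [.ext 1 394 [] [], .merge 577] none),
  (.merge 217 18 73 464, .walk ⟨451, 26, 0⟩ [.ext 0 979 [] []] [.ext 0 873 [3, 2] [], .merge 892, .merge 972] none),
  (.edge 0 249 18 0 224 960, .walk ⟨551, 217, 0⟩ [.merge 986] [.ext 0 937 [] []] none),
  (.edge 1 73 18 32 11 466, .walk ⟨0, 217, 0⟩ [.merge 986] [.ext 1 910 [] []] none),
  (.merge 224 17 674 464, .walk ⟨249, 18, 0⟩ [.ext 0 987 [] []] [.ext 0 91 [2, 0, 1] [94]] none),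
  (.edge 0 608 17 944 18 1130, .walk ⟨1125, 224, 0⟩ [.merge 989] [.ext 0 934 [] []] none),
  (.edge 0 455 60 878 175 353, .walk ⟨878, 175, 14⟩ [.code 5, .code 827, .code 5, .ext 1 692 [1, 3, 0] [], .code 416, .ext 0 690 [0, 1, 3, 2] [], .merge 840, .merge 853, .code 1054, .ext 1 111 [2, 0, 1] [109], .merge 845, .code 224, .ext 0 679 [2, 3, 0] [], .merge 814, .code 5, .code 1054, .code 5, .ext 1 93 [2] [61], .code 416, .ext 0 460 [0, 0, 1, 1, 2] [], .merge 980, .code 827, .ext 1 982 [0, 2, 1, 3] [], .code 224] [] (some (5, 12))),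
  (.edge 0 553 66 1040 179 347, .walk ⟨1040, 179, 934⟩ [.code 5, .code 827, .code 5, .ext 1 700 [0, 1, 2, 3] [], .code 416, .ext 0 690 [1, 1, 1] [], .merge 840, .merge 853, .code 1054, .ext 1 111 [0, 2, 1] [109], .merge 845, .code 224, .ext 0 679 [0, 3, 2] [], .merge 814, .code 5, .code 1054, .code 5, .ext 1 93 [0, 0, 0, 3] [61], .code 416, .ext 0 460 [0, 0] [94], .merge 980, .code 827, .ext 1 983 [3, 0, 1] [], .code 224] [] (some (5, 12))),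
  (.edge 0 979 66 20 204 800, .walk ⟨20, 204, 969⟩ [.code 5, .code 827, .code 5, .ext 1 773 [1, 2, 0, 3] [], .merge 849, .code 416, .ext 0 690 [0, 2] [], .merge 840, .merge 853, .code 1054, .ext 1 105 [] [109], .merge 855, .code 224, .ext 0 679 [1, 1] [], .merge 814, .code 5, .code 1054, .code 5, .ext 1 93 [0, 3] [61], .code 416, .ext 0 460 [] [94], .merge 980, .code 827, .ext 1 983 [0, 0, 1, 2] [], .code 224] [] (some (5, 12))),
  (.edge 1 20 204 979 66 1042, .walk ⟨979, 66, 0⟩ [.ext 0 993 [] []] [] (some (3, 0))),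
  (.edge 1 605 18 0 229 0, .def'),
  (.edge 0 0 229 605 18 0, .walk ⟨605, 18, 0⟩ [.ext 1 995 [] []] [] (some (4, 0))),
  (.edge 1 300 18 0 230 0, .def'),
  (.edge 0 0 230 300 18 0, .walk ⟨300, 18, 0⟩ [.ext 1 997 [] []] [] (some (4, 0))),
  (.edge 0 224 230 878 179 255, .walk ⟨878, 179, 932⟩ [.code 5, .code 827, .code 5, .ext 1 700 [1, 3, 0] [], .code 416, .ext 0 690 [1] [], .merge 840, .merge 853, .code 1054, .ext 1 111 [1, 2, 0] [109], .merge 845, .code 224, .ext 0 679 [0, 0, 3, 0] [], .merge 814, .code 5, .code 1054, .code 5, .ext 1 63 [1, 3, 2] [61], .code 416, .ext 0 858 [0, 0, 3] [65], .merge 969, .code 827, .ext 1 997 [] [], .code 224] [] (some (5, 12)))]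

/-- Part 10 of the identities. -/
def facts10 : List (Concl × Why) := [
  (.edge 1 878 179 224 230 432, .walk ⟨224, 230, 0⟩ [.ext 0 999 [] []] [] (some (3, 0))),
  (.edge 0 764 230 62 204 1121, .walk ⟨62, 204, 475⟩ [.code 5, .code 827, .code 5, .ext 1 773 [3, 0, 1] [], .merge 849, .code 416, .ext 0 690 [0, 1, 1, 2] [], .merge 840, .merge 853, .code 1054, .ext 1 105 [1, 1] [109], .merge 855, .code 224, .ext 0 679 [1, 1, 2] [], .merge 814, .code 5, .code 1054, .code 5, .ext 1 63 [0, 1, 1, 1] [61], .code 416, .ext 0 858 [3] [], .merge 969, .code 827, .ext 1 997 [0, 3, 2] [], .code 224] [] (some (5, 12))),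
  (.edge 1 62 204 764 230 723, .walk ⟨764, 230, 0⟩ [.ext 0 1001 [] []] [] (some (3, 0))),
  (.edge 1 23 155 0 231 0, .def'),
  (.edge 0 416 231 449 179 470, .walk ⟨449, 179, 427⟩ [.code 1054, .ext 1 701 [0, 0, 0] [], .code 224, .ext 0 715 [2, 1, 2] [], .merge 972, .code 5, .code 1054, .code 5, .ext 1 935 [3] [], .merge 989, .code 416, .ext 0 990 [0, 0, 0, 1] [449, 449], .code 827, .ext 1 975 [0, 2, 1, 3] [], .code 224, .ext 0 919 [3, 0, 1] [], .code 5, .code 827, .code 5, .ext 1 1003 [] [], .code 416] [] (some (5, 6))),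
  (.edge 1 449 179 416 231 471, .walk ⟨416, 231, 0⟩ [.ext 0 1004 [] []] [] (some (3, 0))),
  (.edge 1 450 212 0 232 0, .def'),
  (.edge 0 416 232 45 181 3, .walk ⟨45, 181, 427⟩ [.code 1054, .ext 1 704 [0, 0, 2, 1] [], .code 224, .ext 0 715 [0, 2, 1, 3] [], .merge 972, .code 5, .code 1054, .code 5, .ext 1 935 [0, 3, 0] [], .merge 989, .code 416, .ext 0 990 [0, 1, 2] [449, 449], .code 827, .ext 1 973 [] [], .code 224, .ext 0 902 [0] [], .code 5, .code 827, .code 5, .ext 1 1006 [] [], .code 416] [] (some (5, 6))),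
  (.edge 1 45 181 416 232 3, .walk ⟨416, 232, 0⟩ [.ext 0 1007 [] []] [] (some (3, 0))),
  (.edge 0 32 18 0 233 0, .def'),
  (.edge 1 0 233 32 18 0, .walk ⟨32, 18, 0⟩ [.ext 0 1009 [] []] [] (some (3, 0))),
  (.edge 0 0 233 80 221 993, .walk ⟨80, 221, 993⟩ [.ext 0 920 [1] [], .merge 972, .ext 0 1009 [] []] [] (some (0, 1))),
  (.edge 0 1125 233 0 234 0, .def'),
  (.edge 0 1125 234 0 235 0, .def'),
  (.edge 0 1125 235 547 229 0, .walk ⟨547, 229, 0⟩ [.code 1125, .ext 0 996 [0, 0, 1] [], .code 1125, .ext 0 1009 [] [], .code 1125, .ext 0 1012 [] [], .code 1125, .ext 0 1013 [] [], .code 1125] [] (some (1, 3))),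
  (.edge 0 761 234 958 170 1121, .walk ⟨958, 170, 1121⟩ [.code 247, .ext 0 678 [0, 1, 1] [], .merge 969, .code 247, .ext 0 1009 [] [], .code 247, .ext 0 1012 [0, 3, 0, 1] [], .code 247] [] (some (2, 3))),
  (.edge 0 65 233 0 236 0, .def'),
  (.edge 0 1125 236 0 237 0, .def'),
  (.edge 1 0 237 1125 236 0, .walk ⟨1125, 236, 0⟩ [.ext 0 1017 [] []] [] (some (3, 0))),
  (.edge 0 1125 237 474 170 1121, .walk ⟨474, 170, 1121⟩ [.code 1125, .ext 0 678 [0, 2] [], .merge 969, .code 1125, .ext 0 1009 [2, 0] [], .code 1125, .ext 0 1016 [] [], .code 1125, .ext 0 1017 [] [], .code 1125] [] (some (1, 3))),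
  (.merge 236 235 462 938, .walk ⟨1121, 235, 938⟩ [.ext 0 1014 [2] [], .code 247, .ext 0 996 [0, 0, 0, 1] [], .code 247, .ext 0 1009 [2, 0] [94], .code 247, .ext 0 1016 [0, 3, 0, 1] [], .code 247] [] (some (2, 4))),
  (.edge 0 48 18 0 238 0, .def'),
  (.edge 0 0 238 761 189 717, .walk ⟨761, 189, 717⟩ [.ext 0 729 [0, 0, 2] [], .merge 972, .ext 0 1021 [] []] [] (some (0, 1))),
  (.edge 0 1125 238 0 239 0, .def'),
  (.edge 1 0 239 1125 238 0, .walk ⟨1125, 238, 0⟩ [.ext 0 1023 [] []] [] (some (3, 0))),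
  (.edge 0 1125 239 0 240 0, .def'),
  (.edge 1 0 240 1125 239 0, .walk ⟨1125, 239, 0⟩ [.ext 0 1025 [] []] [] (some (3, 0))),
  (.edge 0 1125 240 432 229 0, .walk ⟨432, 229, 0⟩ [.code 1125, .ext 0 996 [1, 2, 0, 3] [], .code 1125, .ext 0 1021 [] [], .code 1125, .ext 0 1023 [] [], .code 1125, .ext 0 1025 [] [], .code 1125] [] (some (1, 3))),
  (.merge 239 237 951 938, .walk ⟨248, 237, 938⟩ [.ext 0 1019 [0, 1, 3] [], .code 247, .ext 0 678 [0, 0, 1, 1, 2] [], .merge 969, .code 247, .ext 0 1021 [] [94], .code 247, .ext 0 1023 [0, 3, 0, 1] [], .code 247] [] (some (2, 4))),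
  (.edge 1 951 237 1125 238 938, .walk ⟨0, 239, 0⟩ [.merge 1028] [.ext 1 1024 [] []] none),
  (.edge 0 65 238 987 233 1138, .walk ⟨987, 233, 1138⟩ [.code 1125, .ext 0 1012 [3, 1] [], .code 1125, .ext 0 1015 [2, 1, 3] [], .code 1125, .ext 0 678 [] [677], .merge 969, .code 1125, .ext 0 1021 [2, 0] [94], .code 1125] [] (some (1, 7))),
  (.merge 240 233 943 71, .walk ⟨1121, 240, 938⟩ [] [.ext 0 1027 [2] [], .code 247, .ext 0 996 [1, 2, 3] [], .code 247, .ext 0 1021 [2, 0] [94], .code 247, .ext 0 1030 [0, 3, 0, 1] [], .code 247] (some (2, 4))),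
  (.edge 1 943 233 94 237 732, .walk ⟨0, 240, 0⟩ [.merge 1031] [.ext 1 1026 [] [], .merge 1028] none),
  (.merge 237 18 98 1138, .walk ⟨943, 233, 0⟩ [.ext 1 1032 [] []] [.ext 1 1010 [0, 1, 2] []] none),
  (.edge 1 98 18 746 235 71, .walk ⟨0, 237, 0⟩ [.merge 1033] [.ext 1 1018 [] [], .merge 1020] none),
  (.edge 1 276 18 1125 238 71, .walk ⟨951, 237, 0⟩ [.merge 1033] [.ext 1 1029 [] []] none),
  (.merge 235 189 25 1122, .walk ⟨98, 18, 0⟩ [.ext 1 1034 [] []] [.ext 1 974 [0, 2] [94]] none),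
  (.merge 238 221 942 955, .walk ⟨276, 18, 0⟩ [.ext 1 1035 [] []] [.ext 1 975 [0, 0, 1, 2] [94]] none),
  (.edge 0 942 221 761 189 1008, .walk ⟨0, 238, 0⟩ [.merge 1037] [.ext 0 1022 [] []] none),
  (.edge 0 1143 221 987 233 79, .walk ⟨65, 238, 0⟩ [.merge 1037] [.ext 0 1030 [] []] none),
  (.merge 189 155 147 1008, .walk ⟨942, 221, 0⟩ [.ext 0 1038 [] []] [.ext 0 919 [3, 0] []] none),
  (.edge 0 282 155 1038 175 234, .walk ⟨224, 189, 0⟩ [.merge 1040] [.ext 0 728 [] []] none),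
  (.edge 0 509 155 0 199 708, .walk ⟨448, 189, 0⟩ [.merge 1040] [.ext 0 900 [] []] none),
  (.merge 233 155 1033 955, .walk ⟨1143, 221, 0⟩ [.ext 0 1039 [] []] [.ext 0 919 [0, 0] [929, 929]] none),
  (.edge 0 1033 155 80 221 708, .walk ⟨0, 233, 0⟩ [.merge 1043] [.ext 0 1011 [] []] none),
  (.edge 0 1057 155 486 155 94, .walk ⟨65, 233, 0⟩ [.merge 1043] [.ext 0 1016 [] [], .merge 1020, .merge 1036, .merge 1040] none),
  (.merge 199 155 495 930, .walk ⟨1057, 155, 0⟩ [.ext 0 1042 [0, 3, 2] []] [.ext 0 1045 [] []] none),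
  (.edge 1 288 155 546 104 647, .walk ⟨1038, 199, 0⟩ [.merge 1046] [.ext 1 788 [] [], .merge 890] none),
  (.edge 0 1007 178 38 142 851, .walk ⟨38, 142, 253⟩ [.code 1054, .ext 1 584 [0, 1, 3] [], .code 224, .ext 0 582 [0, 1, 3, 2] [], .merge 969, .code 5, .code 1054, .code 5, .ext 1 988 [1, 1, 1] [], .code 416, .ext 0 931 [0, 2, 1] [61], .merge 977, .code 827, .ext 1 985 [0, 0, 1, 1, 2] [], .code 224, .ext 0 891 [0, 0, 0] [], .merge 907, .code 5, .code 827, .code 5, .ext 1 695 [1, 2] [], .code 416] [] (some (5, 6))),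
  (.merge 175 155 1135 469, .walk ⟨842, 155, 86⟩ [.ext 0 1044 [0, 1] [], .code 1125, .ext 0 920 [0, 0, 2] [929, 929], .merge 972, .code 1125, .ext 0 1021 [0, 0, 1, 2] [94], .merge 1037, .code 1125, .ext 0 919 [0, 0, 1, 2] [929], .code 1125, .ext 0 1041 [0, 0, 2, 3] [], .code 1125] [] (some (1, 4))),
  (.edge 1 366 155 31 104 735, .walk ⟨815, 175, 0⟩ [.merge 1049] [.ext 1 693 [] [], .merge 904] none),
  (.edge 0 160 18 0 241 0, .def'),
  (.edge 0 0 241 1124 180 575, .walk ⟨1124, 180, 575⟩ [.ext 0 715 [2, 3] [], .merge 972, .ext 0 1051 [] [94]] [] (some (0, 1))),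
  (.edge 0 1125 241 0 242 0, .def'),
  (.edge 0 1125 242 0 243 0, .def'),
  (.edge 1 0 243 1125 242 0, .walk ⟨1125, 242, 0⟩ [.ext 0 1054 [] []] [] (some (3, 0))),
  (.edge 0 1125 243 1128 222 995, .walk ⟨1128, 222, 995⟩ [.code 1125, .ext 0 924 [0, 3, 1] [], .merge 972, .code 1125, .ext 0 1051 [] [], .code 1125, .ext 0 1053 [] [], .code 1125, .ext 0 1054 [] [], .code 1125] [] (some (1, 3))),
  (.edge 1 1128 222 1125 243 998, .walk ⟨1125, 243, 0⟩ [.ext 0 1056 [] []] [] (some (3, 0))),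
  (.edge 0 761 242 91 180 427, .walk ⟨91, 180, 427⟩ [.code 247, .ext 0 715 [0, 2, 1, 3] [], .merge 972, .code 247, .ext 0 1051 [] [], .code 247, .ext 0 1053 [0, 3, 0, 1] [], .code 247] [] (some (2, 3))),
  (.edge 1 91 180 761 242 240, .walk ⟨761, 242, 0⟩ [.ext 0 1058 [] []] [] (some (3, 0))),
  (.edge 0 65 241 0 244 0, .def'),
  (.edge 0 1125 244 0 245 0, .def'),
  (.edge 0 1125 245 754 180 427, .walk ⟨754, 180, 427⟩ [.code 1125, .ext 0 715 [1, 3, 0] [], .merge 972, .code 1125, .ext 0 1051 [2, 0] [], .code 1125, .ext 0 1060 [] [], .code 1125, .ext 0 1061 [] [], .code 1125] [] (some (1, 3))),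
  (.edge 1 754 180 1125 245 240, .walk ⟨1125, 245, 0⟩ [.ext 0 1062 [] []] [] (some (3, 0))),
  (.edge 0 761 244 238 222 995, .walk ⟨238, 222, 995⟩ [.code 247, .ext 0 924 [0, 1, 2, 3] [], .merge 972, .code 247, .ext 0 1051 [2, 0] [], .code 247, .ext 0 1060 [0, 3, 0, 1] [], .code 247] [] (some (2, 3))),
  (.edge 1 238 222 761 244 998, .walk ⟨761, 244, 0⟩ [.ext 0 1064 [] []] [] (some (3, 0))),
  (.edge 0 336 18 1131 243 1141, .walk ⟨1131, 243, 64⟩ [.ext 0 1056 [0, 0, 0, 1, 1] [], .ext 0 924 [0, 0, 2, 3] [930], .merge 972] [] (some (0, 2))),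
  (.edge 1 1131 243 336 18 728, .walk ⟨336, 18, 0⟩ [.ext 0 1066 [] []] [] (some (3, 0))),
  (.edge 0 706 243 0 246 0, .def'),
  (.edge 0 1125 246 1149 244 938, .walk ⟨1149, 244, 728⟩ [.code 1125, .ext 0 1064 [0, 2, 1, 2] [], .code 1125, .ext 0 924 [2, 1] [930, 930], .merge 972, .code 1125, .ext 0 1066 [] [94], .code 1125, .ext 0 1068 [] [], .code 1125] [] (some (1, 5))),
  (.edge 0 761 246 5 180 454, .walk ⟨5, 180, 427⟩ [.code 247, .ext 0 715 [1] [], .merge 972, .code 247, .ext 0 1066 [] [94], .code 247, .ext 0 1068 [0, 3, 0, 1] [], .code 247] [] (some (2, 3))),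
  (.edge 1 5 180 761 246 456, .walk ⟨761, 246, 0⟩ [.ext 0 1070 [] []] [] (some (3, 0))),
  (.edge 0 949 243 0 247 0, .def'),
  (.edge 1 0 247 949 243 0, .walk ⟨949, 243, 0⟩ [.ext 0 1072 [] []] [] (some (3, 0))),
  (.edge 0 1125 247 0 248 0, .def'),
  (.edge 0 1125 248 988 180 454, .walk ⟨988, 180, 427⟩ [.code 1125, .ext 0 715 [1, 2] [], .merge 972, .code 1125, .ext 0 1066 [2, 0] [94], .code 1125, .ext 0 1072 [] [], .code 1125, .ext 0 1074 [] [], .code 1125] [] (some (1, 3))),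
  (.merge 247 243 935 938, .walk ⟨243, 243, 728⟩ [.ext 0 1056 [0, 0, 1, 2, 3] [], .code 247, .ext 0 924 [2, 1, 2] [930, 930], .merge 972, .code 247, .ext 0 1066 [2, 0] [94], .code 247, .ext 0 1072 [0, 3, 0, 1] [], .code 247] [] (some (2, 4))),
  (.edge 0 71 243 0 248 938, .walk ⟨1125, 247, 0⟩ [.merge 1076] [.ext 0 1074 [] []] none),
  (.edge 1 935 243 949 243 938, .walk ⟨0, 247, 0⟩ [.merge 1076] [.ext 1 1073 [] []] none),
  (.merge 243 242 555 938, .walk ⟨935, 243, 0⟩ [.ext 1 1078 [] []] [.ext 1 1055 [0, 3, 0, 1] []] none),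
  (.edge 0 449 242 1128 222 718, .walk ⟨1125, 243, 0⟩ [.merge 1079] [.ext 0 1056 [] []] none),
  (.edge 0 746 242 0 246 938, .walk ⟨706, 243, 0⟩ [.merge 1079] [.ext 0 1068 [] []] none),
  (.edge 0 446 242 0 248 0, .walk ⟨71, 243, 0⟩ [.merge 1079] [.ext 0 1077 [] []] none),
  (.edge 1 462 242 336 18 1013, .walk ⟨1131, 243, 0⟩ [.merge 1079] [.ext 1 1067 [] []] none),
  (.merge 248 180 429 427, .walk ⟨446, 242, 0⟩ [.ext 0 1082 [] []] [.ext 0 1058 [2, 3] []] none),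
  (.edge 0 975 180 988 180 1012, .walk ⟨1125, 248, 0⟩ [.merge 1084] [.ext 0 1075 [] []] none),
  (.merge 180 179 694 1012, .walk ⟨975, 180, 0⟩ [.ext 0 1085 [] []] [.ext 0 702 [2, 1, 3] []] none),
  (.edge 0 399 179 0 181 1012, .walk ⟨416, 180, 0⟩ [.merge 1086] [.ext 0 703 [] []] none),
  (.edge 0 887 179 827 212 82, .walk ⟨460, 180, 0⟩ [.merge 1086] [.ext 0 902 [] []] none),
  (.edge 0 380 179 1038 204 420, .walk ⟨64, 180, 0⟩ [.merge 1086] [.ext 0 903 [] []] none),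
  (.edge 1 358 179 761 242 456, .walk ⟨91, 180, 0⟩ [.merge 1086] [.ext 1 1059 [] []] none),
  (.edge 1 190 179 1125 245 456, .walk ⟨754, 180, 0⟩ [.merge 1086] [.ext 1 1063 [] []] none),
  (.edge 1 691 179 761 246 240, .walk ⟨5, 180, 0⟩ [.merge 1086] [.ext 1 1071 [] []] none),
  (.merge 246 230 425 1141, .walk ⟨691, 179, 0⟩ [.ext 1 1092 [] []] [.ext 1 1000 [0, 1] []] none),
  (.edge 0 969 230 1149 244 64, .walk ⟨1125, 246, 0⟩ [.merge 1093] [.ext 0 1069 [] []] none),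
  (.merge 244 18 682 64, .walk ⟨969, 230, 0⟩ [.ext 0 1094 [] []] [.ext 0 998 [0, 3, 0, 1] []] none),
  (.edge 0 624 18 0 245 64, .walk ⟨1125, 244, 0⟩ [.merge 1095] [.ext 0 1061 [] []] none),
  (.edge 0 168 18 238 222 1123, .walk ⟨761, 244, 0⟩ [.merge 1095] [.ext 0 1064 [] []] none),
  (.merge 241 222 551 1123, .walk ⟨168, 18, 0⟩ [.ext 0 1051 [2, 0] []] [.ext 0 1097 [] []] none),
  (.edge 0 551 222 638 179 420, .walk ⟨0, 241, 0⟩ [.merge 1098] [.ext 0 1052 [] [], .merge 1086] none)]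

/-- Part 11 of the identities. -/
def facts11 : List (Concl × Why) := [
  (.edge 0 471 222 0 242 724, .walk ⟨1125, 241, 0⟩ [.merge 1098] [.ext 0 1053 [] []] none),
  (.merge 179 157 1135 966, .walk ⟨551, 222, 0⟩ [.ext 0 1099 [] []] [.ext 0 923 [2, 0, 1] [930, 930]] none),
  (.edge 0 906 157 0 181 553, .walk ⟨399, 179, 0⟩ [.merge 1101] [.ext 0 1087 [] []] none),
  (.edge 0 172 157 827 212 740, .walk ⟨887, 179, 0⟩ [.merge 1101] [.ext 0 1088 [] []] none),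
  (.edge 0 307 157 1038 204 704, .walk ⟨380, 179, 0⟩ [.merge 1101] [.ext 0 1089 [] []] none),
  (.edge 1 96 157 235 109 1095, .walk ⟨1038, 179, 0⟩ [.merge 1101] [.ext 1 724 [] [], .merge 906] none),
  (.edge 1 558 157 416 231 936, .walk ⟨449, 179, 0⟩ [.merge 1101] [.ext 1 1005 [] []] none),
  (.edge 1 297 157 761 242 951, .walk ⟨358, 179, 0⟩ [.merge 1101] [.ext 1 1090 [] []] none),
  (.edge 1 659 157 1125 245 951, .walk ⟨190, 179, 0⟩ [.merge 1101] [.ext 1 1091 [] []] none),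
  (.merge 242 157 864 1123, .walk ⟨471, 222, 0⟩ [.ext 0 1100 [] []] [.ext 0 923 [1, 2] []] none),
  (.edge 0 627 157 297 157 88, .walk ⟨761, 242, 0⟩ [.merge 1109] [.ext 0 1058 [] [], .merge 1086, .merge 1101] none),
  (.edge 0 685 157 1128 222 1144, .walk ⟨449, 242, 0⟩ [.merge 1109] [.ext 0 1080 [] []] none),
  (.edge 0 609 157 425 230 998, .walk ⟨746, 242, 0⟩ [.merge 1109] [.ext 0 1081 [] [], .merge 1093] none),
  (.edge 1 675 157 336 18 951, .walk ⟨462, 242, 0⟩ [.merge 1109] [.ext 1 1083 [] []] none),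
  (.merge 204 157 495 930, .walk ⟨627, 157, 0⟩ [.ext 0 1104 [0, 2, 3] []] [.ext 0 1110 [] []] none),
  (.edge 1 495 157 68 109 1131, .walk ⟨0, 204, 0⟩ [.merge 1114] [.ext 1 772 [] [], .merge 889] none),
  (.edge 1 506 157 979 66 202, .walk ⟨20, 204, 0⟩ [.merge 1114] [.ext 1 994 [] []] none),
  (.edge 1 659 157 764 230 998, .walk ⟨62, 204, 0⟩ [.merge 1114] [.ext 1 1002 [] []] none),
  (.merge 230 181 762 981, .walk ⟨609, 157, 0⟩ [.ext 0 1112 [] []] [.ext 0 1102 [0, 3, 0, 1] []] none),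
  (.merge 158 18 804 951, .walk ⟨675, 157, 0⟩ [.ext 1 633 [0, 1, 2] []] [.ext 1 1113 [] []] none),
  (.edge 0 660 18 16 142 452, .walk ⟨416, 158, 0⟩ [.merge 1119] [.ext 0 634 [] []] none),
  (.merge 245 181 710 427, .walk ⟨659, 157, 0⟩ [.ext 1 1108 [] []] [.ext 1 1117 [] [], .merge 1118] none),
  (.merge 181 142 1141 2, .walk ⟨660, 18, 0⟩ [.ext 0 1096 [1] [], .merge 1121] [.ext 0 1120 [] []] none),
  (.edge 1 1108 142 416 232 1, .walk ⟨45, 181, 0⟩ [.merge 1122] [.ext 1 1008 [] []] none),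
  (.edge 0 22 142 928 141 95, .walk ⟨928, 141, 253⟩ [.ext 0 582 [3] [], .merge 969, .ext 0 1096 [0, 2, 3] [], .merge 1121, .merge 1122] [] (some (0, 1))),
  (.merge 212 142 483 9, .walk ⟨28, 142, 573⟩ [.ext 0 1124 [0, 1, 1, 2] [], .code 1125, .ext 0 582 [2, 3] [595], .merge 969, .code 1125, .ext 0 1051 [0, 3, 0] [94], .merge 1098, .code 1125, .ext 0 923 [0, 3, 1] [930], .code 1125, .ext 0 1103 [0, 0] [], .code 1125] [] (some (1, 4))),
  (.edge 1 704 142 172 157 747, .walk ⟨827, 212, 0⟩ [.merge 1125] [.ext 1 797 [] [], .merge 901, .merge 1086, .merge 1101] none),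
  (.edge 0 32 26 733 123 1117, .walk ⟨733, 123, 1117⟩ [.ext 0 401 [1, 2, 0] [], .ext 0 201 [0, 1, 2] [205], .merge 563, .merge 980] [] (some (0, 2))),
  (.edge 0 23 123 0 249 0, .def'),
  (.edge 0 1125 249 0 250 0, .def'),
  (.edge 0 1125 250 26 104 773, .walk ⟨26, 104, 77⟩ [.code 1125, .ext 0 361 [0, 2, 3] [], .merge 976, .code 1125, .ext 0 1127 [] [], .code 1125, .ext 0 1128 [] [], .code 1125, .ext 0 1129 [] [], .code 1125] [] (some (1, 3))),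
  (.merge 249 122 239 0, .walk ⟨929, 122, 1117⟩ [.ext 0 396 [0, 0, 3] [], .merge 543, .merge 547, .code 247, .ext 0 548 [0, 3] [], .merge 976, .code 247, .ext 0 1127 [] [], .code 247, .ext 0 1128 [0, 3, 0, 1] [], .code 247] [] (some (2, 4))),
  (.edge 0 426 122 0 250 0, .walk ⟨1125, 249, 0⟩ [.merge 1131] [.ext 0 1129 [] []] none),
  (.merge 250 131 938 0, .walk ⟨426, 122, 0⟩ [.ext 0 1132 [] []] [.ext 0 414 [0, 0, 3] []] none),
  (.edge 0 80 131 26 104 773, .walk ⟨1125, 250, 0⟩ [.merge 1133] [.ext 0 1130 [] []] none),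
  (.edge 0 48 26 0 251 0, .def'),
  (.edge 0 0 251 573 60 880, .walk ⟨573, 60, 880⟩ [.ext 0 274 [0, 1, 3] [], .merge 560, .merge 561, .merge 980, .ext 0 1135 [] []] [] (some (0, 1))),
  (.edge 0 1125 251 0 252 0, .def'),
  (.merge 252 131 997 99, .walk ⟨443, 131, 99⟩ [.ext 0 415 [0, 0, 3] [], .merge 543, .merge 547, .code 247, .ext 0 548 [0, 0, 1, 1, 2] [], .merge 976, .code 247, .ext 0 1135 [] [], .code 247, .ext 0 1137 [0, 3, 0, 1] [], .code 247] [] (some (2, 4))),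
  (.edge 0 65 251 26 136 1117, .walk ⟨26, 136, 1117⟩ [.code 1125, .ext 0 427 [0, 0, 0] [], .merge 428, .code 1125, .ext 0 420 [0, 1, 1, 2] [], .merge 543, .merge 547, .code 1125, .ext 0 548 [] [], .merge 976, .code 1125, .ext 0 1135 [2, 0] [], .code 1125] [] (some (1, 7))),
  (.edge 1 26 136 65 251 592, .walk ⟨65, 251, 0⟩ [.ext 0 1139 [] []] [] (some (3, 0))),
  (.pair 251 993 880, .walk ⟨953, 136, 0⟩ [.ext 1 1140 [] [426]] [.ext 1 1140 [0, 0, 3] []] none),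
  (.merge 131 60 93 313, .walk ⟨1125, 251, 0⟩ [.ext 0 1137 [] [], .merge 1138] [.ext 0 1136 [2, 3] [1141]] none),
  (.edge 0 979 60 986 44 469, .walk ⟨761, 131, 0⟩ [.merge 1142] [.ext 0 415 [] [], .merge 543, .merge 547] none),
  (.edge 0 11 60 26 104 902, .walk ⟨80, 131, 0⟩ [.merge 1142] [.ext 0 1134 [] []] none),
  (.merge 155 44 411 353, .walk ⟨979, 60, 0⟩ [.ext 0 991 [2, 3] [], .merge 1049] [.ext 0 1143 [] []] none),
  (.edge 1 573 44 1148 44 32, .walk ⟨822, 155, 0⟩ [.merge 1145] [.ext 1 928 [] []] none),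
  (.edge 1 763 44 546 104 230, .walk ⟨288, 155, 0⟩ [.merge 1145] [.ext 1 1047 [] []] none),
  (.edge 1 473 44 31 104 126, .walk ⟨366, 155, 0⟩ [.merge 1145] [.ext 1 1050 [] []] none),
  (.merge 104 45 879 868, .walk ⟨11, 60, 0⟩ [.ext 0 1144 [] []] [.ext 0 247 [0, 1, 1, 2] [], .merge 555] none),
  (.edge 0 314 45 1028 45 121, .walk ⟨416, 104, 0⟩ [.merge 1149] [.ext 0 346 [] [], .merge 567] none),
  (.edge 0 907 45 941 177 524, .walk ⟨70, 104, 0⟩ [.merge 1149] [.ext 0 891 [] [], .merge 907] none),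
  (.merge 122 44 1021 911, .walk ⟨573, 44, 0⟩ [.ext 1 549 [0, 3, 2] []] [.ext 1 1146 [] []] none),
  (.edge 0 712 44 459 124 922, .walk ⟨65, 122, 0⟩ [.merge 1152] [.ext 0 402 [] [], .merge 403] none),
  (.merge 134 45 688 520, .walk ⟨763, 44, 0⟩ [.ext 1 551 [1] []] [.ext 1 1147 [] [], .merge 1149] none),
  (.edge 0 636 45 0 135 262, .walk ⟨1125, 134, 0⟩ [.merge 1154] [.ext 0 419 [] []] none),
  (.merge 135 45 645 529, .walk ⟨473, 44, 0⟩ [.ext 1 550 [0, 1, 1] []] [.ext 1 1148 [] [], .merge 1149] none),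
  (.merge 124 45 984 923, .walk ⟨712, 44, 0⟩ [.ext 0 1153 [] []] [.ext 0 212 [0, 1, 3, 0] []] none),
  (.edge 0 240 45 980 46 300, .walk ⟨1125, 124, 0⟩ [.merge 1157] [.ext 0 400 [] []] none),
  (.pair 45 366 300, .walk ⟨636, 45, 0⟩ [.ext 0 1155 [] [], .merge 1156] [.ext 0 1150 [0, 0, 3, 0] []] none),
  (.merge 177 46 955 680, .walk ⟨240, 45, 0⟩ [.ext 0 1151 [0, 0, 0, 3] [1159, 1159]] [.ext 0 1158 [] []] none),
  (.edge 1 192 46 0 178 195, .walk ⟨1054, 177, 0⟩ [.merge 1160] [.ext 1 695 [] []] none),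
  (.edge 1 1030 46 95 178 341, .walk ⟨218, 177, 0⟩ [.merge 1160] [.ext 1 908 [] []] none),
  (.edge 0 160 26 0 253 0, .def'),
  (.edge 0 1125 253 449 111 168, .walk ⟨449, 111, 168⟩ [.code 1125, .ext 0 383 [2, 1, 3] [], .merge 384, .code 1125, .ext 0 369 [0, 1, 1, 2] [], .merge 519, .merge 528, .code 1125, .ext 0 198 [2] [532], .merge 980, .code 1125, .ext 0 1163 [] [], .code 1125] [] (some (1, 7))),
  (.edge 1 449 111 1125 253 664, .walk ⟨1125, 253, 0⟩ [.ext 0 1164 [] []] [] (some (3, 0))),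
  (.merge 74 26 807 664, .walk ⟨160, 26, 0⟩ [.ext 0 1163 [] [], .code 247, .ext 0 1164 [0, 3, 0, 1] [], .code 247, .ext 0 407 [0, 0, 1, 1] [], .merge 410, .code 247, .ext 0 411 [0, 0, 1, 2, 3] [], .code 247] [] (some (2, 0))),
  (.edge 0 373 26 0 75 168, .walk ⟨1125, 74, 0⟩ [.merge 1166] [.ext 0 282 [] []] none),
  (.edge 0 904 26 991 76 365, .walk ⟨761, 74, 0⟩ [.merge 1166] [.ext 0 287 [] []] none),
  (.edge 1 807 26 1125 72 168, .walk ⟨0, 74, 0⟩ [.merge 1166] [.ext 1 281 [] []] none),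
  (.edge 1 331 26 92 82 168, .walk ⟨450, 74, 0⟩ [.merge 1166] [.ext 1 409 [] [], .merge 410] none),
  (.merge 72 39 1018 329, .walk ⟨807, 26, 0⟩ [.ext 1 1169 [] []] [.ext 1 981 [0, 2, 3] []] none),
  (.edge 0 1018 39 3 64 634, .walk ⟨0, 72, 0⟩ [.merge 1171] [.ext 0 277 [] [], .merge 523] none),
  (.merge 82 66 983 34, .walk ⟨331, 26, 0⟩ [.ext 1 1170 [] []] [.ext 1 983 [2, 0] []] none),
  (.edge 0 226 66 89 76 40, .walk ⟨1125, 82, 0⟩ [.merge 1173] [.ext 0 301 [] []] none),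
  (.merge 164 64 845 613, .walk ⟨1018, 39, 0⟩ [.ext 0 881 [0, 1, 2] []] [.ext 0 1172 [] []] none),
  (.merge 157 76 378 321, .walk ⟨226, 66, 0⟩ [.ext 0 992 [0, 3, 0] [], .merge 1101] [.ext 0 1174 [] []] none),
  (.edge 0 833 76 1141 142 305, .walk ⟨906, 157, 0⟩ [.merge 1176] [.ext 0 1102 [] [], .merge 1122] none),
  (.edge 0 262 76 1128 222 921, .walk ⟨685, 157, 0⟩ [.merge 1176] [.ext 0 1111 [] []] none),
  (.edge 1 100 76 804 18 875, .walk ⟨815, 157, 0⟩ [.merge 1176] [.ext 1 633 [] [], .merge 1119] none),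
  (.edge 1 229 76 224 165 892, .walk ⟨43, 157, 0⟩ [.merge 1176] [.ext 1 659 [] []] none),
  (.edge 1 253 76 551 76 966, .walk ⟨51, 157, 0⟩ [.merge 1176] [.ext 1 926 [] []] none),
  (.edge 1 726 76 235 109 1067, .walk ⟨96, 157, 0⟩ [.merge 1176] [.ext 1 1105 [] []] none),
  (.edge 1 907 76 416 231 885, .walk ⟨558, 157, 0⟩ [.merge 1176] [.ext 1 1106 [] []] none),
  (.edge 1 1028 76 199 76 1008, .walk ⟨297, 157, 0⟩ [.merge 1176] [.ext 1 1107 [] [], .merge 1109, .merge 1176] none),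
  (.edge 1 8 76 68 109 906, .walk ⟨495, 157, 0⟩ [.merge 1176] [.ext 1 1115 [] []] none),
  (.edge 1 28 76 979 66 43, .walk ⟨506, 157, 0⟩ [.merge 1176] [.ext 1 1116 [] []] none),
  (.pair 64 881 1009, .walk ⟨964, 164, 0⟩ [.pair 655 0, .merge 1175] [.merge 1175] none),
  (.merge 111 76 554 3, .walk ⟨253, 76, 0⟩ [.ext 1 366 [0, 0, 0] []] [.ext 1 1181 [] []] none),
  (.edge 0 441 76 459 113 966, .walk ⟨65, 111, 0⟩ [.merge 1188] [.ext 0 383 [] [], .merge 384] none),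
  (.edge 0 428 76 458 75 965, .walk ⟨84, 111, 0⟩ [.merge 1188] [.ext 0 404 [] [], .merge 405] none),
  (.edge 1 554 76 96 6 3, .walk ⟨0, 111, 0⟩ [.merge 1188] [.ext 1 364 [] []] none),
  (.edge 1 1125 76 1125 253 646, .walk ⟨449, 111, 0⟩ [.merge 1188] [.ext 1 1165 [] []] none),
  (.merge 109 81 938 913, .walk ⟨726, 76, 0⟩ [.ext 1 1182 [] []] [.ext 1 303 [0, 1, 1] []] none),
  (.merge 81 75 82 3, .walk ⟨8, 76, 0⟩ [.ext 1 1185 [] [], .merge 1193] [.ext 1 284 [0, 3, 2] []] none),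
  (.edge 0 960 75 758 76 965, .walk ⟨761, 81, 0⟩ [.merge 1194] [.ext 0 302 [] []] none),
  (.merge 66 26 634 436, .walk ⟨28, 76, 0⟩ [.ext 1 1186 [] []] [.ext 1 288 [0, 0, 1, 1, 2] [], .merge 1166] none),
  (.merge 113 26 390 646, .walk ⟨441, 76, 0⟩ [.ext 0 1189 [] []] [.ext 0 406 [0, 0, 0, 1] [], .merge 496, .merge 573, .merge 984] none),
  (.edge 0 332 26 95 39 1017, .walk ⟨1125, 113, 0⟩ [.merge 1197] [.ext 0 369 [] [], .merge 519, .merge 528] none),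
  (.merge 75 65 838 646, .walk ⟨428, 76, 0⟩ [.ext 0 1190 [] []] [.ext 0 371 [0, 1] [], .merge 569] none)]

/-- Part 12 of the identities. -/
def facts12 : List (Concl × Why) := [
  (.edge 0 218 65 758 76 365, .walk ⟨960, 75, 0⟩ [.merge 1199] [.ext 0 1195 [] []] none),
  (.merge 165 6 1054 879, .walk ⟨554, 76, 0⟩ [.ext 1 1180 [3, 1] []] [.ext 1 1191 [] []] none),
  (.edge 0 1054 6 331 64 765, .walk ⟨0, 165, 0⟩ [.merge 1201] [.ext 0 657 [] [], .merge 1175] none),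
  (.merge 253 76 81 366, .walk ⟨1125, 76, 0⟩ [.ext 1 1192 [] []] [.ext 1 366 [0, 1, 3, 0] [], .merge 1188] none),
  (.merge 79 64 874 765, .walk ⟨1054, 6, 0⟩ [.ext 0 293 [3, 1] []] [.ext 0 1202 [] []] none),
  (.edge 0 874 64 1003 39 506, .walk ⟨0, 79, 0⟩ [.merge 1204] [.ext 0 295 [] [], .merge 519, .merge 528] none),
  (.edge 1 924 39 0 254 0, .def'),
  (.edge 0 0 254 924 39 0, .walk ⟨924, 39, 0⟩ [.ext 1 1206 [] []] [] (some (4, 0))),
  (.pair 254 961 43, .walk ⟨922, 39, 0⟩ [.ext 1 1206 [] [532]] [.ext 1 1206 [0, 1, 2, 3] []] none),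
  (.pair 254 708 1125, .walk ⟨966, 254, 32⟩ [.ext 0 1207 [0, 3, 1] [], .code 5, .code 1054, .code 5, .ext 1 531 [1, 2, 0, 3] [], .merge 1197, .code 416, .ext 0 1167 [0, 1, 1, 1] [], .merge 1199, .code 827, .ext 1 258 [1, 2, 0, 3] [], .code 224, .ext 0 257 [0, 3, 0] [525], .code 5, .code 827, .code 5, .ext 1 259 [0, 1, 1, 2] [], .merge 1196, .code 416, .ext 0 1198 [1, 1, 2] [], .code 1054, .ext 1 1206 [] [], .code 224] [] (some (5, 3))),
  (.edge 0 451 231 1065 39 217, .walk ⟨1065, 39, 1090⟩ [.code 1054, .ext 1 1206 [1, 1, 2] [], .code 224, .ext 0 1207 [3, 0, 1] [1209, 1209], .code 5, .code 1054, .code 5, .ext 1 531 [0, 2, 1, 3] [], .merge 1197, .code 416, .ext 0 1167 [2, 0, 1] [], .merge 1199, .code 827, .ext 1 259 [0, 3, 1] [], .merge 1196, .code 224, .ext 0 1163 [2, 1, 2] [], .merge 1203, .code 5, .code 827, .code 5, .ext 1 1183 [1, 2] [], .code 416] [] (some (5, 6))),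
  (.edge 0 731 254 0 255 0, .def'),
  (.edge 1 0 255 731 254 0, .walk ⟨731, 254, 0⟩ [.ext 0 1211 [] []] [] (some (3, 0))),
  (.pair 255 962 43, .walk ⟨442, 254, 0⟩ [.ext 0 1211 [] [1208]] [.ext 0 1211 [0, 3, 1] []] none),
  (.pair 255 53 964, .walk ⟨974, 255, 1090⟩ [.ext 1 1212 [3, 0] [], .code 224, .ext 0 1207 [2, 1] [1209, 1209], .code 5, .code 1054, .code 5, .ext 1 531 [0, 1, 3, 2] [], .merge 1197, .code 416, .ext 0 1167 [0, 2, 1] [], .merge 1199, .code 827, .ext 1 259 [2, 1] [], .merge 1196, .code 224, .ext 0 1198 [1, 2, 0] [], .code 5, .code 827, .code 5, .ext 1 1206 [1, 3, 2] [], .code 416, .ext 0 1211 [] [], .code 1054] [] (some (5, 5))),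
  (.edge 1 356 39 0 256 0, .def'),
  (.edge 0 416 256 824 255 300, .walk ⟨824, 255, 1090⟩ [.code 1054, .ext 1 1212 [2, 0, 3] [], .code 224, .ext 0 1207 [0, 0, 1, 2] [1209, 1209], .code 5, .code 1054, .code 5, .ext 1 531 [0, 1, 2, 3] [], .merge 1197, .code 416, .ext 0 1167 [0, 2, 1, 2] [], .merge 1199, .code 827, .ext 1 258 [0, 0, 1] [], .code 224, .ext 0 1205 [1, 2, 0] [1187], .code 5, .code 827, .code 5, .ext 1 1215 [] [], .code 416] [] (some (5, 6))),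
  (.edge 1 824 255 416 256 123, .walk ⟨416, 256, 0⟩ [.ext 0 1216 [] []] [] (some (3, 0))),
  (.edge 1 406 222 0 257 0, .def'),
  (.edge 0 224 257 814 39 691, .walk ⟨814, 39, 0⟩ [.code 5, .code 1054, .code 5, .ext 1 531 [1, 1] [533], .merge 1197, .code 416, .ext 0 1167 [0, 3, 0] [], .merge 1199, .code 827, .ext 1 559 [2, 1, 3] [], .code 224, .ext 0 927 [0, 2, 1] [], .merge 1176, .code 5, .code 827, .code 5, .ext 1 1179 [0, 0, 0, 1] [], .code 416, .ext 0 1051 [2, 1, 2] [], .merge 1098, .code 1054, .ext 1 1218 [] [], .code 224] [] (some (5, 2))),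
  (.edge 1 814 39 224 257 205, .walk ⟨224, 257, 0⟩ [.ext 0 1219 [] []] [] (some (3, 0))),
  (.pair 257 241 165, .walk ⟨547, 257, 205⟩ [.ext 0 1219 [0, 3, 2] [], .code 5, .code 1054, .code 5, .ext 1 531 [0, 0] [533], .merge 1197, .code 416, .ext 0 1167 [2, 3] [], .merge 1199, .code 827, .ext 1 570 [1, 2, 0] [], .merge 578, .merge 1193, .merge 1194, .merge 1199, .code 224, .ext 0 1200 [0, 3, 1] [], .code 5, .code 827, .code 5, .ext 1 1183 [3, 0] [], .code 416, .ext 0 1210 [0, 1, 2, 3] [], .code 1054, .ext 1 1220 [2, 0, 3] [533], .code 224] [] (some (5, 3))),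
  (.edge 1 364 222 992 256 760, .walk ⟨992, 256, 440⟩ [.code 416, .ext 0 1216 [0, 3, 2] [], .code 1054, .ext 1 1212 [0, 2, 3] [], .code 224, .ext 0 1207 [1, 2] [1209, 1209], .code 5, .code 1054, .code 5, .ext 1 531 [0, 0, 1] [], .merge 1197, .code 416, .ext 0 1168 [0, 2, 3] [], .code 827, .ext 1 1184 [0, 3] [], .code 224, .ext 0 1178 [0, 0, 1] [], .code 5, .code 827, .code 5] [] (some (5, 8))),
  (.edge 0 992 256 364 222 738, .walk ⟨364, 222, 0⟩ [.ext 1 1222 [] []] [] (some (4, 0))),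
  (.edge 0 160 39 0 258 0, .def'),
  (.edge 1 0 258 160 39 0, .walk ⟨160, 39, 0⟩ [.ext 0 1224 [] []] [] (some (3, 0))),
  (.pair 258 9 32, .walk ⟨386, 39, 0⟩ [.ext 0 1224 [] [533]] [.ext 0 1224 [0, 2, 3] []] none),
  (.edge 0 65 258 0 259 0, .def'),
  (.edge 1 0 259 65 258 0, .walk ⟨65, 258, 0⟩ [.ext 0 1227 [] []] [] (some (3, 0))),
  (.edge 0 1125 259 0 260 0, .def'),
  (.edge 1 0 260 1125 259 0, .walk ⟨1125, 259, 0⟩ [.ext 0 1229 [] []] [] (some (3, 0))),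
  (.edge 0 1125 260 1021 254 32, .walk ⟨1021, 254, 32⟩ [.code 1125, .ext 0 1207 [0, 3, 2] [], .code 1125, .ext 0 1224 [0, 0, 3] [], .code 1125, .ext 0 1227 [] [1226], .code 1125, .ext 0 1229 [] [], .code 1125] [] (some (1, 3))),
  (.edge 0 761 259 14 257 205, .walk ⟨14, 257, 205⟩ [.code 247, .ext 0 1219 [0, 0] [], .code 247, .ext 0 1224 [2, 0] [], .code 247, .ext 0 1227 [0, 3, 0, 1] [], .code 247] [] (some (2, 3))),
  (.edge 0 176 39 0 261 0, .def'),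
  (.edge 1 0 261 176 39 0, .walk ⟨176, 39, 0⟩ [.ext 0 1233 [] []] [] (some (3, 0))),
  (.pair 261 937 32, .walk ⟨403, 39, 0⟩ [.ext 0 1233 [] [533]] [.ext 0 1233 [3] []] none),
  (.edge 0 0 261 0 262 0, .def'),
  (.edge 0 0 262 176 39 0, .walk ⟨176, 39, 0⟩ [.ext 0 1233 [] [], .ext 0 1236 [] []] [] (some (0, 0))),
  (.edge 1 176 39 0 262 0, .walk ⟨0, 262, 0⟩ [.ext 0 1237 [] []] [] (some (3, 0))),
  (.edge 0 1125 261 0 263 0, .def'),
  (.edge 1 0 263 1125 261 0, .walk ⟨1125, 261, 0⟩ [.ext 0 1239 [] []] [] (some (3, 0))),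
  (.edge 0 255 263 1149 259 1111, .walk ⟨1149, 259, 1125⟩ [.code 1125, .ext 0 1232 [0, 2, 1, 2] [], .code 1125, .ext 0 1219 [1, 2] [1221], .code 1125, .ext 0 1233 [0, 0, 1, 1] [], .code 1125, .ext 0 1239 [0, 0, 2] [], .code 1125] [] (some (1, 5))),
  (.merge 263 260 935 708, .walk ⟨243, 260, 708⟩ [.ext 0 1231 [0, 0, 1, 2, 3] [], .code 247, .ext 0 1207 [0, 0, 1, 1, 2] [1209], .code 247, .ext 0 1233 [3] [], .code 247, .ext 0 1239 [0, 3, 0, 1] [1235], .code 247] [] (some (2, 4))),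
  (.edge 0 752 260 1149 259 580, .walk ⟨255, 263, 0⟩ [.merge 1242] [.ext 0 1241 [] []] none),
  (.edge 1 935 260 1125 261 1146, .walk ⟨0, 263, 0⟩ [.merge 1242] [.ext 1 1240 [] []] none),
  (.merge 261 259 989 708, .walk ⟨935, 260, 0⟩ [.ext 1 1244 [] []] [.ext 1 1230 [0, 3, 0, 1] []] none),
  (.edge 0 989 259 0 262 1146, .walk ⟨0, 261, 0⟩ [.merge 1245] [.ext 0 1236 [] []] none),
  (.edge 1 989 259 176 39 1146, .walk ⟨0, 261, 0⟩ [.merge 1245] [.ext 1 1234 [] []] none),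
  (.pair 259 931 52, .walk ⟨937, 261, 0⟩ [.pair 1235 0, .merge 1245] [.merge 1245] none),
  (.merge 260 257 470 468, .walk ⟨761, 259, 0⟩ [.ext 0 1229 [1, 3, 2] [1248]] [.ext 0 1232 [] []] none),
  (.edge 0 1143 257 1149 259 531, .walk ⟨752, 260, 0⟩ [.merge 1249] [.ext 0 1243 [] []] none),
  (.merge 259 39 522 1135, .walk ⟨1143, 257, 0⟩ [.ext 0 1250 [] []] [.ext 0 1219 [3, 1] []] none),
  (.edge 0 688 39 470 257 747, .walk ⟨1125, 259, 0⟩ [.merge 1251] [.ext 0 1229 [] [], .merge 1249] none),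
  (.edge 0 386 39 0 262 20, .walk ⟨989, 259, 0⟩ [.merge 1251] [.ext 0 1246 [] []] none),
  (.edge 1 522 39 65 258 718, .walk ⟨0, 259, 0⟩ [.merge 1251] [.ext 1 1228 [] []] none),
  (.edge 1 386 39 176 39 20, .walk ⟨989, 259, 0⟩ [.merge 1251] [.ext 1 1247 [] []] none),
  (.merge 262 258 9 20, .walk ⟨386, 39, 0⟩ [.ext 0 1253 [] []] [.ext 0 1224 [0, 2, 3] []] none),
  (.pair 258 1138 708, .walk ⟨522, 39, 0⟩ [.ext 1 1254 [] []] [.ext 1 1238 [0, 0, 2, 3] [], .merge 1256] none),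
  (.merge 256 39 404 20, .walk ⟨386, 39, 0⟩ [.ext 1 1215 [0, 0, 2, 3] []] [.ext 1 1255 [] []] none),
  (.edge 0 628 39 824 255 303, .walk ⟨416, 256, 0⟩ [.merge 1258] [.ext 0 1216 [] []] none),
  (.edge 0 888 39 364 222 747, .walk ⟨992, 256, 0⟩ [.merge 1258] [.ext 0 1223 [] []] none),
  (.merge 257 255 326 220, .walk ⟨628, 39, 0⟩ [.ext 0 1252 [2, 3, 0] [533]] [.ext 0 1259 [] []] none),
  (.edge 0 32 46 1000 207 679, .walk ⟨1000, 207, 679⟩ [.ext 0 780 [3, 0] [], .ext 0 783 [2] [], .merge 907, .merge 1160] [] (some (0, 2))),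
  (.edge 1 1000 207 32 46 213, .walk ⟨32, 46, 0⟩ [.ext 0 1262 [] []] [] (some (3, 0))),
  (.edge 0 949 207 950 190 875, .walk ⟨950, 190, 852⟩ [.code 1125, .ext 0 778 [0, 3, 0, 1] [], .code 1125, .ext 0 782 [1, 2, 3] [], .code 1125, .ext 0 783 [0, 0, 0, 1, 1] [], .merge 907, .merge 1160, .code 1125, .ext 0 1262 [] [217], .code 1125] [] (some (1, 7))),
  (.merge 192 46 1063 835, .walk ⟨32, 46, 0⟩ [.ext 0 1262 [] [], .code 247, .ext 0 1264 [0, 3, 0, 1] [], .code 247, .ext 0 733 [0, 3, 1] [], .code 247, .ext 0 735 [0, 1, 1, 2] [], .code 247] [] (some (2, 0))),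
  (.edge 0 265 46 980 148 201, .walk ⟨1125, 192, 0⟩ [.merge 1265] [.ext 0 737 [] []] none),
  (.edge 0 49 46 957 191 57, .walk ⟨746, 192, 0⟩ [.merge 1265] [.ext 0 744 [] []] none),
  (.edge 1 1063 46 1125 191 852, .walk ⟨0, 192, 0⟩ [.merge 1265] [.ext 1 736 [] []] none),
  (.edge 1 601 46 65 190 860, .walk ⟨462, 192, 0⟩ [.merge 1265] [.ext 1 745 [] []] none),
  (.merge 191 178 712 818, .walk ⟨1063, 46, 0⟩ [.ext 1 1268 [] []] [.ext 1 1161 [2, 0] [217]] none),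
  (.edge 0 559 178 767 143 63, .walk ⟨761, 191, 0⟩ [.merge 1270] [.ext 0 739 [] []] none),
  (.edge 1 712 178 1125 190 1052, .walk ⟨0, 191, 0⟩ [.merge 1270] [.ext 1 734 [] []] none),
  (.merge 190 178 1000 973, .walk ⟨601, 46, 0⟩ [.ext 1 1269 [] []] [.ext 1 1162 [0, 0, 2, 3] [217]] none),
  (.edge 0 1000 178 548 178 2, .walk ⟨0, 190, 0⟩ [.merge 1273] [.ext 0 732 [] []] none),
  (.merge 143 10 524 1053, .walk ⟨559, 178, 0⟩ [.ext 0 1271 [] []] [.ext 0 696 [0, 0, 3, 2] []] none),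
  (.edge 0 351 10 830 10 873, .walk ⟨224, 143, 0⟩ [.merge 1275] [.ext 0 587 [] []] none),
  (.edge 1 339 10 0 214 873, .walk ⟨237, 143, 0⟩ [.merge 1275] [.ext 1 804 [] []] none),
  (.merge 207 178 1010 827, .walk ⟨712, 178, 0⟩ [.ext 1 781 [0] []] [.ext 1 1272 [] [], .merge 1273] none),
  (.edge 1 30 178 32 46 680, .walk ⟨1000, 207, 0⟩ [.merge 1278] [.ext 1 1263 [] []] none),
  (.merge 178 142 771 858, .walk ⟨1000, 178, 0⟩ [.ext 0 1274 [] []] [.ext 0 1048 [0, 0, 1, 1, 2] []] none),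
  (.edge 1 786 142 249 211 206, .walk ⟨16, 178, 0⟩ [.merge 1280] [.ext 1 794 [] []] none),
  (.merge 215 10 322 873, .walk ⟨351, 10, 0⟩ [.ext 0 805 [0, 0, 0, 1, 1] []] [.ext 0 1276 [] []] none),
  (.merge 214 148 1011 819, .walk ⟨339, 10, 0⟩ [.ext 1 1277 [] []] [.ext 1 602 [0, 1, 1, 1] []] none),
  (.merge 211 46 787 841, .walk ⟨30, 178, 0⟩ [.ext 1 794 [1, 1, 1] []] [.ext 1 1279 [] []] none),
  (.merge 232 46 1069 891, .walk ⟨786, 142, 0⟩ [.ext 1 1123 [3, 1] []] [.ext 1 1281 [] [], .merge 1284] none),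
  (.pair 148 865 31, .walk ⟨227, 148, 1007⟩ [.ext 1 807 [0, 1, 1] [], .merge 1282, .code 416, .ext 0 731 [2, 0, 1] [57], .merge 1273, .merge 1280, .code 1054, .ext 1 584 [0, 0, 0, 1, 1] [], .code 224, .ext 0 583 [1, 3, 0] [877, 595], .code 5, .code 1054, .code 5, .ext 1 584 [1, 1, 1] [594], .code 416, .ext 0 583 [3, 2] [877, 595], .code 827, .ext 1 585 [0, 0, 0, 1, 1] [], .merge 1275, .code 224, .ext 0 802 [2, 0] [], .merge 1283, .code 5, .code 827, .code 5] [] (some (5, 9))),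
  (.edge 1 796 148 0 264 0, .def'),
  (.edge 0 0 264 796 148 0, .walk ⟨796, 148, 0⟩ [.ext 1 1287 [] []] [] (some (4, 0))),
  (.edge 0 760 264 194 258 0, .walk ⟨194, 258, 937⟩ [.code 5, .code 827, .code 5, .ext 1 1225 [1, 3] [], .code 416, .ext 0 1260 [] [], .code 1054, .ext 1 1065 [0, 0, 2] [], .merge 1095, .code 224, .ext 0 1096 [0, 3, 2] [], .merge 1121, .merge 1122, .code 5, .code 1054, .code 5, .ext 1 585 [2, 0, 3] [], .merge 1275, .code 416, .ext 0 802 [3, 0] [], .merge 1283, .code 827, .ext 1 1287 [0, 2, 3] [], .code 224] [] (some (5, 12))),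
  (.edge 1 194 258 760 264 0, .walk ⟨760, 264, 0⟩ [.ext 0 1289 [] []] [] (some (3, 0))),
  (.edge 1 780 148 0 265 0, .def'),
  (.edge 0 0 265 780 148 0, .walk ⟨780, 148, 0⟩ [.ext 1 1291 [] []] [] (some (4, 0))),
  (.pair 265 928 938, .walk ⟨1102, 148, 0⟩ [.ext 1 1291 [] [603]] [.ext 1 1291 [3] []] none),
  (.pair 265 8 2, .walk ⟨1093, 148, 0⟩ [.ext 1 1291 [] [604]] [.ext 1 1291 [2, 0] []] none),
  (.pair 265 929 939, .walk ⟨1101, 148, 0⟩ [.ext 1 1291 [] [605]] [.ext 1 1291 [0, 0, 3] []] none),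
  (.pair 265 963 63, .walk ⟨779, 148, 0⟩ [.ext 1 1291 [] [898]] [.ext 1 1291 [0, 1, 3, 2] []] none),
  (.pair 265 5 31, .walk ⟨278, 148, 0⟩ [.ext 1 1291 [] [1286]] [.ext 1 1291 [0, 0, 2] []] none),
  (.pair 265 65 1008, .walk ⟨975, 265, 730⟩ [.ext 0 1292 [2, 1, 3] [], .code 5, .code 827, .code 5, .ext 1 807 [1, 1, 2, 0] [], .merge 1282, .code 416, .ext 0 731 [0, 1, 2] [57], .merge 1273, .merge 1280, .code 1054, .ext 1 584 [0, 0, 0] [], .code 224, .ext 0 583 [0, 1, 2, 3] [877, 595], .code 5, .code 1054, .code 5, .ext 1 585 [1] [], .merge 1275, .code 416, .ext 0 802 [0, 0, 1, 2] [], .merge 1283, .code 827, .ext 1 1291 [0, 2, 3] [], .code 224] [] (some (5, 13))),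
  (.edge 1 852 148 0 266 0, .def')]

/-- Part 13 of the identities. -/
def facts13 : List (Concl × Why) := [
  (.edge 0 0 266 852 148 0, .walk ⟨852, 148, 0⟩ [.ext 1 1299 [] []] [] (some (4, 0))),
  (.edge 0 224 266 221 258 158, .walk ⟨221, 258, 1146⟩ [.code 5, .code 827, .code 5, .ext 1 1225 [0, 2] [], .code 416, .ext 0 1260 [0, 1, 2, 3] [], .code 1054, .ext 1 1057 [0, 0] [], .merge 1079, .merge 1109, .merge 1176, .code 224, .ext 0 1177 [1, 1] [], .code 5, .code 1054, .code 5, .ext 1 1123 [0, 1, 3] [], .merge 1285, .code 416, .ext 0 1266 [1, 3] [], .code 827, .ext 1 1299 [] [], .code 224] [] (some (5, 12))),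
  (.pair 266 1127 732, .walk ⟨471, 266, 130⟩ [.ext 0 1300 [1, 2] [], .code 5, .code 827, .code 5, .ext 1 738 [0, 0, 0] [], .merge 1265, .code 416, .ext 0 1267 [0] [217], .merge 1270, .merge 1280, .code 1054, .ext 1 1126 [2, 1, 3] [594], .merge 1176, .code 224, .ext 0 1177 [0, 3, 2] [], .code 5, .code 1054, .code 5, .ext 1 1123 [0, 3, 1] [], .merge 1285, .code 416, .ext 0 1266 [3, 1] [], .code 827, .ext 1 1299 [0, 3, 2] [], .code 224] [] (some (5, 13))),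
  (.edge 0 32 148 0 267 0, .def'),
  (.edge 1 0 267 32 148 0, .walk ⟨32, 148, 0⟩ [.ext 0 1303 [] []] [] (some (3, 0))),
  (.edge 0 0 267 970 266 936, .walk ⟨970, 266, 936⟩ [.ext 0 1300 [3, 1] [], .ext 0 1303 [] [603, 604]] [] (some (0, 1))),
  (.edge 0 1125 267 0 268 0, .def'),
  (.edge 1 0 268 1125 267 0, .walk ⟨1125, 267, 0⟩ [.ext 0 1306 [] []] [] (some (3, 0))),
  (.edge 0 1125 268 544 267 734, .walk ⟨544, 267, 734⟩ [.code 1125, .ext 0 1305 [0, 0, 2, 1] [], .code 1125, .ext 0 1300 [1, 1] [1302], .code 1125, .ext 0 1303 [] [603], .code 1125, .ext 0 1306 [] [], .code 1125] [] (some (1, 5))),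
  (.edge 1 544 267 1125 268 1143, .walk ⟨1125, 268, 0⟩ [.ext 0 1308 [] []] [] (some (3, 0))),
  (.merge 268 267 233 64, .walk ⟨934, 267, 64⟩ [.ext 0 1305 [3, 2] [], .code 247, .ext 0 1300 [0, 0, 1, 2] [1302, 1302], .code 247, .ext 0 1303 [] [604], .code 247, .ext 0 1306 [0, 3, 0, 1] [], .code 247] [] (some (2, 4))),
  (.edge 1 233 267 1125 267 64, .walk ⟨0, 268, 0⟩ [.merge 1310] [.ext 1 1307 [] []] none),
  (.pair 267 247 1139, .walk ⟨233, 267, 0⟩ [.ext 1 1311 [] []] [.ext 1 1309 [0, 1, 1, 2] [], .merge 1310] none),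
  (.merge 267 266 1015 1138, .walk ⟨1125, 267, 0⟩ [.ext 0 1306 [] [], .merge 1310] [.ext 0 1305 [3, 1] [1312]] none),
  (.edge 0 1015 266 970 266 69, .walk ⟨0, 267, 0⟩ [.merge 1313] [.ext 0 1305 [] []] none),
  (.edge 1 1015 266 32 148 732, .walk ⟨0, 267, 0⟩ [.merge 1313] [.ext 1 1304 [] []] none),
  (.merge 266 258 33 47, .walk ⟨1015, 266, 0⟩ [.ext 0 1314 [] []] [.ext 0 1301 [0, 1, 2] []] none),
  (.edge 1 795 258 32 148 587, .walk ⟨1015, 266, 0⟩ [.merge 1316] [.ext 1 1315 [] []] none),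
  (.merge 264 148 121 59, .walk ⟨795, 258, 0⟩ [.ext 1 1290 [0, 0, 3, 0] [1257]] [.ext 1 1317 [] []] none),
  (.edge 0 121 148 796 148 47, .walk ⟨0, 264, 0⟩ [.merge 1318] [.ext 0 1288 [] []] none),
  (.edge 0 96 148 932 265 59, .walk ⟨932, 265, 59⟩ [.ext 0 1292 [2, 3] [], .ext 0 1319 [0, 1, 1] []] [] (some (0, 2))),
  (.edge 1 932 265 96 148 47, .walk ⟨96, 148, 0⟩ [.ext 0 1320 [] []] [] (some (3, 0))),
  (.pair 265 806 806, .walk ⟨479, 265, 122⟩ [.ext 1 1321 [1, 3, 0] [], .code 416, .ext 0 1303 [0, 1, 3, 2] [], .merge 1313, .merge 1316, .code 1054, .ext 1 1225 [0, 0, 0, 1, 1] [1257], .code 224, .ext 0 1252 [1, 1] [533], .merge 1261, .code 5, .code 1054, .code 5, .ext 1 1217 [2, 0, 3] [1213, 1214], .merge 1258, .code 416, .ext 0 1224 [0, 0, 0, 1, 1] [], .code 827, .ext 1 1290 [2, 1] [], .merge 1318, .code 224, .ext 0 1320 [1, 3, 0] [], .code 5, .code 827, .code 5] [] (some (5,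 9)))]

/-- The certificate, apart from the group of codes. -/
def data (N : ℕ) (mul : ℕ → ℕ → ℕ) (word : ℕ → List ℕ) : Data where
  N := N
  mul := mul
  gens := gens
  word := word
  K := 1
  dgens := dgens
  rels := rels
  defs := defs
  facts := facts0 ++ facts1 ++ facts2 ++ facts3 ++ facts4 ++ facts5 ++ facts6 ++ facts7 ++ facts8 ++ facts9 ++ facts10 ++ facts11 ++ facts12 ++ facts13
  live := []
  reps := []
  close := [[]]
  n := 1

end CfsgLib.UFourType.Cert.Central
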