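import Cfsg.Agent.Lib.CodeCert.Check

/-!
Generated data of a certificate.
-/

set_option autoImplicit false
set_option maxRecDepth 100000

namespace CfsgLib.UFourType.Cert.Collapse

open CfsgLib.CodeCert

/-- Generating codes. -/
def gens : List ℕ := [545, 204]

/-- The generators of the normalised subgroup with their images. -/
def dgens : List (List (ℕ × ℕ)) := [[(12, 478), (464, 15), (4, 966), (928, 937)]]

/-- The relations. -/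
def rels : List (List Tok) := [
  [.s 0, .s 0, .s 0],
  [.c 1125, .s 0, .c 1125, .s 0, .c 1125, .s 0, .c 1125, .s 0, .c 1125, .s 0],
  [.c 247, .s 0, .c 247, .s 0, .c 247, .s 0, .c 247, .s 0],
  [.s 1, .s 0],
  [.s 0, .s 1],
  [.c 1054, .c 5, .s 0, .c 224, .s 1, .c 1054, .s 0, .c 416, .s 1, .c 5, .c 827, .c 5, .s 0, .c 224, .s 1, .c 827,
   .s 0, .c 416, .s 1, .c 5],
  [.s 1, .c 780, .s 1, .c 1054, .s 0, .c 416, .s 1, .c 815, .s 0, .c 224, .s 1, .c 824, .s 0, .c 1125, .s 0, .c 32,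
   .s 0, .c 220]]

/-- The words of the nodes. -/
def defs : List (ℕ × ℕ × ℕ) := [
  (0, 0, 0), (0, 0, 1), (0, 1125, 1), (0, 1125, 3), (0, 704, 2), (1, 827, 5), (0, 33, 1), (0, 1125, 7), (0, 1139, 5),
  (0, 1125, 9), (1, 698, 1), (0, 224, 11), (1, 815, 12), (0, 16, 1), (0, 0, 14), (0, 704, 15), (1, 827, 16),
  (0, 224, 17), (1, 815, 18), (0, 862, 7), (0, 1125, 20), (1, 824, 21), (0, 224, 22), (1, 815, 23), (0, 416, 24),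
  (0, 694, 2), (0, 1125, 26), (1, 824, 27), (0, 224, 28), (1, 815, 29), (0, 416, 30), (0, 694, 14), (0, 1125, 32),
  (1, 824, 33), (0, 224, 34), (1, 815, 35), (0, 416, 36), (0, 14, 10), (1, 827, 38), (0, 224, 39)]

/-- Part 0 of the identities. -/
def facts0 : List (Concl × Why) := [
  (.pair 0 545 545, .def'),
  (.pair 0 204 204, .def'),
  (.edge 0 0 0 0 1 0, .def'),
  (.edge 1 0 1 0 0 0, .walk ⟨0, 0, 0⟩ [.ext 0 2 [] []] [] (some (3, 0))),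
  (.pair 1 468 933, .walk ⟨408, 0, 0⟩ [.ext 0 2 [] [0, 1, 1]] [.ext 0 2 [0, 0, 2, 3] [1, 0]] none),
  (.pair 1 477 13, .walk ⟨192, 0, 0⟩ [.ext 0 2 [] [1, 0, 0]] [.ext 0 2 [0, 0, 0] [1]] none),
  (.pair 1 928 9, .walk ⟨577, 0, 0⟩ [.ext 0 2 [] [0, 1, 0, 0]] [.ext 0 2 [0, 2] [0, 0, 0, 1]] none),
  (.pair 1 968 471, .walk ⟨1146, 0, 0⟩ [.ext 0 2 [] [0, 1, 0, 1]] [.ext 0 2 [1, 2] [0]] none),
  (.edge 0 0 1 0 2 0, .def'),
  (.pair 2 970 933, .walk ⟨468, 1, 0⟩ [.ext 0 8 [] [4]] [.ext 0 8 [2, 1] []] none),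
  (.pair 2 467 13, .walk ⟨477, 1, 0⟩ [.ext 0 8 [] [5]] [.ext 0 8 [0, 0, 0, 1] []] none),
  (.pair 2 937 9, .walk ⟨928, 1, 0⟩ [.ext 0 8 [] [6]] [.ext 0 8 [3] []] none),
  (.pair 2 932 471, .walk ⟨968, 1, 0⟩ [.ext 0 8 [] [7]] [.ext 0 8 [0, 1, 3, 0] []] none),
  (.edge 0 0 2 0 0 0, .walk ⟨0, 0, 0⟩ [.ext 0 2 [] [], .ext 0 8 [] []] [] (some (0, 0))),
  (.edge 0 1125 1 0 3 0, .def'),
  (.edge 1 0 3 1125 1 0, .walk ⟨1125, 1, 0⟩ [.ext 0 14 [] []] [] (some (3, 0))),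
  (.pair 3 7 964, .walk ⟨66, 1, 0⟩ [.ext 0 14 [] [4, 7]] [.ext 0 14 [0, 1, 3, 2] [5]] none),
  (.edge 0 1125 3 0 4 0, .def'),
  (.edge 0 252 4 715 2 754, .walk ⟨715, 2, 755⟩ [.code 1125, .ext 0 13 [0] [], .code 1125, .ext 0 2 [0, 0] [1, 0, 1], .code 1125, .ext 0 14 [2] [], .code 1125, .ext 0 17 [3, 0, 1] [], .code 1125] [] (some (1, 3))),
  (.edge 1 715 2 252 4 755, .walk ⟨252, 4, 0⟩ [.ext 0 18 [] []] [] (some (3, 0))),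
  (.merge 4 3 954 1005, .walk ⟨1120, 4, 544⟩ [] [.ext 0 18 [0, 3, 1] [], .code 247, .ext 0 13 [1, 1, 2] [], .code 247, .ext 0 2 [0, 2, 1] [0, 0, 0], .code 247, .ext 0 14 [0, 1, 1] [4], .code 247] (some (2, 4))),
  (.edge 0 767 3 715 2 431, .walk ⟨252, 4, 0⟩ [.merge 20] [.ext 0 18 [] []] none),
  (.edge 0 704 2 0 5 0, .def'),
  (.edge 1 0 5 704 2 0, .walk ⟨704, 2, 0⟩ [.ext 0 22 [] []] [] (some (3, 0))),
  (.pair 5 2 965, .walk ⟨1010, 2, 0⟩ [.ext 0 22 [] [9, 10]] [.ext 0 22 [0, 0, 1, 1] [12]] none),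
  (.edge 1 827 5 0 6 0, .def'),
  (.pair 6 937 965, .walk ⟨818, 5, 0⟩ [.ext 1 25 [] [24]] [.ext 1 25 [0, 2, 3] []] none),
  (.edge 0 33 1 0 7 0, .def'),
  (.edge 1 0 7 33 1 0, .walk ⟨33, 1, 0⟩ [.ext 0 27 [] []] [] (some (3, 0))),
  (.pair 7 3 2, .walk ⟨32, 1, 0⟩ [.ext 0 27 [] [4, 4]] [.ext 0 27 [0, 0] []] none),
  (.pair 7 929 938, .walk ⟨42, 1, 0⟩ [.ext 0 27 [] [4, 5]] [.ext 0 27 [0, 1, 1, 2] []] none),
  (.edge 0 1125 7 0 8 0, .def'),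
  (.pair 8 966 2, .walk ⟨1121, 7, 0⟩ [.ext 0 31 [] [29]] [.ext 0 31 [2] []] none),
  (.edge 0 1139 5 0 9 0, .def'),
  (.edge 0 1125 9 0 10 0, .def'),
  (.edge 0 1125 10 720 1 12, .walk ⟨720, 1, 0⟩ [.code 1125, .ext 0 8 [] [], .code 1125, .ext 0 22 [0, 0, 1] [10], .code 1125, .ext 0 33 [] [], .code 1125, .ext 0 34 [] [], .code 1125] [] (some (1, 1))),
  (.edge 1 720 1 1125 10 13, .walk ⟨1125, 10, 0⟩ [.ext 0 35 [] []] [] (some (3, 0))),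
  (.edge 0 93 5 25 10 939, .walk ⟨25, 10, 475⟩ [.code 247, .ext 0 35 [0, 1, 3, 2] [], .code 247, .ext 0 8 [1, 3] [], .code 247, .ext 0 22 [0, 0, 3, 2] [9], .code 247] [] (some (2, 3))),
  (.edge 1 698 1 0 11 0, .def'),
  (.edge 0 0 11 698 1 0, .walk ⟨698, 1, 0⟩ [.ext 1 38 [] []] [] (some (4, 0))),
  (.pair 11 936 939, .walk ⟨55, 1, 0⟩ [.ext 1 38 [] [5]] [.ext 1 38 [2, 0, 3] [4]] none),
  (.pair 11 928 9, .walk ⟨826, 1, 0⟩ [.ext 1 38 [] [6]] [.ext 1 38 [3] []] none),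
  (.pair 11 2 2, .walk ⟨699, 1, 0⟩ [.ext 1 38 [] [4, 4]] [.ext 1 38 [1, 1] []] none),
  (.pair 11 3 938, .walk ⟨696, 1, 0⟩ [.ext 1 38 [] [4, 5]] [.ext 1 38 [0, 0, 1, 1] []] none),
  (.edge 0 224 11 0 12 0, .def'),
  (.edge 1 0 12 224 11 0, .walk ⟨224, 11, 0⟩ [.ext 0 44 [] []] [] (some (3, 0))),
  (.pair 12 966 2, .walk ⟨228, 11, 0⟩ [.ext 0 44 [] [42]] [.ext 0 44 [2] []] none),
  (.pair 12 965 938, .walk ⟨229, 11, 0⟩ [.ext 0 44 [] [43]] [.ext 0 44 [0, 0, 2] []] none),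
  (.edge 1 815 12 0 13 0, .def'),
  (.edge 0 0 13 815 12 0, .walk ⟨815, 12, 0⟩ [.ext 1 48 [] []] [] (some (4, 0))),
  (.pair 13 937 936, .walk ⟨34, 12, 0⟩ [.ext 1 48 [] [47]] [.ext 1 48 [0, 2, 3] [46]] none),
  (.pair 13 1129 715, .walk ⟨968, 13, 0⟩ [.ext 0 49 [0, 1, 3, 0] [], .code 1054, .ext 1 45 [2, 0, 1] [], .code 224, .ext 0 39 [0, 2, 1] [], .code 5, .code 1054, .code 5, .ext 1 3 [1, 2, 0, 3] [], .code 416, .ext 0 2 [0, 1, 1, 2] [1, 0, 1, 0], .code 827, .ext 1 38 [] [], .code 224, .ext 0 44 [] [], .code 5, .code 827, .code 5, .ext 1 48 [] [], .code 416] [] (some (5, 7))),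
  (.edge 0 16 1 0 14 0, .def'),
  (.edge 1 0 14 16 1 0, .walk ⟨16, 1, 0⟩ [.ext 0 52 [] []] [] (some (3, 0))),
  (.pair 14 940 933, .walk ⟨452, 1, 0⟩ [.ext 0 52 [] [4]] [.ext 0 52 [1, 2, 0] []] none),
  (.pair 14 13 13, .walk ⟨461, 1, 0⟩ [.ext 0 52 [] [5]] [.ext 0 52 [2, 1, 2] []] none),
  (.pair 14 9 9, .walk ⟨944, 1, 0⟩ [.ext 0 52 [] [6]] [.ext 0 52 [0, 2, 3] []] none),
  (.pair 14 473 471, .walk ⟨984, 1, 0⟩ [.ext 0 52 [] [7]] [.ext 0 52 [1, 2, 3] []] none),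
  (.edge 0 0 14 0 15 0, .def'),
  (.pair 15 975 933, .walk ⟨940, 14, 0⟩ [.ext 0 58 [] [54]] [.ext 0 58 [0, 3] []] none),
  (.pair 15 477 13, .walk ⟨13, 14, 0⟩ [.ext 0 58 [] [55]] [.ext 0 58 [0, 0, 0] []] none),
  (.pair 15 928 9, .walk ⟨9, 14, 0⟩ [.ext 0 58 [] [56]] [.ext 0 58 [0, 2] []] none),
  (.pair 15 941 471, .walk ⟨473, 14, 0⟩ [.ext 0 58 [] [57]] [.ext 0 58 [0, 2, 1] []] none),
  (.edge 0 0 15 16 1 0, .walk ⟨16, 1, 0⟩ [.ext 0 52 [] [], .ext 0 58 [] []] [] (some (0, 0))),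
  (.edge 1 16 1 0 15 0, .walk ⟨0, 15, 0⟩ [.ext 0 63 [] []] [] (some (3, 0))),
  (.edge 0 704 15 0 16 0, .def'),
  (.pair 16 963 4, .walk ⟨1011, 15, 0⟩ [.ext 0 65 [] [61]] [.ext 0 65 [3, 0, 1] [60]] none),
  (.pair 16 967 2, .walk ⟨710, 15, 0⟩ [.ext 0 65 [] [59, 59]] [.ext 0 65 [1, 1, 2] []] none),
  (.pair 16 2 965, .walk ⟨1002, 15, 0⟩ [.ext 0 65 [] [59, 60]] [.ext 0 65 [0, 0, 1, 1] [62]] none),
  (.pair 16 966 964, .walk ⟨557, 15, 0⟩ [.ext 0 65 [] [59, 62]] [.ext 0 65 [2] [60]] none),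
  (.edge 1 827 16 0 17 0, .def'),
  (.pair 17 937 965, .walk ⟨818, 16, 0⟩ [.ext 1 70 [] [68]] [.ext 1 70 [0, 2, 3] []] none),
  (.pair 17 2 966, .walk ⟨63, 16, 0⟩ [.ext 1 70 [] [69]] [.ext 1 70 [1, 1] [67]] none),
  (.edge 0 224 17 0 18 0, .def'),
  (.pair 18 966 966, .walk ⟨228, 17, 0⟩ [.ext 0 73 [] [72]] [.ext 0 73 [2] []] none),
  (.edge 1 815 18 0 19 0, .def'),
  (.edge 0 416 19 849 12 466, .walk ⟨849, 12, 466⟩ [.code 1054, .ext 1 45 [2, 3] [], .code 224, .ext 0 39 [0, 0, 3] [], .code 5, .code 1054, .code 5, .ext 1 64 [2, 3, 0] [], .code 416, .ext 0 65 [1, 3, 0] [62], .code 827, .ext 1 70 [0, 3, 2] [66], .code 224, .ext 0 73 [2] [71], .code 5, .code 827, .code 5, .ext 1 75 [] [74], .code 416] [] (some (5, 6))),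
  (.edge 0 862 7 0 20 0, .def'),
  (.edge 1 0 20 862 7 0, .walk ⟨862, 7, 0⟩ [.ext 0 77 [] []] [] (some (3, 0))),
  (.edge 0 1125 20 0 21 0, .def'),
  (.edge 1 0 21 1125 20 0, .walk ⟨1125, 20, 0⟩ [.ext 0 79 [] []] [] (some (3, 0))),
  (.edge 1 824 21 0 22 0, .def'),
  (.edge 0 0 22 824 21 0, .walk ⟨824, 21, 0⟩ [.ext 1 81 [] []] [] (some (4, 0))),
  (.edge 0 224 22 0 23 0, .def'),
  (.edge 1 0 23 224 22 0, .walk ⟨224, 22, 0⟩ [.ext 0 83 [] []] [] (some (3, 0))),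
  (.edge 1 815 23 0 24 0, .def'),
  (.edge 0 0 24 815 23 0, .walk ⟨815, 23, 0⟩ [.ext 1 85 [] []] [] (some (4, 0))),
  (.edge 0 416 24 0 25 0, .def'),
  (.edge 1 0 25 416 24 0, .walk ⟨416, 24, 0⟩ [.ext 0 87 [] []] [] (some (3, 0))),
  (.edge 1 1054 25 781 14 0, .walk ⟨781, 14, 0⟩ [.code 780, .ext 1 53 [] [], .code 220, .ext 0 27 [1, 2, 0] [], .code 32, .ext 0 77 [] [], .code 1125, .ext 0 79 [] [], .code 824, .ext 1 81 [] [], .code 224, .ext 0 83 [] [], .code 815, .ext 1 85 [] [], .code 416, .ext 0 87 [] [], .code 1054] [] (some (6, 2))),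
  (.edge 0 781 14 1054 25 0, .walk ⟨1054, 25, 0⟩ [.ext 1 89 [] []] [] (some (4, 0))),
  (.edge 0 931 7 970 11 470, .walk ⟨970, 11, 471⟩ [.ext 0 39 [3, 1] [], .ext 0 27 [2, 0] [7]] [] (some (0, 1))),
  (.edge 1 970 11 931 7 471, .walk ⟨931, 7, 0⟩ [.ext 0 91 [] []] [] (some (3, 0))),
  (.edge 0 694 2 0 26 0, .def'),
  (.pair 26 939 939, .walk ⟨33, 2, 0⟩ [.ext 0 93 [] [10]] [.ext 0 93 [0, 3, 0] [9]] none),
  (.pair 26 937 9, .walk ⟨829, 2, 0⟩ [.ext 0 93 [] [11]] [.ext 0 93 [3] []] none),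
  (.pair 26 928 2, .walk ⟨702, 2, 0⟩ [.ext 0 93 [] [9, 9]] [.ext 0 93 [0, 2] []] none),
  (.pair 26 8 938, .walk ⟨823, 2, 0⟩ [.ext 0 93 [] [9, 10]] [.ext 0 93 [0, 3, 2] []] none),
  (.edge 0 1125 26 0 27 0, .def'),
  (.pair 27 965 930, .walk ⟨84, 26, 0⟩ [.ext 0 98 [] [95]] [.ext 0 98 [0, 0, 2] [94]] none)]

/-- Part 1 of the identities. -/
def facts1 : List (Concl × Why) := [
  (.pair 27 966 3, .walk ⟨1137, 26, 0⟩ [.ext 0 98 [] [94, 96]] [.ext 0 98 [2] [97]] none),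
  (.edge 1 824 27 0 28 0, .def'),
  (.pair 28 939 929, .walk ⟨60, 27, 0⟩ [.ext 1 101 [] [100]] [.ext 1 101 [0, 3, 2] [99]] none),
  (.edge 0 224 28 0 29 0, .def'),
  (.edge 1 815 29 0 30 0, .def'),
  (.edge 0 0 30 815 29 0, .walk ⟨815, 29, 0⟩ [.ext 1 104 [] []] [] (some (4, 0))),
  (.edge 0 416 30 0 31 0, .def'),
  (.edge 1 0 31 416 30 0, .walk ⟨416, 30, 0⟩ [.ext 0 106 [] []] [] (some (3, 0))),
  (.edge 1 1054 31 788 7 0, .walk ⟨788, 7, 0⟩ [.code 780, .ext 1 28 [0, 0] [], .code 220, .ext 0 8 [0, 1] [], .code 32, .ext 0 93 [] [], .code 1125, .ext 0 98 [] [], .code 824, .ext 1 101 [] [], .code 224, .ext 0 103 [] [], .code 815, .ext 1 104 [] [], .code 416, .ext 0 106 [] [], .code 1054] [] (some (6, 2))),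
  (.edge 0 788 7 1054 31 0, .walk ⟨1054, 31, 0⟩ [.ext 1 108 [] []] [] (some (4, 0))),
  (.edge 0 694 14 0 32 0, .def'),
  (.edge 0 1125 32 0 33 0, .def'),
  (.edge 1 824 33 0 34 0, .def'),
  (.edge 0 224 34 0 35 0, .def'),
  (.edge 1 815 35 0 36 0, .def'),
  (.edge 0 416 36 0 37 0, .def'),
  (.edge 1 1054 37 540 7 0, .walk ⟨540, 7, 0⟩ [.code 780, .ext 1 28 [0, 0, 2] [], .code 220, .ext 0 52 [0, 1] [], .code 32, .ext 0 110 [] [], .code 1125, .ext 0 111 [] [], .code 824, .ext 1 112 [] [], .code 224, .ext 0 113 [] [], .code 815, .ext 1 114 [] [], .code 416, .ext 0 115 [] [], .code 1054] [] (some (6, 2))),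
  (.edge 0 540 7 1054 37 0, .walk ⟨1054, 37, 0⟩ [.ext 1 116 [] []] [] (some (4, 0))),
  (.edge 0 6 3 1134 10 0, .walk ⟨1134, 10, 13⟩ [.ext 0 35 [1, 1, 2, 0] [], .ext 0 14 [0, 1, 2, 3] [5]] [] (some (0, 1))),
  (.edge 0 234 3 434 15 1008, .walk ⟨434, 15, 0⟩ [.code 247, .ext 0 63 [0, 0, 0] [], .code 247, .ext 0 14 [0, 1, 2, 3] [5], .code 247, .ext 0 17 [3, 1] [], .merge 20, .code 247] [] (some (2, 3))),
  (.edge 0 14 10 0 38 0, .def'),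
  (.edge 1 827 38 0 39 0, .def'),
  (.edge 0 224 39 0 40 0, .def'),
  (.merge 5 3 937 454, .walk ⟨1141, 3, 710⟩ [.ext 0 119 [0, 1, 2, 3] [], .code 1125, .ext 0 63 [0, 3, 1] [], .code 1125, .ext 0 14 [1, 1, 2, 0] [7], .code 1125, .ext 0 21 [3, 1] [], .code 1125, .ext 0 22 [0, 1, 1, 2] [12], .code 1125] [] (some (1, 4))),
  (.edge 0 1132 3 25 10 977, .walk ⟨93, 5, 0⟩ [.merge 123] [.ext 0 37 [] []] none),
  (.edge 1 937 3 704 2 456, .walk ⟨0, 5, 0⟩ [.merge 123] [.ext 1 23 [] []] none),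
  (.edge 1 688 3 0 6 456, .walk ⟨827, 5, 0⟩ [.merge 123] [.ext 1 25 [] []] none),
  (.merge 10 3 9 550, .walk ⟨1132, 3, 0⟩ [.ext 0 124 [] []] [.ext 0 17 [2, 0] [], .merge 20] none),
  (.edge 0 1140 3 720 1 572, .walk ⟨1125, 10, 0⟩ [.merge 127] [.ext 0 35 [] []] none),
  (.edge 0 7 3 0 38 560, .walk ⟨14, 10, 0⟩ [.merge 127] [.ext 0 120 [] []] none),
  (.merge 2 1 959 454, .walk ⟨937, 3, 0⟩ [.ext 1 125 [] []] [.ext 1 15 [3] []] none),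
  (.edge 0 959 1 0 0 456, .walk ⟨0, 2, 0⟩ [.merge 130] [.ext 0 13 [] []] none),
  (.edge 0 818 1 0 26 456, .walk ⟨694, 2, 0⟩ [.merge 130] [.ext 0 93 [] []] none),
  (.edge 1 1005 1 767 3 80, .walk ⟨715, 2, 0⟩ [.merge 130] [.ext 1 19 [] [], .merge 20] none),
  (.merge 15 1 962 979, .walk ⟨1140, 3, 0⟩ [.ext 0 119 [1, 2, 0, 3] []] [.ext 0 128 [] []] none),
  (.edge 0 422 1 0 16 983, .walk ⟨704, 15, 0⟩ [.merge 134] [.ext 0 65 [] []] none),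
  (.merge 38 3 1148 22, .walk ⟨7, 3, 0⟩ [.ext 0 129 [] []] [.ext 0 118 [0, 0] [], .merge 127] none),
  (.edge 1 359 3 0 39 23, .walk ⟨827, 38, 0⟩ [.merge 136] [.ext 1 121 [] []] none),
  (.merge 14 0 471 456, .walk ⟨959, 1, 0⟩ [.ext 0 52 [3, 2] []] [.ext 0 131 [] []] none),
  (.edge 0 315 0 1054 25 454, .walk ⟨781, 14, 0⟩ [.merge 138] [.ext 0 90 [] []] none),
  (.edge 0 56 0 0 32 454, .walk ⟨694, 14, 0⟩ [.merge 138] [.ext 0 110 [] []] none),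
  (.merge 26 7 478 31, .walk ⟨818, 1, 0⟩ [.ext 0 132 [] []] [.ext 0 27 [0] [7]] none),
  (.edge 0 754 7 0 27 31, .walk ⟨1125, 26, 0⟩ [.merge 141] [.ext 0 98 [] []] none),
  (.pair 3 431 437, .walk ⟨1005, 1, 0⟩ [.ext 1 133 [] []] [.ext 1 36 [3, 0] [5], .merge 127] none),
  (.merge 16 3 9 452, .walk ⟨422, 1, 0⟩ [.ext 0 135 [] []] [.ext 0 14 [0, 2, 3] [4]] none),
  (.edge 1 816 3 0 17 459, .walk ⟨827, 16, 0⟩ [.merge 144] [.ext 1 70 [] []] none),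
  (.merge 25 1 38 273, .walk ⟨315, 0, 0⟩ [.ext 0 139 [] []] [.ext 0 2 [0, 1, 3] [1, 1, 0, 1]] none),
  (.edge 1 38 1 416 24 533, .walk ⟨0, 25, 0⟩ [.merge 146] [.ext 1 88 [] []] none),
  (.merge 32 1 942 883, .walk ⟨56, 0, 0⟩ [.ext 0 140 [] []] [.ext 0 2 [2, 0, 1] [1]] none),
  (.edge 0 86 1 0 33 891, .walk ⟨1125, 32, 0⟩ [.merge 148] [.ext 0 111 [] []] none),
  (.merge 27 8 6 959, .walk ⟨754, 7, 0⟩ [.ext 0 142 [] []] [.ext 0 31 [0, 1, 2, 3] [30]] none),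
  (.edge 1 801 8 0 28 948, .walk ⟨824, 27, 0⟩ [.merge 150] [.ext 1 101 [] []] none),
  (.merge 39 6 971 575, .walk ⟨359, 3, 0⟩ [.ext 1 137 [] []] [.ext 1 126 [1, 3] [143, 143]] none),
  (.edge 0 1132 6 0 40 571, .walk ⟨224, 39, 0⟩ [.merge 152] [.ext 0 122 [] []] none),
  (.merge 17 6 928 3, .walk ⟨816, 3, 0⟩ [.ext 1 145 [] []] [.ext 1 126 [3] []] none),
  (.edge 0 748 6 0 18 3, .walk ⟨224, 17, 0⟩ [.merge 154] [.ext 0 73 [] []] none),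
  (.merge 24 11 245 1096, .walk ⟨38, 1, 0⟩ [.ext 1 147 [] []] [.ext 1 38 [2, 0] [7]] none),
  (.edge 0 245 11 815 23 602, .walk ⟨0, 24, 0⟩ [.merge 156] [.ext 0 86 [] []] none),
  (.merge 33 3 4 347, .walk ⟨86, 1, 0⟩ [.ext 0 149 [] []] [.ext 0 14 [0, 2, 1, 3] [4]] none),
  (.edge 1 808 3 0 34 329, .walk ⟨824, 33, 0⟩ [.merge 158] [.ext 1 112 [] []] none),
  (.merge 40 18 6 995, .walk ⟨748, 6, 0⟩ [.ext 0 153 [0, 1, 2, 3] [26]] [.ext 0 155 [] []] none),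
  (.merge 23 12 1038 770, .walk ⟨245, 11, 0⟩ [.ext 0 157 [] []] [.ext 0 44 [] [40, 41]] none),
  (.edge 1 1038 12 224 22 771, .walk ⟨0, 23, 0⟩ [.merge 161] [.ext 1 84 [] []] none),
  (.merge 34 6 928 864, .walk ⟨808, 3, 0⟩ [.ext 1 159 [] []] [.ext 1 126 [3] [16]] none),
  (.edge 0 748 6 0 35 864, .walk ⟨224, 34, 0⟩ [.merge 163] [.ext 0 113 [] []] none),
  (.merge 22 13 418 768, .walk ⟨1038, 12, 0⟩ [.ext 1 162 [] []] [.ext 1 48 [2] [46]] none),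
  (.edge 0 418 13 824 21 795, .walk ⟨0, 22, 0⟩ [.merge 165] [.ext 0 82 [] []] none),
  (.merge 35 18 0 867, .walk ⟨748, 6, 0⟩ [.ext 0 164 [] []] [.ext 0 153 [0, 1, 2, 3] [26], .merge 160] none),
  (.edge 1 815 18 0 36 874, .walk ⟨815, 35, 0⟩ [.merge 167] [.ext 1 114 [] []] none),
  (.merge 21 12 935 60, .walk ⟨418, 13, 0⟩ [.ext 0 166 [] []] [.ext 0 49 [1, 2, 0] [51, 50]] none),
  (.edge 1 935 12 1125 20 54, .walk ⟨0, 21, 0⟩ [.merge 169] [.ext 1 80 [] []] none),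
  (.merge 36 19 0 867, .walk ⟨815, 18, 0⟩ [.ext 1 168 [] []] [.ext 1 75 [] []] none),
  (.edge 0 416 19 0 37 874, .walk ⟨416, 36, 0⟩ [.merge 171] [.ext 0 115 [] []] none),
  (.merge 20 11 9 60, .walk ⟨935, 12, 0⟩ [.ext 1 170 [] []] [.ext 1 45 [0, 3, 0, 1] []] none),
  (.edge 1 9 11 862 7 54, .walk ⟨0, 20, 0⟩ [.merge 173] [.ext 1 78 [] []] none),
  (.merge 37 12 849 701, .walk ⟨416, 19, 0⟩ [.ext 0 172 [] []] [.ext 0 76 [] []] none),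
  (.pair 7 809 697, .walk ⟨9, 11, 0⟩ [.ext 1 174 [] []] [.ext 1 92 [1, 3, 0] []] none),
  (.merge 31 8 45 1054, .walk ⟨788, 7, 0⟩ [.ext 0 109 [] []] [.ext 0 31 [0, 0, 2, 1] [176, 176]] none),
  (.edge 1 45 8 416 30 827, .walk ⟨0, 31, 0⟩ [.merge 177] [.ext 1 107 [] []] none),
  (.merge 12 8 965 4, .walk ⟨540, 7, 0⟩ [.ext 0 117 [] [], .merge 175] [.ext 0 31 [0, 3, 0] [176]] none),
  (.edge 1 34 8 0 13 4, .walk ⟨815, 12, 0⟩ [.merge 179] [.ext 1 48 [] []] none),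
  (.merge 30 28 764 216, .walk ⟨45, 8, 0⟩ [.ext 1 178 [] []] [.ext 1 151 [0, 3, 2] [32]] none),
  (.edge 0 764 28 815 29 693, .walk ⟨0, 30, 0⟩ [.merge 181] [.ext 0 105 [] []] none),
  (.merge 28 13 961 953, .walk ⟨34, 8, 0⟩ [.ext 1 151 [0, 1, 2, 3] [32]] [.ext 1 180 [] []] none),
  (.edge 0 1149 13 0 29 944, .walk ⟨224, 28, 0⟩ [.merge 183] [.ext 0 103 [] []] none),
  (.pair 29 1038 820, .walk ⟨764, 28, 0⟩ [.ext 0 182 [] []] [.ext 0 103 [] [102]] none),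
  (.pair 29 936 89, .walk ⟨734, 13, 0⟩ [.ext 0 184 [] [51]] [.ext 0 184 [1, 1, 3] [50]] none)]

/-- The certificate, apart from the group of codes. -/
def data (N : ℕ) (mul : ℕ → ℕ → ℕ) (word : ℕ → List ℕ) : Data where
  N := N
  mul := mul
  gens := gens
  word := word
  K := 1
  dgens := dgens
  rels := rels
  defs := defs
  facts := facts0 ++ facts1
  live := []
  reps := []
  close := [[]]
  n := 1

end CfsgLib.UFourType.Cert.Collapse
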