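import Cfsg.Agent.Lib.CodeCert.Check

/-!
Generated data of a certificate.
-/

set_option autoImplicit false
set_option maxRecDepth 100000

namespace CfsgLib.UFourType.Cert.Full

open CfsgLib.CodeCert

/-- Generating codes. -/
def gens : List ℕ := [545, 204]

/-- The generators of the normalised subgroup with their images. -/
def dgens : List (List (ℕ × ℕ)) := [[(12, 478), (464, 15), (4, 966), (928, 937)]]

/-- The relations. -/
def rels : List (List Tok) := [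
  [.s 0, .s 0, .s 0],
  [.c 1125, .s 0, .c 1125, .s 0, .c 1125, .s 0, .c 1125, .s 0, .c 1125, .s 0],
  [.c 247, .s 0, .c 247, .s 0, .c 247, .s 0, .c 247, .s 0],
  [.s 1, .s 0],
  [.s 0, .s 1],
  [.c 1054, .c 5, .s 0, .c 224, .s 1, .c 1054, .s 0, .c 416, .s 1, .c 5, .c 827, .c 5, .s 0, .c 224, .s 1, .c 827,
   .s 0, .c 416, .s 1, .c 5],
  [.s 1, .c 780, .s 1, .c 1054, .s 0, .c 416, .s 1, .c 815, .s 0, .c 224, .s 1, .c 824, .s 0, .c 1125, .s 0, .c 32,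
   .s 0, .c 221]]

/-- The words of the nodes. -/
def defs : List (ℕ × ℕ × ℕ) := [
  (0, 0, 0), (0, 0, 1), (0, 1125, 1), (0, 1125, 3), (0, 704, 2), (1, 827, 5), (0, 224, 6), (0, 40, 1), (0, 1125, 8),
  (1, 824, 9), (0, 224, 10), (1, 815, 11), (0, 416, 12), (0, 1139, 5), (0, 1125, 14), (1, 698, 1), (0, 224, 16),
  (1, 815, 17), (0, 822, 8), (0, 1125, 19), (1, 824, 20), (0, 224, 21), (1, 815, 22), (0, 416, 23), (0, 16, 1),
  (0, 0, 25), (0, 704, 26), (1, 827, 27), (0, 224, 28), (1, 815, 29), (0, 58, 8), (0, 1125, 31), (1, 824, 32),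
  (0, 224, 33), (1, 815, 34), (0, 416, 35), (0, 255, 9), (0, 1125, 37), (0, 702, 2), (0, 1125, 39), (1, 824, 40),
  (0, 224, 41), (1, 815, 42), (0, 416, 43), (0, 702, 25), (0, 1125, 45), (1, 824, 46), (0, 224, 47), (1, 815, 48),
  (0, 416, 49), (0, 14, 15), (1, 827, 51), (0, 224, 52), (1, 815, 53), (0, 416, 54), (0, 942, 13), (0, 1125, 56),
  (1, 824, 57), (0, 224, 58), (1, 815, 59), (0, 416, 60), (0, 450, 38), (1, 60, 57), (0, 224, 63), (1, 815, 64),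
  (0, 100, 13), (0, 1125, 66), (0, 30, 13), (0, 1125, 68), (1, 824, 69), (0, 224, 70), (1, 815, 71), (0, 416, 72),
  (1, 60, 69), (0, 224, 74), (0, 1066, 61), (1, 824, 76), (0, 224, 77), (0, 102, 61), (1, 824, 79), (0, 224, 80),
  (0, 1065, 13), (0, 764, 70), (1, 815, 83), (0, 764, 77), (0, 764, 80), (1, 58, 7), (0, 255, 79), (1, 801, 76),
  (0, 224, 89), (1, 815, 90), (0, 416, 91), (1, 809, 79), (0, 224, 93), (1, 677, 37), (0, 224, 95), (1, 815, 96),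
  (0, 416, 97), (1, 37, 66), (0, 224, 99), (0, 886, 61), (0, 1125, 101), (1, 824, 102), (0, 224, 103), (1, 60, 102),
  (0, 224, 105), (0, 30, 61), (0, 1125, 107), (1, 60, 108), (0, 224, 109), (0, 764, 95), (1, 815, 111), (0, 764, 99),
  (0, 764, 93), (0, 764, 105), (0, 764, 103), (1, 43, 114), (0, 416, 117), (1, 1054, 118), (1, 43, 94), (0, 194, 6),
  (0, 32, 121), (0, 1125, 122), (1, 824, 123), (0, 224, 124), (1, 53, 123), (0, 224, 126), (1, 815, 127), (0, 16, 6),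
  (0, 1125, 129), (0, 1125, 130), (1, 37, 108), (0, 224, 132), (1, 815, 133), (0, 416, 134), (0, 764, 132),
  (0, 804, 121), (0, 1125, 137), (1, 824, 138), (0, 224, 139), (1, 815, 140), (0, 416, 141), (0, 65, 129),
  (0, 1125, 143), (1, 800, 108), (0, 224, 145), (1, 815, 146), (0, 764, 145), (0, 151, 92), (0, 1125, 149),
  (1, 37, 102), (0, 702, 129), (0, 1125, 152), (1, 824, 153), (0, 631, 64), (0, 990, 11), (0, 1125, 156),
  (1, 824, 157), (1, 867, 81), (0, 1054, 11), (0, 1125, 160), (1, 824, 161), (0, 224, 162), (1, 815, 163),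
  (0, 416, 164), (0, 69, 160), (1, 824, 166), (0, 224, 167), (1, 815, 168), (0, 416, 169), (0, 913, 11),
  (0, 327, 11), (0, 1125, 172), (1, 824, 173), (0, 224, 174), (1, 815, 175), (0, 416, 176), (0, 69, 172),
  (1, 824, 178), (0, 224, 179), (1, 815, 180), (0, 166, 11), (0, 847, 9), (0, 1125, 183), (1, 824, 184),
  (0, 224, 185), (1, 815, 186), (0, 416, 187), (0, 81, 183), (1, 60, 184), (0, 224, 190), (1, 815, 191),
  (0, 416, 192), (0, 862, 9)]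

/-- Part 0 of the identities. -/
def facts0 : List (Concl × Why) := [
  (.pair 0 545 545, .def'),
  (.pair 0 204 204, .def'),
  (.edge 0 0 0 0 1 0, .def'),
  (.edge 1 0 1 0 0 0, .walk ⟨0, 0, 0⟩ [.ext 0 2 [] []] [] (some (3, 0))),
  (.pair 1 468 933, .walk ⟨408, 0, 0⟩ [.ext 0 2 [] [0, 1, 1]] [.ext 0 2 [0, 0, 2, 3] [1, 0]] none),
  (.pair 1 477 13, .walk ⟨192, 0, 0⟩ [.ext 0 2 [] [1, 0, 0]] [.ext 0 2 [0, 0, 0] [1]] none),
  (.pair 1 928 9, .walk ⟨577, 0, 0⟩ [.ext 0 2 [] [0, 1, 0, 0]] [.ext 0 2 [0, 2] [0, 0, 0, 1]] none),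
  (.pair 1 968 471, .walk ⟨1146, 0, 0⟩ [.ext 0 2 [] [0, 1, 0, 1]] [.ext 0 2 [1, 2] [0]] none),
  (.edge 0 0 1 0 2 0, .def'),
  (.edge 1 0 2 0 1 0, .walk ⟨0, 1, 0⟩ [.ext 0 8 [] []] [] (some (3, 0))),
  (.pair 2 970 933, .walk ⟨468, 1, 0⟩ [.ext 0 8 [] [4]] [.ext 0 8 [2, 1] []] none),
  (.pair 2 467 13, .walk ⟨477, 1, 0⟩ [.ext 0 8 [] [5]] [.ext 0 8 [0, 0, 0, 1] []] none),
  (.pair 2 937 9, .walk ⟨928, 1, 0⟩ [.ext 0 8 [] [6]] [.ext 0 8 [3] []] none),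
  (.pair 2 932 471, .walk ⟨968, 1, 0⟩ [.ext 0 8 [] [7]] [.ext 0 8 [0, 1, 3, 0] []] none),
  (.edge 0 0 2 0 0 0, .walk ⟨0, 0, 0⟩ [.ext 0 2 [] [], .ext 0 8 [] []] [] (some (0, 0))),
  (.edge 1 0 0 0 2 0, .walk ⟨0, 2, 0⟩ [.ext 0 14 [] []] [] (some (3, 0))),
  (.edge 0 1125 1 0 3 0, .def'),
  (.edge 1 0 3 1125 1 0, .walk ⟨1125, 1, 0⟩ [.ext 0 16 [] []] [] (some (3, 0))),
  (.pair 3 963 4, .walk ⟨69, 1, 0⟩ [.ext 0 16 [] [6]] [.ext 0 16 [3, 0, 1] [5]] none),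
  (.pair 3 3 2, .walk ⟨1124, 1, 0⟩ [.ext 0 16 [] [4, 4]] [.ext 0 16 [0, 0] []] none),
  (.pair 3 961 965, .walk ⟨1137, 1, 0⟩ [.ext 0 16 [] [4, 5]] [.ext 0 16 [0, 1, 3] [7]] none),
  (.pair 3 7 964, .walk ⟨66, 1, 0⟩ [.ext 0 16 [] [4, 7]] [.ext 0 16 [0, 1, 3, 2] [5]] none),
  (.edge 0 1125 3 0 4 0, .def'),
  (.edge 1 0 4 1125 3 0, .walk ⟨1125, 3, 0⟩ [.ext 0 22 [] []] [] (some (3, 0))),
  (.edge 0 252 4 715 2 754, .walk ⟨715, 2, 755⟩ [.code 1125, .ext 0 14 [0] [], .code 1125, .ext 0 2 [0, 0] [1, 0, 1], .code 1125, .ext 0 16 [2] [], .code 1125, .ext 0 22 [3, 0, 1] [], .code 1125] [] (some (1, 3))),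
  (.edge 1 715 2 252 4 755, .walk ⟨252, 4, 0⟩ [.ext 0 24 [] []] [] (some (3, 0))),
  (.merge 4 3 954 1005, .walk ⟨1120, 4, 544⟩ [] [.ext 0 24 [0, 3, 1] [], .code 247, .ext 0 14 [1, 1, 2] [], .code 247, .ext 0 2 [0, 2, 1] [0, 0, 0], .code 247, .ext 0 16 [0, 1, 1] [4], .code 247] (some (2, 4))),
  (.edge 0 767 3 715 2 431, .walk ⟨252, 4, 0⟩ [.merge 26] [.ext 0 24 [] []] none),
  (.edge 1 954 3 1125 3 1021, .walk ⟨0, 4, 0⟩ [.merge 26] [.ext 1 23 [] []] none),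
  (.edge 0 704 2 0 5 0, .def'),
  (.edge 1 0 5 704 2 0, .walk ⟨704, 2, 0⟩ [.ext 0 29 [] []] [] (some (3, 0))),
  (.pair 5 962 4, .walk ⟨1003, 2, 0⟩ [.ext 0 29 [] [12]] [.ext 0 29 [0, 3, 1] [11]] none),
  (.pair 5 964 2, .walk ⟨711, 2, 0⟩ [.ext 0 29 [] [10, 10]] [.ext 0 29 [0, 0, 1, 1, 2] []] none),
  (.pair 5 2 965, .walk ⟨1010, 2, 0⟩ [.ext 0 29 [] [10, 11]] [.ext 0 29 [0, 0, 1, 1] [13]] none),
  (.pair 5 965 964, .walk ⟨561, 2, 0⟩ [.ext 0 29 [] [10, 13]] [.ext 0 29 [0, 0, 2] [11]] none),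
  (.edge 1 827 5 0 6 0, .def'),
  (.edge 0 0 6 827 5 0, .walk ⟨827, 5, 0⟩ [.ext 1 35 [] []] [] (some (4, 0))),
  (.pair 6 937 965, .walk ⟨818, 5, 0⟩ [.ext 1 35 [] [33]] [.ext 1 35 [0, 2, 3] []] none),
  (.pair 6 2 966, .walk ⟨54, 5, 0⟩ [.ext 1 35 [] [34]] [.ext 1 35 [1, 1] [32]] none),
  (.edge 0 224 6 0 7 0, .def'),
  (.edge 1 0 7 224 6 0, .walk ⟨224, 6, 0⟩ [.ext 0 39 [] []] [] (some (3, 0))),
  (.pair 7 966 966, .walk ⟨228, 6, 0⟩ [.ext 0 39 [] [38]] [.ext 0 39 [2] []] none),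
  (.pair 7 43 63, .walk ⟨0, 7, 827⟩ [.ext 1 40 [] [], .code 416, .ext 0 36 [] [], .code 1054, .ext 1 30 [] [], .code 224, .ext 0 14 [1, 2, 0, 3] [], .code 5, .code 1054, .code 5, .ext 1 15 [0, 3, 0, 1] [1], .code 416, .ext 0 29 [0, 1, 3] [10], .code 827, .ext 1 35 [0, 3, 2] [31], .code 224, .ext 0 39 [2] [37], .code 5, .code 827, .code 5] [] (some (5, 9))),
  (.edge 0 40 1 0 8 0, .def'),
  (.edge 1 0 8 40 1 0, .walk ⟨40, 1, 0⟩ [.ext 0 43 [] []] [] (some (3, 0))),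
  (.pair 8 1 939, .walk ⟨684, 1, 0⟩ [.ext 0 43 [] [5]] [.ext 0 43 [1, 1] [4]] none),
  (.pair 8 8 9, .walk ⟨836, 1, 0⟩ [.ext 0 43 [] [6]] [.ext 0 43 [0, 3, 2] []] none),
  (.pair 8 3 2, .walk ⟨41, 1, 0⟩ [.ext 0 43 [] [4, 4]] [.ext 0 43 [0, 0] []] none),
  (.pair 8 929 938, .walk ⟨35, 1, 0⟩ [.ext 0 43 [] [4, 5]] [.ext 0 43 [0, 1, 1, 2] []] none),
  (.edge 0 1125 8 0 9 0, .def'),
  (.edge 1 0 9 1125 8 0, .walk ⟨1125, 8, 0⟩ [.ext 0 49 [] []] [] (some (3, 0))),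
  (.pair 9 3 939, .walk ⟨1124, 8, 0⟩ [.ext 0 49 [] [45]] [.ext 0 49 [0, 0] []] none),
  (.pair 9 966 2, .walk ⟨1121, 8, 0⟩ [.ext 0 49 [] [47]] [.ext 0 49 [2] []] none),
  (.edge 1 824 9 0 10 0, .def'),
  (.edge 0 0 10 824 9 0, .walk ⟨824, 9, 0⟩ [.ext 1 53 [] []] [] (some (4, 0))),
  (.pair 10 939 939, .walk ⟨816, 9, 0⟩ [.ext 1 53 [] [51]] [.ext 1 53 [0, 3, 2] []] none),
  (.edge 0 224 10 0 11 0, .def'),
  (.edge 1 0 11 224 10 0, .walk ⟨224, 10, 0⟩ [.ext 0 56 [] []] [] (some (3, 0))),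
  (.edge 1 815 11 0 12 0, .def'),
  (.edge 0 0 12 815 11 0, .walk ⟨815, 11, 0⟩ [.ext 1 58 [] []] [] (some (4, 0))),
  (.edge 0 416 12 0 13 0, .def'),
  (.edge 1 0 13 416 12 0, .walk ⟨416, 12, 0⟩ [.ext 0 60 [] []] [] (some (3, 0))),
  (.edge 1 1054 13 781 1 677, .walk ⟨781, 1, 0⟩ [.code 780, .ext 1 3 [] [], .code 221, .ext 0 2 [0, 0, 1, 1] [0, 0, 1], .code 32, .ext 0 43 [] [], .code 1125, .ext 0 49 [] [], .code 824, .ext 1 53 [] [], .code 224, .ext 0 56 [] [], .code 815, .ext 1 58 [] [], .code 416, .ext 0 60 [] [], .code 1054] [] (some (6, 2))),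
  (.edge 0 781 1 1054 13 222, .walk ⟨1054, 13, 0⟩ [.ext 1 62 [] []] [] (some (4, 0))),
  (.pair 13 872 931, .walk ⟨293, 1, 0⟩ [.ext 0 63 [] [5]] [.ext 0 63 [0, 0, 1, 1, 2] [4]] none),
  (.pair 13 8 10, .walk ⟨780, 1, 0⟩ [.ext 0 63 [] [4, 4]] [.ext 0 63 [0, 0] []] none),
  (.pair 13 929 53, .walk ⟨514, 1, 0⟩ [.ext 0 63 [] [4, 6]] [.ext 0 63 [2, 0] [7]] none),
  (.pair 12 992 10, .walk ⟨8, 13, 0⟩ [.ext 1 61 [] [65]] [.ext 1 61 [0, 3, 2] []] none),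
  (.pair 12 16 53, .walk ⟨929, 13, 0⟩ [.ext 1 61 [] [66]] [.ext 1 61 [0, 1, 1, 2] []] none),
  (.edge 0 1139 5 0 14 0, .def'),
  (.pair 14 962 4, .walk ⟨235, 5, 0⟩ [.ext 0 69 [] [31]] [.ext 0 69 [0, 3, 1] []] none),
  (.pair 14 963 2, .walk ⟨233, 5, 0⟩ [.ext 0 69 [] [32]] [.ext 0 69 [3, 0, 1] []] none),
  (.pair 14 965 965, .walk ⟨1142, 5, 0⟩ [.ext 0 69 [] [33]] [.ext 0 69 [0, 0, 2] []] none),
  (.pair 14 960 964, .walk ⟨232, 5, 0⟩ [.ext 0 69 [] [34]] [.ext 0 69 [1, 3, 0] []] none),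
  (.edge 0 1125 14 0 15 0, .def'),
  (.pair 15 4 4, .walk ⟨253, 14, 0⟩ [.ext 0 74 [] [70]] [.ext 0 74 [0, 2, 1, 3] []] none),
  (.pair 15 7 2, .walk ⟨252, 14, 0⟩ [.ext 0 74 [] [71]] [.ext 0 74 [0, 1, 3, 2] []] none),
  (.pair 15 5 965, .walk ⟨255, 14, 0⟩ [.ext 0 74 [] [72]] [.ext 0 74 [1, 2, 0, 3] []] none),
  (.pair 15 961 964, .walk ⟨248, 14, 0⟩ [.ext 0 74 [] [73]] [.ext 0 74 [0, 1, 3] []] none),
  (.edge 0 1125 15 720 1 12, .walk ⟨720, 1, 0⟩ [.code 1125, .ext 0 8 [] [], .code 1125, .ext 0 29 [0, 0, 1] [11], .code 1125, .ext 0 69 [] [], .code 1125, .ext 0 74 [] [], .code 1125] [] (some (1, 1))),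
  (.edge 1 720 1 1125 15 13, .walk ⟨1125, 15, 0⟩ [.ext 0 79 [] []] [] (some (3, 0))),
  (.edge 0 93 5 25 15 939, .walk ⟨25, 15, 475⟩ [.code 247, .ext 0 79 [0, 1, 3, 2] [], .code 247, .ext 0 8 [1, 3] [], .code 247, .ext 0 29 [0, 0, 3, 2] [10], .code 247] [] (some (2, 3))),
  (.edge 1 698 1 0 16 0, .def'),
  (.edge 0 0 16 698 1 0, .walk ⟨698, 1, 0⟩ [.ext 1 82 [] []] [] (some (4, 0))),
  (.pair 16 936 939, .walk ⟨55, 1, 0⟩ [.ext 1 82 [] [5]] [.ext 1 82 [2, 0, 3] [4]] none),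
  (.pair 16 928 9, .walk ⟨826, 1, 0⟩ [.ext 1 82 [] [6]] [.ext 1 82 [3] []] none),
  (.pair 16 2 2, .walk ⟨699, 1, 0⟩ [.ext 1 82 [] [4, 4]] [.ext 1 82 [1, 1] []] none),
  (.pair 16 3 938, .walk ⟨696, 1, 0⟩ [.ext 1 82 [] [4, 5]] [.ext 1 82 [0, 0, 1, 1] []] none),
  (.edge 0 224 16 0 17 0, .def'),
  (.edge 1 0 17 224 16 0, .walk ⟨224, 16, 0⟩ [.ext 0 88 [] []] [] (some (3, 0))),
  (.pair 17 966 2, .walk ⟨228, 16, 0⟩ [.ext 0 88 [] [86]] [.ext 0 88 [2] []] none),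
  (.pair 17 965 938, .walk ⟨229, 16, 0⟩ [.ext 0 88 [] [87]] [.ext 0 88 [0, 0, 2] []] none),
  (.edge 1 815 17 0 18 0, .def'),
  (.edge 0 0 18 815 17 0, .walk ⟨815, 17, 0⟩ [.ext 1 92 [] []] [] (some (4, 0))),
  (.pair 18 937 936, .walk ⟨34, 17, 0⟩ [.ext 1 92 [] [91]] [.ext 1 92 [0, 2, 3] [90]] none),
  (.pair 18 1129 715, .walk ⟨968, 18, 0⟩ [.ext 0 93 [0, 1, 3, 0] [], .code 1054, .ext 1 89 [2, 0, 1] [], .code 224, .ext 0 83 [0, 2, 1] [], .code 5, .code 1054, .code 5, .ext 1 3 [1, 2, 0, 3] [], .code 416, .ext 0 2 [0, 1, 1, 2] [1, 0, 1, 0], .code 827, .ext 1 82 [] [], .code 224, .ext 0 88 [] [], .code 5, .code 827, .code 5, .ext 1 92 [] [], .code 416] [] (some (5, 7))),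
  (.edge 0 822 8 0 19 0, .def'),
  (.pair 19 929 9, .walk ⟨828, 8, 0⟩ [.ext 0 96 [] [46]] [.ext 0 96 [0, 1, 1, 2] []] none),
  (.pair 19 928 2, .walk ⟨830, 8, 0⟩ [.ext 0 96 [] [47]] [.ext 0 96 [0, 2] []] none),
  (.edge 0 1125 19 0 20 0, .def')]

/-- Part 1 of the identities. -/
def facts1 : List (Concl × Why) := [
  (.pair 20 3 11, .walk ⟨69, 19, 0⟩ [.ext 0 99 [] [98]] [.ext 0 99 [0, 0] [97]] none),
  (.edge 1 824 20 0 21 0, .def'),
  (.pair 21 939 11, .walk ⟨816, 20, 0⟩ [.ext 1 101 [] [100]] [.ext 1 101 [0, 3, 2] []] none),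
  (.edge 0 224 21 0 22 0, .def'),
  (.edge 1 0 22 224 21 0, .walk ⟨224, 21, 0⟩ [.ext 0 103 [] []] [] (some (3, 0))),
  (.edge 1 815 22 0 23 0, .def'),
  (.edge 0 0 23 815 22 0, .walk ⟨815, 22, 0⟩ [.ext 1 105 [] []] [] (some (4, 0))),
  (.edge 0 416 23 0 24 0, .def'),
  (.edge 1 0 24 416 23 0, .walk ⟨416, 23, 0⟩ [.ext 0 107 [] []] [] (some (3, 0))),
  (.edge 1 1054 24 781 2 0, .walk ⟨781, 2, 0⟩ [.code 780, .ext 1 9 [] [], .code 221, .ext 0 43 [0, 0, 1, 2] [], .code 32, .ext 0 96 [] [], .code 1125, .ext 0 99 [] [], .code 824, .ext 1 101 [] [], .code 224, .ext 0 103 [] [], .code 815, .ext 1 105 [] [], .code 416, .ext 0 107 [] [], .code 1054] [] (some (6, 2))),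
  (.edge 0 781 2 1054 24 0, .walk ⟨1054, 24, 0⟩ [.ext 1 109 [] []] [] (some (4, 0))),
  (.edge 0 16 1 0 25 0, .def'),
  (.edge 1 0 25 16 1 0, .walk ⟨16, 1, 0⟩ [.ext 0 111 [] []] [] (some (3, 0))),
  (.pair 25 940 933, .walk ⟨452, 1, 0⟩ [.ext 0 111 [] [4]] [.ext 0 111 [1, 2, 0] []] none),
  (.pair 25 13 13, .walk ⟨461, 1, 0⟩ [.ext 0 111 [] [5]] [.ext 0 111 [2, 1, 2] []] none),
  (.pair 25 9 9, .walk ⟨944, 1, 0⟩ [.ext 0 111 [] [6]] [.ext 0 111 [0, 2, 3] []] none),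
  (.pair 25 473 471, .walk ⟨984, 1, 0⟩ [.ext 0 111 [] [7]] [.ext 0 111 [1, 2, 3] []] none),
  (.edge 0 0 25 0 26 0, .def'),
  (.pair 26 975 933, .walk ⟨940, 25, 0⟩ [.ext 0 117 [] [113]] [.ext 0 117 [0, 3] []] none),
  (.pair 26 477 13, .walk ⟨13, 25, 0⟩ [.ext 0 117 [] [114]] [.ext 0 117 [0, 0, 0] []] none),
  (.pair 26 928 9, .walk ⟨9, 25, 0⟩ [.ext 0 117 [] [115]] [.ext 0 117 [0, 2] []] none),
  (.pair 26 941 471, .walk ⟨473, 25, 0⟩ [.ext 0 117 [] [116]] [.ext 0 117 [0, 2, 1] []] none),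
  (.edge 0 0 26 16 1 0, .walk ⟨16, 1, 0⟩ [.ext 0 111 [] [], .ext 0 117 [] []] [] (some (0, 0))),
  (.edge 1 16 1 0 26 0, .walk ⟨0, 26, 0⟩ [.ext 0 122 [] []] [] (some (3, 0))),
  (.edge 0 704 26 0 27 0, .def'),
  (.pair 27 963 4, .walk ⟨1011, 26, 0⟩ [.ext 0 124 [] [120]] [.ext 0 124 [3, 0, 1] [119]] none),
  (.pair 27 967 2, .walk ⟨710, 26, 0⟩ [.ext 0 124 [] [118, 118]] [.ext 0 124 [1, 1, 2] []] none),
  (.pair 27 2 965, .walk ⟨1002, 26, 0⟩ [.ext 0 124 [] [118, 119]] [.ext 0 124 [0, 0, 1, 1] [121]] none),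
  (.pair 27 966 964, .walk ⟨557, 26, 0⟩ [.ext 0 124 [] [118, 121]] [.ext 0 124 [2] [119]] none),
  (.edge 1 827 27 0 28 0, .def'),
  (.pair 28 937 965, .walk ⟨818, 27, 0⟩ [.ext 1 129 [] [127]] [.ext 1 129 [0, 2, 3] []] none),
  (.pair 28 2 966, .walk ⟨63, 27, 0⟩ [.ext 1 129 [] [128]] [.ext 1 129 [1, 1] [126]] none),
  (.edge 0 224 28 0 29 0, .def'),
  (.edge 1 0 29 224 28 0, .walk ⟨224, 28, 0⟩ [.ext 0 132 [] []] [] (some (3, 0))),
  (.pair 29 966 966, .walk ⟨228, 28, 0⟩ [.ext 0 132 [] [131]] [.ext 0 132 [2] []] none),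
  (.edge 1 815 29 0 30 0, .def'),
  (.edge 0 0 30 815 29 0, .walk ⟨815, 29, 0⟩ [.ext 1 135 [] []] [] (some (4, 0))),
  (.edge 0 416 30 849 17 466, .walk ⟨849, 17, 466⟩ [.code 1054, .ext 1 89 [2, 3] [], .code 224, .ext 0 83 [0, 0, 3] [], .code 5, .code 1054, .code 5, .ext 1 123 [2, 3, 0] [], .code 416, .ext 0 124 [1, 3, 0] [121], .code 827, .ext 1 129 [0, 3, 2] [125], .code 224, .ext 0 132 [2] [130], .code 5, .code 827, .code 5, .ext 1 135 [] [134], .code 416] [] (some (5, 6))),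
  (.edge 1 849 17 416 30 464, .walk ⟨416, 30, 0⟩ [.ext 0 137 [] []] [] (some (3, 0))),
  (.edge 0 58 8 0 31 0, .def'),
  (.edge 1 0 31 58 8 0, .walk ⟨58, 8, 0⟩ [.ext 0 139 [] []] [] (some (3, 0))),
  (.edge 0 1125 31 0 32 0, .def'),
  (.edge 1 0 32 1125 31 0, .walk ⟨1125, 31, 0⟩ [.ext 0 141 [] []] [] (some (3, 0))),
  (.edge 1 824 32 0 33 0, .def'),
  (.edge 0 0 33 824 32 0, .walk ⟨824, 32, 0⟩ [.ext 1 143 [] []] [] (some (4, 0))),
  (.edge 0 224 33 0 34 0, .def'),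
  (.edge 1 0 34 224 33 0, .walk ⟨224, 33, 0⟩ [.ext 0 145 [] []] [] (some (3, 0))),
  (.edge 1 815 34 0 35 0, .def'),
  (.edge 0 0 35 815 34 0, .walk ⟨815, 34, 0⟩ [.ext 1 147 [] []] [] (some (4, 0))),
  (.edge 0 416 35 0 36 0, .def'),
  (.edge 1 0 36 416 35 0, .walk ⟨416, 35, 0⟩ [.ext 0 149 [] []] [] (some (3, 0))),
  (.edge 1 1054 36 781 25 0, .walk ⟨781, 25, 0⟩ [.code 780, .ext 1 112 [] [], .code 221, .ext 0 43 [1] [], .code 32, .ext 0 139 [] [], .code 1125, .ext 0 141 [] [], .code 824, .ext 1 143 [] [], .code 224, .ext 0 145 [] [], .code 815, .ext 1 147 [] [], .code 416, .ext 0 149 [] [], .code 1054] [] (some (6, 2))),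
  (.edge 0 781 25 1054 36 0, .walk ⟨1054, 36, 0⟩ [.ext 1 151 [] []] [] (some (4, 0))),
  (.edge 0 3 8 970 16 470, .walk ⟨970, 16, 471⟩ [.ext 0 83 [3, 1] [], .ext 0 43 [0, 0] [7]] [] (some (0, 1))),
  (.edge 1 970 16 3 8 471, .walk ⟨3, 8, 0⟩ [.ext 0 153 [] []] [] (some (3, 0))),
  (.edge 0 255 9 0 37 0, .def'),
  (.pair 37 966 939, .walk ⟨251, 9, 0⟩ [.ext 0 155 [] [51]] [.ext 0 155 [2] []] none),
  (.pair 37 963 2, .walk ⟨1121, 9, 0⟩ [.ext 0 155 [] [52]] [.ext 0 155 [3, 0, 1] []] none),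
  (.edge 0 1125 37 0 38 0, .def'),
  (.pair 38 963 939, .walk ⟨251, 37, 0⟩ [.ext 0 158 [] [156]] [.ext 0 158 [3, 0, 1] []] none),
  (.pair 38 7 2, .walk ⟨252, 37, 0⟩ [.ext 0 158 [] [157]] [.ext 0 158 [0, 1, 3, 2] []] none),
  (.edge 0 1125 38 592 1 938, .walk ⟨592, 1, 0⟩ [.code 1125, .ext 0 43 [2, 0] [], .code 1125, .ext 0 49 [0, 0, 2] [48], .code 1125, .ext 0 155 [] [], .code 1125, .ext 0 158 [] [], .code 1125] [] (some (1, 1))),
  (.edge 1 592 1 1125 38 938, .walk ⟨1125, 38, 0⟩ [.ext 0 161 [] []] [] (some (3, 0))),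
  (.pair 38 94 962, .walk ⟨792, 1, 0⟩ [.ext 1 162 [] [4, 7]] [.ext 1 162 [0, 2, 3] [6]] none),
  (.edge 0 74 9 26 38 938, .walk ⟨26, 38, 0⟩ [.code 247, .ext 0 161 [0, 3, 1] [], .code 247, .ext 0 43 [0, 0, 1, 1] [], .code 247, .ext 0 49 [0, 0, 1, 2, 3] [], .code 247] [] (some (2, 3))),
  (.edge 0 702 2 0 39 0, .def'),
  (.edge 0 1125 39 0 40 0, .def'),
  (.edge 1 824 40 0 41 0, .def'),
  (.edge 0 224 41 0 42 0, .def'),
  (.edge 1 0 42 224 41 0, .walk ⟨224, 41, 0⟩ [.ext 0 168 [] []] [] (some (3, 0))),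
  (.edge 1 815 42 0 43 0, .def'),
  (.edge 0 0 43 815 42 0, .walk ⟨815, 42, 0⟩ [.ext 1 170 [] []] [] (some (4, 0))),
  (.edge 0 416 43 0 44 0, .def'),
  (.edge 1 0 44 416 43 0, .walk ⟨416, 43, 0⟩ [.ext 0 172 [] []] [] (some (3, 0))),
  (.edge 1 1054 44 597 8 0, .walk ⟨597, 8, 0⟩ [.code 780, .ext 1 44 [2, 0] [], .code 221, .ext 0 8 [0, 0, 0, 1] [], .code 32, .ext 0 165 [] [], .code 1125, .ext 0 166 [] [], .code 824, .ext 1 167 [] [], .code 224, .ext 0 168 [] [], .code 815, .ext 1 170 [] [], .code 416, .ext 0 172 [] [], .code 1054] [] (some (6, 2))),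
  (.edge 0 597 8 1054 44 0, .walk ⟨1054, 44, 0⟩ [.ext 1 174 [] []] [] (some (4, 0))),
  (.edge 0 702 25 0 45 0, .def'),
  (.edge 0 1125 45 0 46 0, .def'),
  (.edge 1 824 46 0 47 0, .def'),
  (.edge 0 224 47 0 48 0, .def'),
  (.edge 1 815 48 0 49 0, .def'),
  (.edge 0 416 49 0 50 0, .def'),
  (.edge 1 1054 50 316 8 0, .walk ⟨316, 8, 0⟩ [.code 780, .ext 1 44 [0] [], .code 221, .ext 0 111 [0, 0, 0, 1] [], .code 32, .ext 0 176 [] [], .code 1125, .ext 0 177 [] [], .code 824, .ext 1 178 [] [], .code 224, .ext 0 179 [] [], .code 815, .ext 1 180 [] [], .code 416, .ext 0 181 [] [], .code 1054] [] (some (6, 2))),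
  (.edge 0 316 8 1054 50 0, .walk ⟨1054, 50, 0⟩ [.ext 1 182 [] []] [] (some (4, 0))),
  (.edge 0 6 3 1134 15 0, .walk ⟨1134, 15, 13⟩ [.ext 0 79 [1, 1, 2, 0] [], .ext 0 16 [0, 1, 2, 3] [5]] [] (some (0, 1))),
  (.edge 0 234 3 434 26 1008, .walk ⟨434, 26, 0⟩ [.code 247, .ext 0 122 [0, 0, 0] [], .code 247, .ext 0 16 [0, 1, 2, 3] [5], .code 247, .ext 0 22 [3, 1] [], .merge 26, .code 247] [] (some (2, 3))),
  (.edge 0 14 15 0 51 0, .def'),
  (.pair 51 965 4, .walk ⟨11, 15, 0⟩ [.ext 0 186 [] [75]] [.ext 0 186 [0, 0, 2] []] none),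
  (.pair 51 967 2, .walk ⟨8, 15, 0⟩ [.ext 0 186 [] [76]] [.ext 0 186 [1, 1, 2] []] none),
  (.pair 51 966 965, .walk ⟨10, 15, 0⟩ [.ext 0 186 [] [77]] [.ext 0 186 [2] []] none),
  (.pair 51 4 964, .walk ⟨975, 15, 0⟩ [.ext 0 186 [] [78]] [.ext 0 186 [0, 2, 1, 3] []] none),
  (.edge 1 827 51 0 52 0, .def'),
  (.pair 52 937 6, .walk ⟨62, 51, 0⟩ [.ext 1 191 [] [188]] [.ext 1 191 [0, 2, 3] [187]] none),
  (.pair 52 939 961, .walk ⟨63, 51, 0⟩ [.ext 1 191 [] [189]] [.ext 1 191 [0, 3, 2] [187]] none),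
  (.edge 0 224 52 0 53 0, .def'),
  (.pair 53 966 967, .walk ⟨764, 52, 0⟩ [.ext 0 194 [] [193]] [.ext 0 194 [2] [192]] none),
  (.edge 1 815 53 0 54 0, .def'),
  (.edge 0 0 54 815 53 0, .walk ⟨815, 53, 0⟩ [.ext 1 196 [] []] [] (some (4, 0))),
  (.edge 0 416 54 0 55 0, .def'),
  (.edge 1 1054 55 973 38 971, .walk ⟨973, 38, 964⟩ [.code 224, .ext 0 161 [1, 1, 2, 0] [], .code 5, .code 1054, .code 5, .ext 1 80 [2, 0] [7], .code 416, .ext 0 186 [0, 3, 1] [], .code 827, .ext 1 191 [0, 3, 2] [187, 190], .code 224, .ext 0 194 [2] [192], .code 5, .code 827, .code 5, .ext 1 196 [] [195], .code 416, .ext 0 198 [] [], .code 1054] [] (some (5, 4)))]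

/-- Part 2 of the identities. -/
def facts2 : List (Concl × Why) := [
  (.edge 0 942 13 0 56 0, .def'),
  (.edge 1 0 56 942 13 0, .walk ⟨942, 13, 0⟩ [.ext 0 200 [] []] [] (some (3, 0))),
  (.pair 56 928 10, .walk ⟨934, 13, 0⟩ [.ext 0 200 [] [65]] [.ext 0 200 [0, 2] []] none),
  (.pair 56 939 53, .walk ⟨15, 13, 0⟩ [.ext 0 200 [] [66]] [.ext 0 200 [0, 3, 0] []] none),
  (.edge 0 1125 56 0 57 0, .def'),
  (.edge 1 0 57 1125 56 0, .walk ⟨1125, 56, 0⟩ [.ext 0 204 [] []] [] (some (3, 0))),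
  (.edge 1 824 57 0 58 0, .def'),
  (.edge 0 0 58 824 57 0, .walk ⟨824, 57, 0⟩ [.ext 1 206 [] []] [] (some (4, 0))),
  (.edge 0 224 58 0 59 0, .def'),
  (.edge 1 815 59 0 60 0, .def'),
  (.edge 0 416 60 0 61 0, .def'),
  (.edge 1 1054 61 773 3 673, .walk ⟨773, 3, 13⟩ [.code 780, .ext 1 17 [0, 1, 2, 3] [], .code 221, .ext 0 63 [0, 2, 1, 3] [7], .code 32, .ext 0 200 [2, 3, 0] [64], .code 1125, .ext 0 204 [] [202, 203], .code 824, .ext 1 206 [] [], .code 224, .ext 0 208 [] [], .code 815, .ext 1 209 [] [], .code 416, .ext 0 210 [] [], .code 1054] [] (some (6, 2))),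
  (.edge 0 773 3 1054 61 193, .walk ⟨1054, 61, 0⟩ [.ext 1 211 [] []] [] (some (4, 0))),
  (.pair 61 929 32, .walk ⟨780, 3, 0⟩ [.ext 0 212 [] [21]] [.ext 0 212 [2, 0] []] none),
  (.pair 61 8 53, .walk ⟨517, 3, 0⟩ [.ext 0 212 [] [18, 19]] [.ext 0 212 [0, 0] [20]] none),
  (.merge 5 3 937 454, .walk ⟨1141, 3, 710⟩ [.ext 0 185 [0, 1, 2, 3] [], .code 1125, .ext 0 122 [0, 3, 1] [], .code 1125, .ext 0 16 [1, 1, 2, 0] [7], .code 1125, .ext 0 27 [3, 1] [], .code 1125, .ext 0 29 [0, 1, 1, 2] [13], .code 1125] [] (some (1, 4))),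
  (.edge 0 1132 3 25 15 977, .walk ⟨93, 5, 0⟩ [.merge 215] [.ext 0 81 [] []] none),
  (.edge 1 937 3 704 2 456, .walk ⟨0, 5, 0⟩ [.merge 215] [.ext 1 30 [] []] none),
  (.edge 1 688 3 0 6 456, .walk ⟨827, 5, 0⟩ [.merge 215] [.ext 1 35 [] []] none),
  (.merge 15 3 9 550, .walk ⟨1132, 3, 0⟩ [.ext 0 216 [] []] [.ext 0 22 [2, 0] [], .merge 26] none),
  (.edge 0 1140 3 720 1 572, .walk ⟨1125, 15, 0⟩ [.merge 219] [.ext 0 79 [] []] none),
  (.edge 0 7 3 0 51 560, .walk ⟨14, 15, 0⟩ [.merge 219] [.ext 0 186 [] []] none),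
  (.merge 2 1 959 454, .walk ⟨937, 3, 0⟩ [.ext 1 217 [] []] [.ext 1 17 [3] []] none),
  (.edge 0 959 1 0 0 456, .walk ⟨0, 2, 0⟩ [.merge 222] [.ext 0 14 [] []] none),
  (.edge 0 582 1 1054 24 456, .walk ⟨781, 2, 0⟩ [.merge 222] [.ext 0 110 [] []] none),
  (.edge 0 827 1 0 39 456, .walk ⟨702, 2, 0⟩ [.merge 222] [.ext 0 165 [] []] none),
  (.edge 1 1005 1 767 3 80, .walk ⟨715, 2, 0⟩ [.merge 222] [.ext 1 25 [] [], .merge 26] none),
  (.merge 26 1 962 979, .walk ⟨1140, 3, 0⟩ [.ext 0 185 [1, 2, 0, 3] []] [.ext 0 220 [] []] none),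
  (.edge 0 422 1 0 27 983, .walk ⟨704, 26, 0⟩ [.merge 227] [.ext 0 124 [] []] none),
  (.merge 51 3 1148 22, .walk ⟨7, 3, 0⟩ [.ext 0 221 [] []] [.ext 0 184 [0, 0] [], .merge 219] none),
  (.edge 1 359 3 0 52 23, .walk ⟨827, 51, 0⟩ [.merge 229] [.ext 1 191 [] []] none),
  (.merge 25 0 471 456, .walk ⟨959, 1, 0⟩ [.ext 0 111 [3, 2] []] [.ext 0 223 [] []] none),
  (.edge 0 315 0 1054 36 454, .walk ⟨781, 25, 0⟩ [.merge 231] [.ext 0 152 [] []] none),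
  (.edge 0 49 0 0 45 454, .walk ⟨702, 25, 0⟩ [.merge 231] [.ext 0 176 [] []] none),
  (.merge 24 13 936 884, .walk ⟨582, 1, 0⟩ [.ext 0 224 [] []] [.ext 0 63 [0, 1, 1, 2] [6]] none),
  (.edge 1 936 13 416 23 869, .walk ⟨0, 24, 0⟩ [.merge 234] [.ext 1 108 [] []] none),
  (.merge 39 8 477 31, .walk ⟨827, 1, 0⟩ [.ext 0 225 [] []] [.ext 0 43 [0, 0, 0] [7]] none),
  (.edge 0 758 8 0 40 31, .walk ⟨1125, 39, 0⟩ [.merge 236] [.ext 0 166 [] []] none),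
  (.pair 3 431 437, .walk ⟨1005, 1, 0⟩ [.ext 1 226 [] []] [.ext 1 80 [3, 0] [5], .merge 219] none),
  (.merge 27 3 9 452, .walk ⟨422, 1, 0⟩ [.ext 0 228 [] []] [.ext 0 16 [0, 2, 3] [4]] none),
  (.edge 1 816 3 0 28 459, .walk ⟨827, 27, 0⟩ [.merge 239] [.ext 1 129 [] []] none),
  (.merge 36 1 38 273, .walk ⟨315, 0, 0⟩ [.ext 0 232 [] []] [.ext 0 2 [0, 1, 3] [1, 1, 0, 1]] none),
  (.edge 1 38 1 416 35 533, .walk ⟨0, 36, 0⟩ [.merge 241] [.ext 1 150 [] []] none),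
  (.merge 45 1 12 883, .walk ⟨49, 0, 0⟩ [.ext 0 233 [] []] [.ext 0 2 [0, 0, 1] [1]] none),
  (.edge 0 1139 1 0 46 891, .walk ⟨1125, 45, 0⟩ [.merge 243] [.ext 0 177 [] []] none),
  (.merge 23 12 1012 884, .walk ⟨936, 13, 0⟩ [.ext 1 235 [] []] [.ext 1 61 [1, 1, 3] []] none),
  (.edge 0 1012 12 815 22 869, .walk ⟨0, 23, 0⟩ [.merge 245] [.ext 0 106 [] []] none),
  (.merge 40 9 960 959, .walk ⟨758, 8, 0⟩ [.ext 0 237 [] []] [.ext 0 49 [1, 3, 0] [48]] none),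
  (.edge 1 36 9 0 41 948, .walk ⟨824, 40, 0⟩ [.merge 247] [.ext 1 167 [] []] none),
  (.merge 52 6 971 575, .walk ⟨359, 3, 0⟩ [.ext 1 230 [] []] [.ext 1 218 [1, 3] [238, 238]] none),
  (.edge 0 1132 6 0 53 571, .walk ⟨224, 52, 0⟩ [.merge 249] [.ext 0 194 [] []] none),
  (.merge 28 6 928 3, .walk ⟨816, 3, 0⟩ [.ext 1 240 [] []] [.ext 1 218 [3] []] none),
  (.edge 0 748 6 0 29 3, .walk ⟨224, 28, 0⟩ [.merge 251] [.ext 0 132 [] []] none),
  (.merge 35 16 245 1096, .walk ⟨38, 1, 0⟩ [.ext 1 242 [] []] [.ext 1 82 [2, 0] [7]] none),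
  (.edge 0 245 16 815 34 602, .walk ⟨0, 35, 0⟩ [.merge 253] [.ext 0 148 [] []] none),
  (.merge 46 3 960 679, .walk ⟨1139, 1, 0⟩ [.ext 0 244 [] []] [.ext 0 16 [1, 3, 0] [7]] none),
  (.edge 1 36 3 0 47 213, .walk ⟨824, 46, 0⟩ [.merge 255] [.ext 1 178 [] []] none),
  (.merge 22 11 43 1035, .walk ⟨1012, 12, 0⟩ [.ext 0 246 [] []] [.ext 0 59 [2] [67, 68]] none),
  (.edge 1 43 11 224 21 830, .walk ⟨0, 22, 0⟩ [.merge 257] [.ext 1 104 [] []] none),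
  (.merge 53 29 6 995, .walk ⟨748, 6, 0⟩ [.ext 0 250 [0, 1, 2, 3] [37]] [.ext 0 252 [] []] none),
  (.edge 1 822 29 0 54 998, .walk ⟨815, 53, 0⟩ [.merge 259] [.ext 1 196 [] []] none),
  (.merge 34 17 1038 770, .walk ⟨245, 16, 0⟩ [.ext 0 254 [] []] [.ext 0 88 [] [84, 85]] none),
  (.edge 1 1038 17 224 33 771, .walk ⟨0, 34, 0⟩ [.merge 261] [.ext 1 146 [] []] none),
  (.merge 47 6 928 875, .walk ⟨36, 3, 0⟩ [.ext 1 256 [] []] [.ext 1 218 [3] [18]] none),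
  (.edge 0 748 6 0 48 866, .walk ⟨224, 47, 0⟩ [.merge 263] [.ext 0 179 [] []] none),
  (.merge 33 18 418 768, .walk ⟨1038, 17, 0⟩ [.ext 1 262 [] []] [.ext 1 92 [2] [90]] none),
  (.edge 0 418 18 824 32 795, .walk ⟨0, 33, 0⟩ [.merge 265] [.ext 0 144 [] []] none),
  (.merge 48 29 0 872, .walk ⟨748, 6, 0⟩ [.ext 0 264 [] []] [.ext 0 250 [0, 1, 2, 3] [37], .merge 259] none),
  (.edge 1 815 29 0 49 872, .walk ⟨815, 48, 0⟩ [.merge 267] [.ext 1 180 [] []] none),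
  (.merge 32 17 935 60, .walk ⟨418, 18, 0⟩ [.ext 0 266 [] []] [.ext 0 93 [1, 2, 0] [95, 94]] none),
  (.edge 1 935 17 1125 31 54, .walk ⟨0, 32, 0⟩ [.merge 269] [.ext 1 142 [] []] none),
  (.merge 49 30 0 872, .walk ⟨815, 29, 0⟩ [.ext 1 268 [] []] [.ext 1 135 [] []] none),
  (.edge 0 416 30 0 50 872, .walk ⟨416, 49, 0⟩ [.merge 271] [.ext 0 181 [] []] none),
  (.merge 31 16 9 60, .walk ⟨935, 17, 0⟩ [.ext 1 270 [] []] [.ext 1 89 [0, 3, 0, 1] []] none),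
  (.edge 1 9 16 58 8 54, .walk ⟨0, 31, 0⟩ [.merge 273] [.ext 1 140 [] []] none),
  (.merge 50 17 849 692, .walk ⟨416, 30, 0⟩ [.ext 0 272 [] []] [.ext 0 137 [] []] none),
  (.edge 1 471 17 316 8 217, .walk ⟨1054, 50, 0⟩ [.merge 275] [.ext 1 182 [] []] none),
  (.pair 8 810 697, .walk ⟨9, 16, 0⟩ [.ext 1 274 [] []] [.ext 1 154 [1, 3, 0] []] none),
  (.merge 16 8 330 217, .walk ⟨471, 17, 0⟩ [.ext 1 89 [2, 3] []] [.ext 1 276 [] []] none),
  (.edge 0 330 8 698 1 692, .walk ⟨0, 16, 0⟩ [.merge 278] [.ext 0 83 [] []] none),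
  (.merge 44 9 801 205, .walk ⟨597, 8, 0⟩ [.ext 0 175 [] []] [.ext 0 49 [2, 1, 2] [46, 48, 277, 277]] none),
  (.edge 1 801 9 416 43 691, .walk ⟨0, 44, 0⟩ [.merge 280] [.ext 1 173 [] []] none),
  (.merge 17 9 0 933, .walk ⟨316, 8, 0⟩ [.ext 0 183 [] [], .merge 275] [.ext 0 49 [2, 3] [48, 277]] none),
  (.edge 1 815 9 0 18 935, .walk ⟨815, 17, 0⟩ [.merge 282] [.ext 1 92 [] []] none),
  (.edge 1 849 9 416 30 975, .walk ⟨849, 17, 0⟩ [.merge 282] [.ext 1 138 [] []] none),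
  (.merge 19 1 869 692, .walk ⟨330, 8, 0⟩ [.ext 0 96 [0, 1] []] [.ext 0 279 [] []] none),
  (.edge 0 191 1 0 20 217, .walk ⟨1125, 19, 0⟩ [.merge 285] [.ext 0 99 [] []] none),
  (.merge 43 41 224 1034, .walk ⟨801, 9, 0⟩ [.ext 1 281 [] []] [.ext 1 248 [] [52]] none),
  (.edge 0 224 41 815 42 831, .walk ⟨0, 43, 0⟩ [.merge 287] [.ext 0 171 [] []] none),
  (.merge 41 18 464 17, .walk ⟨815, 9, 0⟩ [.ext 1 248 [1, 1, 1] [52]] [.ext 1 283 [] []] none),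
  (.edge 0 76 18 0 42 17, .walk ⟨224, 41, 0⟩ [.merge 289] [.ext 0 168 [] []] none),
  (.merge 30 10 244 975, .walk ⟨849, 9, 0⟩ [.ext 1 284 [] []] [.ext 1 53 [0, 2] [52]] none),
  (.edge 0 244 10 815 29 973, .walk ⟨0, 30, 0⟩ [.merge 291] [.ext 0 136 [] []] none),
  (.merge 20 13 195 852, .walk ⟨191, 1, 0⟩ [.ext 0 286 [] []] [.ext 0 63 [1, 2, 0] [7]] none),
  (.edge 1 944 13 0 21 835, .walk ⟨824, 20, 0⟩ [.merge 293] [.ext 1 101 [] []] none),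
  (.pair 42 1038 831, .walk ⟨224, 41, 0⟩ [.ext 0 288 [] []] [.ext 0 168 [] []] none),
  (.edge 0 450 38 0 62 0, .def'),
  (.pair 62 963 939, .walk ⟨955, 38, 0⟩ [.ext 0 296 [] [159]] [.ext 0 296 [3, 0, 1] []] none),
  (.pair 62 966 2, .walk ⟨454, 38, 0⟩ [.ext 0 296 [] [160]] [.ext 0 296 [2] []] none),
  (.edge 1 830 62 992 54 1134, .walk ⟨992, 54, 973⟩ [.code 416, .ext 0 198 [0, 3, 2] [], .code 1054, .ext 1 199 [0, 0] [], .code 224, .ext 0 161 [0, 1, 1, 2] [], .code 5, .code 1054, .code 5, .ext 1 80 [1, 1, 3] [7], .merge 219, .code 416, .ext 0 27 [2, 0] [], .merge 222, .code 827, .ext 1 162 [3, 1] [4], .code 224, .ext 0 296 [1, 2, 0, 3] [163], .code 5, .code 827, .code 5] [] (some (5, 8)))]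

/-- Part 3 of the identities. -/
def facts3 : List (Concl × Why) := [
  (.edge 0 992 54 830 62 719, .walk ⟨830, 62, 0⟩ [.ext 1 299 [] []] [] (some (4, 0))),
  (.edge 1 60 57 0 63 0, .def'),
  (.edge 0 224 63 0 64 0, .def'),
  (.edge 1 0 64 224 63 0, .walk ⟨224, 63, 0⟩ [.ext 0 302 [] []] [] (some (3, 0))),
  (.edge 1 815 64 0 65 0, .def'),
  (.edge 0 0 65 815 64 0, .walk ⟨815, 64, 0⟩ [.ext 1 304 [] []] [] (some (4, 0))),
  (.edge 0 416 65 874 61 722, .walk ⟨874, 61, 275⟩ [.code 1054, .ext 1 211 [3, 0] [], .code 780, .ext 1 17 [1, 3, 2] [238], .code 221, .ext 0 63 [0, 1, 2, 3] [6, 4], .code 32, .ext 0 200 [1, 1, 3] [64], .code 1125, .ext 0 204 [2] [203], .code 824, .ext 1 301 [] [], .code 224, .ext 0 302 [] [], .code 815, .ext 1 304 [] [], .code 416] [] (some (6, 4))),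
  (.edge 1 874 61 416 65 1120, .walk ⟨416, 65, 0⟩ [.ext 0 306 [] []] [] (some (3, 0))),
  (.edge 0 863 13 571 38 895, .walk ⟨571, 38, 931⟩ [.ext 0 161 [0, 0, 0, 1] [], .ext 0 63 [0, 2, 1, 2] [4, 7]] [] (some (0, 1))),
  (.edge 1 571 38 863 13 870, .walk ⟨863, 13, 0⟩ [.ext 0 308 [] []] [] (some (3, 0))),
  (.edge 0 100 13 0 66 0, .def'),
  (.pair 66 966 10, .walk ⟨96, 13, 0⟩ [.ext 0 310 [] [65]] [.ext 0 310 [2] []] none),
  (.edge 0 1125 66 0 67 0, .def'),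
  (.edge 1 0 67 1125 66 0, .walk ⟨1125, 66, 0⟩ [.ext 0 312 [] []] [] (some (3, 0))),
  (.edge 0 252 67 310 8 26, .walk ⟨310, 8, 1045⟩ [.code 1125, .ext 0 96 [2, 0] [], .merge 285, .code 1125, .ext 0 63 [1] [4, 5, 4], .code 1125, .ext 0 310 [2] [], .code 1125, .ext 0 312 [3, 0, 1] [], .code 1125] [] (some (1, 3))),
  (.edge 1 310 8 252 67 27, .walk ⟨252, 67, 0⟩ [.ext 0 314 [] []] [] (some (3, 0))),
  (.merge 67 66 454 856, .walk ⟨253, 67, 877⟩ [] [.ext 0 314 [0, 0] [], .code 247, .ext 0 96 [0, 1, 3] [], .merge 285, .code 247, .ext 0 63 [0, 0, 2, 1] [7], .code 247, .ext 0 310 [0] [], .code 247] (some (2, 4))),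
  (.edge 0 76 66 310 8 835, .walk ⟨252, 67, 0⟩ [.merge 316] [.ext 0 314 [] []] none),
  (.edge 1 454 66 1125 66 857, .walk ⟨0, 67, 0⟩ [.merge 316] [.ext 1 313 [] []] none),
  (.edge 0 30 13 0 68 0, .def'),
  (.pair 68 928 10, .walk ⟨22, 13, 0⟩ [.ext 0 319 [] [65]] [.ext 0 319 [0, 2] []] none),
  (.pair 68 8 53, .walk ⟨959, 13, 0⟩ [.ext 0 319 [] [66]] [.ext 0 319 [0, 3, 2] []] none),
  (.edge 0 1125 68 0 69 0, .def'),
  (.edge 1 824 69 0 70 0, .def'),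
  (.edge 0 224 70 0 71 0, .def'),
  (.edge 1 815 71 0 72 0, .def'),
  (.edge 0 0 72 815 71 0, .walk ⟨815, 71, 0⟩ [.ext 1 325 [] []] [] (some (4, 0))),
  (.edge 0 416 72 0 73 0, .def'),
  (.edge 1 0 73 416 72 0, .walk ⟨416, 72, 0⟩ [.ext 0 327 [] []] [] (some (3, 0))),
  (.edge 1 1054 73 384 13 21, .walk ⟨384, 13, 1028⟩ [.code 780, .ext 1 62 [0, 0, 1] [], .code 221, .ext 0 63 [] [6, 4], .code 32, .ext 0 319 [0, 2] [64], .code 1125, .ext 0 322 [] [320], .code 824, .ext 1 323 [] [], .code 224, .ext 0 324 [] [], .code 815, .ext 1 325 [] [], .code 416, .ext 0 327 [] [], .code 1054] [] (some (6, 2))),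
  (.edge 0 384 13 1054 73 21, .walk ⟨1054, 73, 0⟩ [.ext 1 329 [] []] [] (some (4, 0))),
  (.edge 1 60 69 0 74 0, .def'),
  (.edge 0 224 74 0 75 0, .def'),
  (.edge 1 815 75 992 72 62, .walk ⟨992, 72, 1041⟩ [.code 416, .ext 0 327 [0, 3, 2] [], .code 1054, .ext 1 329 [0, 0] [], .code 780, .ext 1 62 [2, 1, 2] [], .code 221, .ext 0 63 [1, 1, 2, 0] [6, 4], .code 32, .ext 0 319 [2, 3, 0] [64], .code 1125, .ext 0 322 [2] [321], .code 824, .ext 1 331 [] [], .code 224, .ext 0 332 [] [], .code 815] [] (some (6, 6))),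
  (.edge 0 992 72 815 75 62, .walk ⟨815, 75, 0⟩ [.ext 1 333 [] []] [] (some (4, 0))),
  (.edge 0 1066 61 0 76 0, .def'),
  (.edge 1 0 76 1066 61 0, .walk ⟨1066, 61, 0⟩ [.ext 0 335 [] []] [] (some (3, 0))),
  (.pair 76 966 53, .walk ⟨1070, 61, 0⟩ [.ext 0 335 [] [214]] [.ext 0 335 [2] []] none),
  (.edge 1 824 76 0 77 0, .def'),
  (.edge 0 0 77 824 76 0, .walk ⟨824, 76, 0⟩ [.ext 1 338 [] []] [] (some (4, 0))),
  (.edge 0 224 77 0 78 0, .def'),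
  (.edge 1 815 78 16 72 588, .walk ⟨16, 72, 200⟩ [.code 416, .ext 0 327 [0, 1, 1, 2] [], .code 1054, .ext 1 329 [2, 0] [], .code 780, .ext 1 62 [2, 3, 0] [], .code 221, .ext 0 16 [0, 1, 2] [], .code 32, .ext 0 212 [] [18, 238], .code 1125, .ext 0 335 [2] [213], .code 824, .ext 1 338 [] [337], .code 224, .ext 0 340 [] [], .code 815] [] (some (6, 6))),
  (.edge 0 16 72 815 78 1094, .walk ⟨815, 78, 0⟩ [.ext 1 341 [] []] [] (some (4, 0))),
  (.edge 0 102 61 0 79 0, .def'),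
  (.pair 79 966 53, .walk ⟨98, 61, 0⟩ [.ext 0 343 [] [214]] [.ext 0 343 [2] []] none),
  (.edge 1 824 79 0 80 0, .def'),
  (.edge 0 224 80 0 81 0, .def'),
  (.edge 1 0 81 224 80 0, .walk ⟨224, 80, 0⟩ [.ext 0 346 [] []] [] (some (3, 0))),
  (.edge 1 815 81 1008 72 588, .walk ⟨1008, 72, 200⟩ [.code 416, .ext 0 327 [3] [], .code 1054, .ext 1 329 [0, 2] [], .code 780, .ext 1 62 [2, 0, 3] [], .code 221, .ext 0 16 [1] [], .code 32, .ext 0 212 [0, 3, 0] [18, 238], .code 1125, .ext 0 343 [2] [213], .code 824, .ext 1 345 [] [344], .code 224, .ext 0 346 [] [], .code 815] [] (some (6, 6))),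
  (.edge 0 1008 72 815 81 1094, .walk ⟨815, 81, 0⟩ [.ext 1 348 [] []] [] (some (4, 0))),
  (.edge 0 1065 13 0 82 0, .def'),
  (.edge 1 0 82 1065 13 0, .walk ⟨1065, 13, 0⟩ [.ext 0 350 [] []] [] (some (3, 0))),
  (.edge 0 1126 82 953 9 337, .walk ⟨953, 9, 960⟩ [.code 1125, .ext 0 164 [0, 0, 1, 1, 2] [], .code 1125, .ext 0 161 [2, 1, 3] [], .code 1125, .ext 0 63 [0, 1, 3] [], .code 1125, .ext 0 350 [0, 1, 2, 3] [66], .code 1125] [] (some (1, 5))),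
  (.edge 1 953 9 1126 82 330, .walk ⟨1126, 82, 0⟩ [.ext 0 352 [] []] [] (some (3, 0))),
  (.merge 82 37 460 812, .walk ⟨1125, 37, 0⟩ [.ext 0 158 [] [], .code 247, .ext 0 161 [0, 3, 0, 1] [], .code 247, .ext 0 63 [1, 3] [], .code 247, .ext 0 350 [0, 3, 0, 1] [], .code 247] [] (some (2, 4))),
  (.edge 0 748 37 953 9 465, .walk ⟨1126, 82, 0⟩ [.merge 354] [.ext 0 352 [] []] none),
  (.edge 1 460 37 1065 13 1028, .walk ⟨0, 82, 0⟩ [.merge 354] [.ext 1 351 [] []] none),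
  (.edge 0 764 70 0 83 0, .def'),
  (.edge 1 815 83 0 84 0, .def'),
  (.edge 0 416 84 872 73 62, .walk ⟨872, 73, 880⟩ [.code 1054, .ext 1 329 [0, 0, 1, 1, 2] [], .code 780, .ext 1 62 [1, 2, 0, 3] [], .code 221, .ext 0 63 [0, 3, 0] [6, 4], .code 32, .ext 0 319 [0, 2, 3] [64], .code 1125, .ext 0 322 [0, 0] [321], .code 824, .ext 1 323 [0, 3, 2] [], .code 224, .ext 0 357 [] [], .code 815, .ext 1 358 [] [], .code 416] [] (some (6, 4))),
  (.edge 1 872 73 416 84 62, .walk ⟨416, 84, 0⟩ [.ext 0 359 [] []] [] (some (3, 0))),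
  (.edge 0 764 77 0 85 0, .def'),
  (.edge 1 0 85 764 77 0, .walk ⟨764, 77, 0⟩ [.ext 0 361 [] []] [] (some (3, 0))),
  (.edge 1 815 85 16 84 583, .walk ⟨16, 84, 877⟩ [.code 416, .ext 0 359 [0, 1, 1, 2] [], .code 1054, .ext 1 329 [0, 1, 1] [], .code 780, .ext 1 62 [0, 0, 1, 1] [], .code 221, .ext 0 16 [0, 3, 0, 1] [], .code 32, .ext 0 212 [0, 0, 1, 1] [18, 238], .code 1125, .ext 0 335 [0, 0] [213], .code 824, .ext 1 338 [0, 3, 2] [], .code 224, .ext 0 361 [] [], .code 815] [] (some (6, 6))),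
  (.edge 0 764 80 0 86 0, .def'),
  (.edge 1 0 86 764 80 0, .walk ⟨764, 80, 0⟩ [.ext 0 364 [] []] [] (some (3, 0))),
  (.edge 1 815 86 1008 84 583, .walk ⟨1008, 84, 877⟩ [.code 416, .ext 0 359 [3] [], .code 1054, .ext 1 329 [0, 0, 0, 1, 1] [], .code 780, .ext 1 62 [0, 0] [], .code 221, .ext 0 16 [0, 1, 3, 2] [], .code 32, .ext 0 212 [3] [18, 238], .code 1125, .ext 0 343 [0, 0] [213], .code 824, .ext 1 345 [0, 3, 2] [], .code 224, .ext 0 364 [] [], .code 815] [] (some (6, 6))),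
  (.edge 0 1008 84 815 86 1106, .walk ⟨815, 86, 0⟩ [.ext 1 366 [] []] [] (some (4, 0))),
  (.edge 0 764 63 32 64 1113, .walk ⟨32, 64, 181⟩ [.code 815, .ext 1 304 [0, 0, 2] [], .code 416, .ext 0 306 [0, 0, 1, 1] [], .code 1054, .ext 1 211 [0, 0, 1, 1, 2] [], .code 780, .ext 1 17 [1] [], .code 221, .ext 0 63 [1, 2, 0] [7], .code 32, .ext 0 200 [1, 1, 2, 0] [64], .code 1125, .ext 0 204 [0, 0, 2] [202], .code 824, .ext 1 301 [0, 3, 2] [], .code 224] [] (some (6, 8))),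
  (.edge 1 32 64 764 63 600, .walk ⟨764, 63, 0⟩ [.ext 0 368 [] []] [] (some (3, 0))),
  (.pair 58 732 1120, .walk ⟨546, 58, 480⟩ [.ext 0 208 [2, 3, 0] [], .code 815, .ext 1 209 [0, 0] [], .code 416, .ext 0 210 [0, 0] [], .code 1054, .ext 1 211 [2, 0, 3] [], .code 780, .ext 1 17 [0, 1, 1, 1] [238], .code 221, .ext 0 63 [1, 1, 1] [6, 4], .code 32, .ext 0 200 [0, 0, 3] [64], .code 1125, .ext 0 204 [0, 0] [203], .code 824, .ext 1 206 [0, 3, 2] [], .code 224] [] (some (6, 9))),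
  (.merge 59 57 323 722, .walk ⟨224, 58, 0⟩ [.ext 0 208 [] []] [.ext 0 207 [0, 0, 1, 2, 3] [370, 370]] none),
  (.edge 1 475 57 0 60 1120, .walk ⟨815, 59, 0⟩ [.merge 371] [.ext 1 209 [] []] none),
  (.merge 60 56 241 722, .walk ⟨475, 57, 0⟩ [.ext 1 372 [] []] [.ext 1 205 [2, 1, 3] []] none),
  (.edge 0 10 56 0 61 1120, .walk ⟨416, 60, 0⟩ [.merge 373] [.ext 0 210 [] []] none),
  (.edge 0 14 61 425 65 947, .walk ⟨425, 65, 498⟩ [.code 1125, .ext 0 305 [0, 3, 0, 1] [], .code 824, .ext 1 369 [2, 1, 3] [], .code 224, .ext 0 302 [2, 3, 0] [], .code 815, .ext 1 304 [0, 0] [], .code 416, .ext 0 306 [0, 0] [], .code 1054, .ext 1 211 [0, 0, 2] [], .code 780, .ext 1 28 [3, 1] [], .code 221, .ext 0 212 [0, 3, 1] [20], .code 32] [] (some (6, 14))),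
  (.edge 1 58 7 0 87 0, .def'),
  (.edge 0 0 87 58 7 0, .walk ⟨58, 7, 0⟩ [.ext 1 376 [] []] [] (some (4, 0))),
  (.pair 87 1129 728, .walk ⟨968, 87, 948⟩ [.ext 0 377 [0, 1, 3, 0] [], .code 1054, .ext 1 40 [2, 3] [], .code 224, .ext 0 36 [0, 0, 3] [], .merge 215, .code 5, .code 1054, .code 5, .ext 1 28 [0, 2] [], .code 416, .ext 0 22 [] [238], .merge 26, .code 827, .ext 1 218 [0, 0, 1] [21], .code 224, .ext 0 39 [1, 2, 0, 3] [37], .code 5, .code 827, .code 5, .ext 1 376 [] [41], .code 416] [] (some (5, 7))),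
  (.edge 0 870 61 424 12 137, .walk ⟨424, 12, 1038⟩ [.code 1125, .ext 0 59 [0, 1, 3, 0] [], .code 824, .ext 1 258 [2, 1, 3] [], .code 224, .ext 0 103 [2, 3, 0] [102], .merge 257, .code 815, .ext 1 58 [0, 0, 2] [], .code 416, .ext 0 60 [0, 0, 1, 1] [], .code 1054, .ext 1 62 [2, 3, 0] [], .code 780, .ext 1 80 [2, 0] [], .merge 219, .code 221, .ext 0 212 [0, 1, 2, 3] [19], .code 32] [] (some (6, 14))),
  (.edge 0 197 61 473 6 311, .walk ⟨473, 6, 463⟩ [.ext 0 36 [0, 2, 1] [], .merge 215, .ext 0 212 [0, 0, 3] [19, 238]] [] (some (0, 1))),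
  (.edge 1 473 6 197 61 108, .walk ⟨197, 61, 0⟩ [.ext 0 380 [] []] [] (some (3, 0))),
  (.edge 0 255 79 0 88 0, .def'),
  (.edge 1 0 88 255 79 0, .walk ⟨255, 79, 0⟩ [.ext 0 382 [] []] [] (some (3, 0))),
  (.edge 0 1125 88 430 6 820, .walk ⟨430, 6, 80⟩ [.code 1125, .ext 0 36 [1, 3] [], .merge 215, .code 1125, .ext 0 212 [0, 2, 3] [20], .code 1125, .ext 0 343 [0, 0, 2] [], .code 1125, .ext 0 382 [] [], .code 1125] [] (some (1, 3))),
  (.edge 1 430 6 1125 88 1027, .walk ⟨1125, 88, 0⟩ [.ext 0 384 [] []] [] (some (3, 0))),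
  (.edge 0 74 79 723 6 873, .walk ⟨723, 6, 736⟩ [.code 247, .ext 0 36 [1, 2, 3] [], .merge 215, .code 247, .ext 0 212 [0, 0, 3] [20], .code 247, .ext 0 343 [0, 0, 1, 2, 3] [213], .code 247] [] (some (2, 3))),
  (.edge 1 801 76 0 89 0, .def'),
  (.edge 0 224 89 0 90 0, .def'),
  (.edge 1 815 90 0 91 0, .def'),
  (.edge 0 416 91 0 92 0, .def'),
  (.edge 1 0 92 416 91 0, .walk ⟨416, 91, 0⟩ [.ext 0 390 [] []] [] (some (3, 0))),
  (.edge 1 1054 92 401 61 777, .walk ⟨401, 61, 1064⟩ [.code 780, .ext 1 211 [0, 2, 3] [], .code 221, .ext 0 22 [1, 1, 1] [], .merge 26, .code 32, .ext 0 212 [0, 1, 1] [18, 238], .code 1125, .ext 0 335 [0, 1, 2, 3] [], .code 824, .ext 1 387 [] [], .code 224, .ext 0 388 [] [], .code 815, .ext 1 389 [] [], .code 416, .ext 0 390 [] [], .code 1054] [] (some (6, 2))),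
  (.edge 0 401 61 1054 92 796, .walk ⟨1054, 92, 0⟩ [.ext 1 392 [] []] [] (some (4, 0))),
  (.edge 1 809 79 0 93 0, .def'),
  (.edge 0 224 93 0 94 0, .def'),
  (.edge 1 815 94 992 91 0, .walk ⟨992, 91, 164⟩ [.code 416, .ext 0 390 [0, 3, 2] [], .code 1054, .ext 1 392 [0, 0] [], .code 780, .ext 1 211 [0, 3, 2] [], .code 221, .ext 0 22 [2, 0, 1] [], .merge 26, .code 32, .ext 0 212 [0, 0, 3, 0] [18, 238], .code 1125, .ext 0 343 [1, 2, 0, 3] [], .code 824, .ext 1 394 [] [], .code 224, .ext 0 395 [] [], .code 815] [] (some (6, 6))),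
  (.edge 1 677 37 0 95 0, .def'),
  (.edge 0 0 95 677 37 0, .walk ⟨677, 37, 0⟩ [.ext 1 397 [] []] [] (some (4, 0))),
  (.edge 0 224 95 0 96 0, .def')]

/-- Part 4 of the identities. -/
def facts4 : List (Concl × Why) := [
  (.edge 1 0 96 224 95 0, .walk ⟨224, 95, 0⟩ [.ext 0 399 [] []] [] (some (3, 0))),
  (.edge 1 815 96 0 97 0, .def'),
  (.edge 0 0 97 815 96 0, .walk ⟨815, 96, 0⟩ [.ext 1 401 [] []] [] (some (4, 0))),
  (.edge 0 416 97 0 98 0, .def'),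
  (.edge 1 0 98 416 97 0, .walk ⟨416, 97, 0⟩ [.ext 0 403 [] []] [] (some (3, 0))),
  (.edge 1 1054 98 1013 61 175, .walk ⟨1013, 61, 1064⟩ [.code 780, .ext 1 211 [0, 0, 0, 3] [], .code 221, .ext 0 27 [3, 0, 1] [238], .merge 222, .code 32, .ext 0 63 [2] [7], .code 1125, .ext 0 350 [0, 1, 3, 2] [66], .merge 354, .code 824, .ext 1 397 [] [157], .code 224, .ext 0 399 [] [], .code 815, .ext 1 401 [] [], .code 416, .ext 0 403 [] [], .code 1054] [] (some (6, 2))),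
  (.edge 0 1013 61 1054 98 653, .walk ⟨1054, 98, 0⟩ [.ext 1 405 [] []] [] (some (4, 0))),
  (.edge 1 37 66 0 99 0, .def'),
  (.edge 0 0 99 37 66 0, .walk ⟨37, 66, 0⟩ [.ext 1 407 [] []] [] (some (4, 0))),
  (.edge 0 224 99 0 100 0, .def'),
  (.edge 1 815 100 992 97 812, .walk ⟨992, 97, 469⟩ [.code 416, .ext 0 403 [0, 3, 2] [], .code 1054, .ext 1 405 [0, 0] [], .code 780, .ext 1 211 [0, 0, 3, 0] [], .code 221, .ext 0 27 [2, 1, 3] [238], .merge 222, .code 32, .ext 0 63 [0, 0, 2, 3] [7], .code 1125, .ext 0 310 [0, 1, 3, 2] [66], .code 824, .ext 1 407 [] [311], .code 224, .ext 0 409 [] [], .code 815] [] (some (6, 6))),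
  (.edge 0 992 97 815 100 1028, .walk ⟨815, 100, 0⟩ [.ext 1 410 [] []] [] (some (4, 0))),
  (.edge 0 886 61 0 101 0, .def'),
  (.edge 1 0 101 886 61 0, .walk ⟨886, 61, 0⟩ [.ext 0 412 [] []] [] (some (3, 0))),
  (.pair 101 936 32, .walk ⟨347, 61, 0⟩ [.ext 0 412 [] [213]] [.ext 0 412 [1, 1, 3] []] none),
  (.pair 101 928 53, .walk ⟨894, 61, 0⟩ [.ext 0 412 [] [214]] [.ext 0 412 [0, 2] []] none),
  (.edge 0 1125 101 0 102 0, .def'),
  (.edge 1 0 102 1125 101 0, .walk ⟨1125, 101, 0⟩ [.ext 0 416 [] []] [] (some (3, 0))),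
  (.edge 1 824 102 0 103 0, .def'),
  (.edge 0 224 103 0 104 0, .def'),
  (.edge 1 815 104 1008 97 302, .walk ⟨1008, 97, 1002⟩ [.code 416, .ext 0 403 [3] [], .code 1054, .ext 1 405 [0, 2] [], .code 780, .ext 1 211 [2, 1] [], .code 221, .ext 0 212 [2, 0] [20], .code 32, .ext 0 412 [0, 3, 2] [], .code 1125, .ext 0 416 [] [414, 415], .code 824, .ext 1 418 [] [], .code 224, .ext 0 419 [] [], .code 815] [] (some (6, 6))),
  (.edge 1 60 102 0 105 0, .def'),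
  (.edge 0 224 105 0 106 0, .def'),
  (.edge 1 815 106 16 97 654, .walk ⟨16, 97, 1002⟩ [.code 416, .ext 0 403 [0, 1, 1, 2] [], .code 1054, .ext 1 405 [2, 0] [], .code 780, .ext 1 211 [0, 0, 1, 2] [], .code 221, .ext 0 212 [1, 1] [20], .code 32, .ext 0 412 [2, 0] [], .code 1125, .ext 0 416 [2] [415], .code 824, .ext 1 421 [] [], .code 224, .ext 0 422 [] [], .code 815] [] (some (6, 6))),
  (.edge 0 16 97 815 106 186, .walk ⟨815, 106, 0⟩ [.ext 1 423 [] []] [] (some (4, 0))),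
  (.edge 0 30 61 0 107 0, .def'),
  (.edge 1 0 107 30 61 0, .walk ⟨30, 61, 0⟩ [.ext 0 425 [] []] [] (some (3, 0))),
  (.pair 107 8 32, .walk ⟨959, 61, 0⟩ [.ext 0 425 [] [213]] [.ext 0 425 [0, 3, 2] []] none),
  (.pair 107 928 53, .walk ⟨22, 61, 0⟩ [.ext 0 425 [] [214]] [.ext 0 425 [0, 2] []] none),
  (.edge 0 1125 107 0 108 0, .def'),
  (.edge 1 60 108 0 109 0, .def'),
  (.edge 0 224 109 0 110 0, .def'),
  (.edge 1 815 110 16 91 791, .walk ⟨16, 91, 495⟩ [.code 416, .ext 0 390 [0, 1, 1, 2] [], .code 1054, .ext 1 392 [2, 0] [], .code 780, .ext 1 211 [1, 1, 1] [], .code 221, .ext 0 212 [2] [18], .code 32, .ext 0 425 [0, 0] [], .code 1125, .ext 0 429 [2] [], .code 824, .ext 1 430 [] [], .code 224, .ext 0 431 [] [], .code 815] [] (some (6, 6))),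
  (.edge 0 16 91 815 110 790, .walk ⟨815, 110, 0⟩ [.ext 1 432 [] []] [] (some (4, 0))),
  (.edge 0 1126 76 957 79 1120, .walk ⟨957, 79, 193⟩ [.code 1125, .ext 0 386 [0, 0] [], .code 1125, .ext 0 36 [] [], .merge 215, .code 1125, .ext 0 212 [1, 1, 2] [20, 238, 238], .code 1125, .ext 0 335 [0, 1, 2, 3] [213], .code 1125] [] (some (1, 5))),
  (.edge 1 957 79 1126 76 722, .walk ⟨1126, 76, 0⟩ [.ext 0 434 [] []] [] (some (3, 0))),
  (.merge 88 76 451 717, .walk ⟨255, 88, 351⟩ [] [.ext 0 384 [1, 2, 0, 3] [], .code 247, .ext 0 36 [0, 0, 1, 1, 2] [], .merge 215, .code 247, .ext 0 212 [0, 0, 0, 1, 1] [20, 238, 238], .code 247, .ext 0 335 [0, 0, 0] [], .code 247] (some (2, 4))),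
  (.edge 0 765 76 430 6 356, .walk ⟨1125, 88, 0⟩ [.merge 436] [.ext 0 384 [] []] none),
  (.edge 1 451 76 255 79 1130, .walk ⟨0, 88, 0⟩ [.merge 436] [.ext 1 383 [] []] none),
  (.edge 0 764 95 0 111 0, .def'),
  (.edge 1 0 111 764 95 0, .walk ⟨764, 95, 0⟩ [.ext 0 439 [] []] [] (some (3, 0))),
  (.edge 1 815 111 0 112 0, .def'),
  (.edge 0 0 112 815 111 0, .walk ⟨815, 111, 0⟩ [.ext 1 441 [] []] [] (some (4, 0))),
  (.edge 0 416 112 864 98 2, .walk ⟨864, 98, 760⟩ [.code 1054, .ext 1 405 [1, 1, 2] [], .code 780, .ext 1 211 [0, 0, 1, 1, 2] [], .code 221, .ext 0 27 [2, 1] [238], .merge 222, .code 32, .ext 0 63 [0, 0, 1, 1, 2] [7], .code 1125, .ext 0 350 [0, 3, 1] [66], .merge 354, .code 824, .ext 1 397 [0, 3, 2] [], .code 224, .ext 0 439 [] [], .code 815, .ext 1 441 [] [], .code 416] [] (some (6, 4))),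
  (.edge 1 864 98 416 112 2, .walk ⟨416, 112, 0⟩ [.ext 0 443 [] []] [] (some (3, 0))),
  (.edge 0 764 99 0 113 0, .def'),
  (.edge 1 0 113 764 99 0, .walk ⟨764, 99, 0⟩ [.ext 0 445 [] []] [] (some (3, 0))),
  (.edge 1 815 113 992 112 812, .walk ⟨992, 112, 762⟩ [.code 416, .ext 0 443 [0, 3, 2] [], .code 1054, .ext 1 405 [0, 0, 1, 1, 2] [], .code 780, .ext 1 211 [0, 0, 2] [], .code 221, .ext 0 27 [0, 2, 1, 2] [238], .merge 222, .code 32, .ext 0 63 [3, 2] [7], .code 1125, .ext 0 310 [0, 3, 1] [66], .code 824, .ext 1 407 [0, 3, 2] [], .code 224, .ext 0 445 [] [], .code 815] [] (some (6, 6))),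
  (.edge 0 992 112 815 113 1028, .walk ⟨815, 113, 0⟩ [.ext 1 447 [] []] [] (some (4, 0))),
  (.edge 0 764 93 0 114 0, .def'),
  (.edge 0 764 105 0 115 0, .def'),
  (.edge 1 0 115 764 105 0, .walk ⟨764, 105, 0⟩ [.ext 0 450 [] []] [] (some (3, 0))),
  (.edge 1 815 115 16 112 300, .walk ⟨16, 112, 938⟩ [.code 416, .ext 0 443 [0, 1, 1, 2] [], .code 1054, .ext 1 405 [0, 0, 0, 1, 1] [], .code 780, .ext 1 211 [3, 0, 1] [], .code 221, .ext 0 212 [0, 0, 3] [20], .code 32, .ext 0 412 [2, 0, 3] [], .code 1125, .ext 0 416 [0, 0, 2] [414, 415], .code 824, .ext 1 421 [0, 3, 2] [], .code 224, .ext 0 450 [] [], .code 815] [] (some (6, 6))),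
  (.edge 0 16 112 815 115 123, .walk ⟨815, 115, 0⟩ [.ext 1 452 [] []] [] (some (4, 0))),
  (.edge 0 764 103 0 116 0, .def'),
  (.edge 1 0 116 764 103 0, .walk ⟨764, 103, 0⟩ [.ext 0 454 [] []] [] (some (3, 0))),
  (.edge 1 815 116 1008 112 652, .walk ⟨1008, 112, 938⟩ [.code 416, .ext 0 443 [3] [], .code 1054, .ext 1 405 [0, 1, 1] [], .code 780, .ext 1 211 [0, 3, 1] [], .code 221, .ext 0 212 [0, 3, 2] [20], .code 32, .ext 0 412 [0, 1, 1, 2] [], .code 1125, .ext 0 416 [0, 0] [415], .code 824, .ext 1 418 [0, 3, 2] [], .code 224, .ext 0 454 [] [], .code 815] [] (some (6, 6))),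
  (.edge 0 1008 112 815 116 174, .walk ⟨815, 116, 0⟩ [.ext 1 456 [] []] [] (some (4, 0))),
  (.edge 1 43 114 0 117 0, .def'),
  (.edge 0 416 117 0 118 0, .def'),
  (.edge 1 1054 118 0 119 0, .def'),
  (.edge 0 0 119 1054 118 0, .walk ⟨1054, 118, 0⟩ [.ext 1 460 [] []] [] (some (4, 0))),
  (.edge 0 224 119 830 6 660, .walk ⟨830, 6, 0⟩ [.code 5, .code 1054, .code 5, .ext 1 381 [0, 0, 0] [], .code 416, .ext 0 343 [0, 0, 1, 2] [], .code 827, .ext 1 394 [0, 2, 3] [344], .code 224, .ext 0 449 [2] [], .code 5, .code 827, .code 5, .ext 1 458 [] [], .code 416, .ext 0 459 [] [], .code 1054, .ext 1 460 [] [], .code 224] [] (some (5, 2))),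
  (.edge 1 830 6 224 119 167, .walk ⟨224, 119, 0⟩ [.ext 0 462 [] []] [] (some (3, 0))),
  (.edge 0 1030 6 885 61 901, .walk ⟨885, 61, 912⟩ [.code 32, .ext 0 380 [3] [], .code 1125, .ext 0 39 [0, 0, 0] [], .code 824, .ext 1 376 [3, 1] [], .code 224, .ext 0 377 [2] [378], .code 815, .ext 1 40 [1, 2, 0, 3] [], .code 416, .ext 0 36 [1, 2, 0, 3] [], .merge 215, .code 1054, .ext 1 28 [0, 1, 3, 2] [], .code 780, .ext 1 218 [0, 3, 2] [238, 18], .code 221] [] (some (6, 16))),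
  (.edge 1 885 61 1030 6 924, .walk ⟨1030, 6, 0⟩ [.ext 0 464 [] []] [] (some (3, 0))),
  (.edge 1 43 94 0 120 0, .def'),
  (.edge 0 0 120 43 94 0, .walk ⟨43, 94, 0⟩ [.ext 1 466 [] []] [] (some (4, 0))),
  (.edge 0 416 120 864 118 53, .walk ⟨864, 118, 167⟩ [.code 1054, .ext 1 460 [1, 1, 2] [], .code 224, .ext 0 462 [1, 1] [], .code 5, .code 1054, .code 5, .ext 1 381 [0, 0, 0, 1, 1] [], .code 416, .ext 0 343 [1] [], .code 827, .ext 1 394 [1, 1] [], .code 224, .ext 0 395 [2] [], .code 5, .code 827, .code 5, .ext 1 466 [] [], .code 416] [] (some (5, 6))),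
  (.edge 1 864 118 416 120 53, .walk ⟨416, 120, 0⟩ [.ext 0 468 [] []] [] (some (3, 0))),
  (.merge 56 6 884 328, .walk ⟨4, 6, 0⟩ [.code 5, .ext 1 381 [1, 2, 3] [], .code 416, .ext 0 343 [2, 0, 3] [], .code 827, .ext 1 345 [] [], .code 224, .ext 0 346 [] [], .code 5, .code 827, .code 5, .ext 1 348 [] [], .code 416, .ext 0 327 [3] [], .code 1054, .ext 1 329 [0, 2] [], .code 224, .ext 0 200 [3, 0, 1] [64], .code 5, .code 1054] [] (some (5, 0))),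
  (.edge 0 166 6 0 57 346, .walk ⟨1125, 56, 0⟩ [.merge 470] [.ext 0 204 [] []] none),
  (.edge 0 895 6 0 61 913, .walk ⟨10, 56, 0⟩ [.merge 470] [.ext 0 374 [] []] none),
  (.edge 1 884 6 942 13 346, .walk ⟨0, 56, 0⟩ [.merge 470] [.ext 1 201 [] []] none),
  (.edge 0 194 6 0 121 0, .def'),
  (.pair 121 936 965, .walk ⟨1042, 6, 0⟩ [.ext 0 474 [] [37]] [.ext 0 474 [1, 1, 3] []] none),
  (.pair 121 930 966, .walk ⟨200, 6, 0⟩ [.ext 0 474 [] [38]] [.ext 0 474 [1, 1, 2, 0] []] none),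
  (.edge 0 32 121 0 122 0, .def'),
  (.edge 1 0 122 32 121 0, .walk ⟨32, 121, 0⟩ [.ext 0 477 [] []] [] (some (3, 0))),
  (.pair 122 9 965, .walk ⟨847, 121, 0⟩ [.ext 0 477 [] [475]] [.ext 0 477 [0, 2, 3] []] none),
  (.pair 122 939 966, .walk ⟨836, 121, 0⟩ [.ext 0 477 [] [476]] [.ext 0 477 [0, 3, 0] []] none),
  (.edge 0 1125 122 0 123 0, .def'),
  (.edge 1 0 123 1125 122 0, .walk ⟨1125, 122, 0⟩ [.ext 0 481 [] []] [] (some (3, 0))),
  (.edge 1 824 123 0 124 0, .def'),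
  (.edge 0 0 124 824 123 0, .walk ⟨824, 123, 0⟩ [.ext 1 483 [] []] [] (some (4, 0))),
  (.edge 0 224 124 0 125 0, .def'),
  (.edge 1 815 125 1067 6 1007, .walk ⟨1067, 6, 1007⟩ [.code 416, .ext 0 464 [1, 2, 0] [], .code 1054, .ext 1 211 [0, 2, 1, 2] [], .code 780, .ext 1 218 [0, 0, 0, 3] [238, 18], .code 221, .ext 0 474 [1, 1, 3] [], .code 32, .ext 0 477 [0, 2, 3] [], .code 1125, .ext 0 481 [] [479], .code 824, .ext 1 483 [] [], .code 224, .ext 0 485 [] [], .code 815] [] (some (6, 6))),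
  (.edge 0 1067 6 815 125 1018, .walk ⟨815, 125, 0⟩ [.ext 1 486 [] []] [] (some (4, 0))),
  (.edge 1 53 123 0 126 0, .def'),
  (.edge 0 224 126 0 127 0, .def'),
  (.edge 1 815 127 0 128 0, .def'),
  (.edge 0 0 128 815 127 0, .walk ⟨815, 127, 0⟩ [.ext 1 490 [] []] [] (some (4, 0))),
  (.edge 0 416 128 27 61 670, .walk ⟨27, 61, 640⟩ [.code 1054, .ext 1 211 [2, 1, 2] [], .code 780, .ext 1 218 [0, 3] [18, 238], .code 221, .ext 0 474 [0, 3, 0] [], .code 32, .ext 0 477 [3] [], .code 1125, .ext 0 481 [0, 0, 2] [480], .code 824, .ext 1 488 [] [], .code 224, .ext 0 489 [] [], .code 815, .ext 1 490 [] [], .code 416] [] (some (6, 4))),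
  (.edge 1 27 61 416 128 163, .walk ⟨416, 128, 0⟩ [.ext 0 492 [] []] [] (some (3, 0))),
  (.pair 124 732 712, .walk ⟨546, 124, 1129⟩ [.ext 0 485 [2, 3, 0] [], .code 815, .ext 1 486 [0, 0] [], .code 416, .ext 0 464 [0, 1, 2] [], .code 1054, .ext 1 211 [1, 3, 2] [], .code 780, .ext 1 218 [0] [], .code 221, .ext 0 474 [0, 0, 1, 1] [], .code 32, .ext 0 477 [2, 0] [], .code 1125, .ext 0 481 [0, 0] [479, 480], .code 824, .ext 1 483 [0, 3, 2] [], .code 224] [] (some (6, 9))),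
  (.merge 125 123 323 1132, .walk ⟨224, 124, 0⟩ [.ext 0 485 [] []] [.ext 0 484 [0, 0, 1, 2, 3] [494, 494]] none),
  (.edge 1 475 123 1067 6 929, .walk ⟨815, 125, 0⟩ [.merge 495] [.ext 1 486 [] []] none),
  (.merge 122 6 840 929, .walk ⟨475, 123, 0⟩ [.ext 1 482 [2, 1, 3] []] [.ext 1 496 [] []] none),
  (.edge 1 840 6 32 121 929, .walk ⟨0, 122, 0⟩ [.merge 497] [.ext 1 478 [] []] none),
  (.edge 0 764 126 32 127 243, .walk ⟨32, 127, 243⟩ [.code 815, .ext 1 490 [0, 0, 2] [], .code 416, .ext 0 492 [0, 0, 1, 1] [], .code 1054, .ext 1 211 [0, 1, 3, 2] [], .code 780, .ext 1 218 [3, 2] [21], .code 221, .ext 0 474 [2, 3, 0] [], .code 32, .ext 0 477 [0, 1, 1, 2] [], .merge 497, .code 1125, .ext 0 487 [0, 3, 0, 1] [37, 38], .merge 495, .code 824, .ext 1 488 [0, 3, 2] [], .code 224] [] (some (6, 8)))]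

/-- Part 5 of the identities. -/
def facts5 : List (Concl × Why) := [
  (.edge 0 16 6 0 129 0, .def'),
  (.edge 1 0 129 16 6 0, .walk ⟨16, 6, 0⟩ [.ext 0 500 [] []] [] (some (3, 0))),
  (.pair 129 937 965, .walk ⟨953, 6, 0⟩ [.ext 0 500 [] [37]] [.ext 0 500 [3] []] none),
  (.pair 129 2 966, .walk ⟨19, 6, 0⟩ [.ext 0 500 [] [38]] [.ext 0 500 [0, 0, 1, 1] []] none),
  (.edge 0 1125 129 0 130 0, .def'),
  (.edge 0 1125 130 0 131 0, .def'),
  (.edge 0 1125 131 1122 79 873, .walk ⟨1122, 79, 873⟩ [.code 1125, .ext 0 386 [2, 3, 0] [], .code 1125, .ext 0 500 [] [], .code 1125, .ext 0 504 [] [], .code 1125, .ext 0 505 [] [], .code 1125] [] (some (1, 3))),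
  (.edge 0 761 130 1148 76 502, .walk ⟨1148, 76, 502⟩ [.code 247, .ext 0 437 [2, 3, 0] [], .code 247, .ext 0 500 [] [], .code 247, .ext 0 504 [0, 3, 0, 1] [], .code 247] [] (some (2, 3))),
  (.edge 1 37 108 0 132 0, .def'),
  (.edge 0 224 132 0 133 0, .def'),
  (.edge 1 815 133 0 134 0, .def'),
  (.edge 0 0 134 815 133 0, .walk ⟨815, 133, 0⟩ [.ext 1 510 [] []] [] (some (4, 0))),
  (.edge 0 416 134 0 135 0, .def'),
  (.edge 1 0 135 416 134 0, .walk ⟨416, 134, 0⟩ [.ext 0 512 [] []] [] (some (3, 0))),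
  (.edge 1 1054 135 781 129 927, .walk ⟨781, 129, 0⟩ [.code 780, .ext 1 501 [] [], .code 221, .ext 0 464 [0, 0, 2, 3] [], .code 32, .ext 0 425 [0, 1] [], .code 1125, .ext 0 429 [0, 1, 3] [427, 428], .code 824, .ext 1 508 [] [], .code 224, .ext 0 509 [] [], .code 815, .ext 1 510 [] [], .code 416, .ext 0 512 [] [], .code 1054] [] (some (6, 2))),
  (.edge 0 781 129 1054 135 912, .walk ⟨1054, 135, 0⟩ [.ext 1 514 [] []] [] (some (4, 0))),
  (.edge 0 764 132 0 136 0, .def'),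
  (.edge 1 0 136 764 132 0, .walk ⟨764, 132, 0⟩ [.ext 0 516 [] []] [] (some (3, 0))),
  (.edge 1 815 136 992 134 21, .walk ⟨992, 134, 1060⟩ [.code 416, .ext 0 512 [0, 3, 2] [], .code 1054, .ext 1 514 [0, 0] [], .code 780, .ext 1 501 [1, 1] [], .code 221, .ext 0 464 [3, 0] [], .code 32, .ext 0 425 [0, 1, 3] [], .code 1125, .ext 0 429 [0, 3, 1] [], .code 824, .ext 1 508 [0, 3, 2] [], .code 224, .ext 0 516 [] [], .code 815] [] (some (6, 6))),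
  (.edge 0 992 134 815 136 21, .walk ⟨815, 136, 0⟩ [.ext 1 518 [] []] [] (some (4, 0))),
  (.edge 0 804 121 0 137 0, .def'),
  (.edge 0 1125 137 0 138 0, .def'),
  (.edge 1 0 138 1125 137 0, .walk ⟨1125, 137, 0⟩ [.ext 0 521 [] []] [] (some (3, 0))),
  (.edge 1 824 138 0 139 0, .def'),
  (.edge 0 0 139 824 138 0, .walk ⟨824, 138, 0⟩ [.ext 1 523 [] []] [] (some (4, 0))),
  (.edge 0 224 139 0 140 0, .def'),
  (.edge 1 0 140 224 139 0, .walk ⟨224, 139, 0⟩ [.ext 0 525 [] []] [] (some (3, 0))),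
  (.edge 1 815 140 0 141 0, .def'),
  (.edge 0 0 141 815 140 0, .walk ⟨815, 140, 0⟩ [.ext 1 527 [] []] [] (some (4, 0))),
  (.edge 0 416 141 0 142 0, .def'),
  (.edge 1 0 142 416 141 0, .walk ⟨416, 141, 0⟩ [.ext 0 529 [] []] [] (some (3, 0))),
  (.edge 1 1054 142 517 129 0, .walk ⟨517, 129, 0⟩ [.code 780, .ext 1 501 [2] [], .code 221, .ext 0 474 [1, 1, 2] [], .code 32, .ext 0 520 [] [], .code 1125, .ext 0 521 [] [], .code 824, .ext 1 523 [] [], .code 224, .ext 0 525 [] [], .code 815, .ext 1 527 [] [], .code 416, .ext 0 529 [] [], .code 1054] [] (some (6, 2))),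
  (.edge 0 517 129 1054 142 0, .walk ⟨1054, 142, 0⟩ [.ext 1 531 [] []] [] (some (4, 0))),
  (.edge 0 65 129 0 143 0, .def'),
  (.edge 0 1125 143 0 144 0, .def'),
  (.edge 0 1125 144 248 76 502, .walk ⟨248, 76, 502⟩ [.code 1125, .ext 0 437 [0, 0, 0, 3] [], .code 1125, .ext 0 500 [2, 0] [], .code 1125, .ext 0 533 [] [], .code 1125, .ext 0 534 [] [], .code 1125] [] (some (1, 3))),
  (.edge 1 248 76 1125 144 356, .walk ⟨1125, 144, 0⟩ [.ext 0 535 [] []] [] (some (3, 0))),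
  (.edge 0 761 143 231 79 873, .walk ⟨231, 79, 873⟩ [.code 247, .ext 0 386 [0, 0, 0, 3] [], .code 247, .ext 0 500 [2, 0] [], .code 247, .ext 0 533 [0, 3, 0, 1] [], .code 247] [] (some (2, 3))),
  (.edge 1 800 108 0 145 0, .def'),
  (.edge 0 224 145 0 146 0, .def'),
  (.edge 1 815 146 0 147 0, .def'),
  (.edge 0 0 147 815 146 0, .walk ⟨815, 146, 0⟩ [.ext 1 540 [] []] [] (some (4, 0))),
  (.edge 0 416 147 872 135 21, .walk ⟨872, 135, 901⟩ [.code 1054, .ext 1 514 [0, 0, 1, 1, 2] [], .code 780, .ext 1 501 [0, 3, 2] [], .code 221, .ext 0 464 [2] [], .code 32, .ext 0 425 [3, 0, 1] [], .code 1125, .ext 0 429 [0, 1, 3, 2] [], .code 824, .ext 1 538 [] [], .code 224, .ext 0 539 [] [], .code 815, .ext 1 540 [] [], .code 416] [] (some (6, 4))),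
  (.edge 1 872 135 416 147 21, .walk ⟨416, 147, 0⟩ [.ext 0 542 [] []] [] (some (3, 0))),
  (.edge 0 764 145 0 148 0, .def'),
  (.edge 1 815 148 992 147 21, .walk ⟨992, 147, 1060⟩ [.code 416, .ext 0 542 [0, 3, 2] [], .code 1054, .ext 1 514 [1, 1, 2] [], .code 780, .ext 1 501 [0, 2, 3] [], .code 221, .ext 0 464 [0, 0, 0, 1, 1] [], .code 32, .ext 0 425 [0, 2, 1, 2] [], .code 1125, .ext 0 429 [0, 2, 1, 3] [427, 428], .code 824, .ext 1 538 [0, 3, 2] [], .code 224, .ext 0 544 [] [], .code 815] [] (some (6, 6))),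
  (.edge 0 992 147 815 148 21, .walk ⟨815, 148, 0⟩ [.ext 1 545 [] []] [] (some (4, 0))),
  (.merge 121 101 676 178, .walk ⟨217, 121, 929⟩ [] [.ext 0 477 [0, 2, 1] [], .merge 497, .ext 0 464 [0, 3, 1] [], .ext 0 412 [0, 1, 2, 3] []] (some (0, 1))),
  (.edge 0 476 101 840 6 924, .walk ⟨32, 121, 0⟩ [.merge 547] [.ext 0 477 [] [], .merge 497] none),
  (.edge 0 212 101 0 137 662, .walk ⟨804, 121, 0⟩ [.merge 547] [.ext 0 520 [] []] none),
  (.edge 0 151 92 0 149 0, .def'),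
  (.edge 1 0 149 151 92 0, .walk ⟨151, 92, 0⟩ [.ext 0 550 [] []] [] (some (3, 0))),
  (.edge 0 1125 149 0 150 0, .def'),
  (.edge 1 0 150 1125 149 0, .walk ⟨1125, 149, 0⟩ [.ext 0 552 [] []] [] (some (3, 0))),
  (.edge 0 1125 150 592 6 663, .walk ⟨592, 6, 0⟩ [.code 1125, .ext 0 464 [0, 3, 1] [], .code 1125, .ext 0 393 [0, 1] [214], .code 1125, .ext 0 550 [] [], .code 1125, .ext 0 552 [] [], .code 1125] [] (some (1, 1))),
  (.edge 1 592 6 1125 150 179, .walk ⟨1125, 150, 0⟩ [.ext 0 554 [] []] [] (some (3, 0))),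
  (.edge 0 110 92 991 150 53, .walk ⟨991, 150, 121⟩ [.code 247, .ext 0 554 [0, 0, 1, 1, 2] [], .code 247, .ext 0 464 [2, 1, 3] [], .code 247, .ext 0 393 [0, 0, 3, 0] [213, 214], .code 247] [] (some (2, 3))),
  (.merge 107 6 700 926, .walk ⟨32, 6, 0⟩ [.code 5, .ext 1 498 [1, 1, 3] [], .merge 547, .code 416, .ext 0 416 [2, 0, 3] [414], .code 827, .ext 1 418 [] [], .code 224, .ext 0 419 [] [], .code 5, .code 827, .code 5, .ext 1 420 [] [], .code 416, .ext 0 403 [3] [], .code 1054, .ext 1 405 [0, 2] [], .code 224, .ext 0 425 [0, 1] [], .code 5, .code 1054] [] (some (5, 0))),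
  (.edge 0 618 6 0 108 913, .walk ⟨1125, 107, 0⟩ [.merge 557] [.ext 0 429 [] []] none),
  (.edge 1 700 6 30 61 913, .walk ⟨0, 107, 0⟩ [.merge 557] [.ext 1 426 [] []] none),
  (.merge 108 57 933 600, .walk ⟨618, 6, 0⟩ [.ext 0 558 [] []] [.ext 0 471 [3, 1] [37]] none),
  (.edge 1 857 57 0 132 1113, .walk ⟨37, 108, 0⟩ [.merge 560] [.ext 1 508 [] []] none),
  (.edge 1 689 57 0 145 1113, .walk ⟨800, 108, 0⟩ [.merge 560] [.ext 1 538 [] []] none),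
  (.merge 119 61 546 997, .walk ⟨700, 6, 0⟩ [.ext 1 463 [1, 1, 3] []] [.ext 1 559 [] []] none),
  (.edge 0 546 61 1054 118 997, .walk ⟨0, 119, 0⟩ [.merge 563] [.ext 0 461 [] []] none),
  (.merge 132 63 930 600, .walk ⟨857, 57, 0⟩ [.ext 1 561 [] []] [.ext 1 301 [1, 1, 3] []] none),
  (.edge 0 744 63 0 133 1113, .walk ⟨224, 132, 0⟩ [.merge 565] [.ext 0 509 [] []] none),
  (.edge 0 244 63 0 136 1113, .walk ⟨764, 132, 0⟩ [.merge 565] [.ext 0 516 [] []] none),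
  (.merge 145 58 9 600, .walk ⟨689, 57, 0⟩ [.ext 1 562 [] []] [.ext 1 206 [0, 2] []] none),
  (.edge 0 244 58 0 146 1113, .walk ⟨224, 145, 0⟩ [.merge 568] [.ext 0 539 [] []] none),
  (.edge 0 744 58 0 148 1113, .walk ⟨764, 145, 0⟩ [.merge 568] [.ext 0 544 [] []] none),
  (.merge 118 98 944 902, .walk ⟨546, 61, 0⟩ [.ext 0 564 [] []] [.ext 0 406 [0, 3, 0, 1] []] none),
  (.edge 1 348 98 416 120 1078, .walk ⟨864, 118, 0⟩ [.merge 571] [.ext 1 469 [] []] none),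
  (.merge 148 146 937 722, .walk ⟨744, 58, 0⟩ [.ext 0 570 [] []] [.ext 0 569 [3] [370, 370]] none),
  (.edge 1 677 146 992 147 1141, .walk ⟨815, 148, 0⟩ [.merge 573] [.ext 1 545 [] []] none),
  (.pair 147 722 1141, .walk ⟨677, 146, 0⟩ [.ext 1 574 [] []] [.ext 1 540 [3] []] none),
  (.edge 1 37 102 0 151 0, .def'),
  (.edge 0 224 151 43 78 1009, .walk ⟨43, 78, 108⟩ [.code 5, .code 827, .code 5, .ext 1 341 [2] [], .code 416, .ext 0 327 [0, 2] [], .code 1054, .ext 1 329 [1, 1, 2, 0] [], .code 224, .ext 0 200 [0, 1, 2, 3] [64], .merge 470, .code 5, .code 1054, .code 5, .ext 1 498 [1, 2, 0] [], .merge 547, .code 416, .ext 0 416 [0, 0, 1, 2] [414], .code 827, .ext 1 576 [] [], .code 224] [] (some (5, 12))),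
  (.edge 1 43 78 224 151 1009, .walk ⟨224, 151, 0⟩ [.ext 0 577 [] []] [] (some (3, 0))),
  (.edge 0 702 129 0 152 0, .def'),
  (.edge 1 0 152 702 129 0, .walk ⟨702, 129, 0⟩ [.ext 0 579 [] []] [] (some (3, 0))),
  (.pair 152 937 965, .walk ⟨821, 129, 0⟩ [.ext 0 579 [] [502]] [.ext 0 579 [3] []] none),
  (.pair 152 931 966, .walk ⟨695, 129, 0⟩ [.ext 0 579 [] [503]] [.ext 0 579 [2, 0] []] none),
  (.edge 0 1125 152 0 153 0, .def'),
  (.edge 1 0 153 1125 152 0, .walk ⟨1125, 152, 0⟩ [.ext 0 583 [] []] [] (some (3, 0))),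
  (.edge 1 824 153 0 154 0, .def'),
  (.edge 0 224 154 1038 85 912, .walk ⟨1038, 85, 912⟩ [.code 815, .ext 1 362 [] [], .code 416, .ext 0 339 [0, 3, 2] [], .code 1054, .ext 1 336 [0, 2, 3] [], .code 780, .ext 1 465 [0, 1, 2] [], .code 221, .ext 0 500 [1, 3, 0] [], .code 32, .ext 0 579 [2, 0, 3] [], .code 1125, .ext 0 583 [] [581, 582], .code 824, .ext 1 585 [] [], .code 224] [] (some (6, 8))),
  (.merge 153 102 5 108, .walk ⟨825, 153, 928⟩ [] [.ext 1 585 [1, 1] [], .code 224, .ext 0 586 [2] [], .code 5, .code 827, .code 5, .ext 1 363 [2] [], .code 416, .ext 0 359 [0, 2] [], .code 1054, .ext 1 329 [0] [], .code 224, .ext 0 200 [0, 1, 3, 2] [64], .merge 470, .code 5, .code 1054, .code 5, .ext 1 498 [0, 2, 1] [], .merge 547, .code 416, .ext 0 416 [1] [414], .code 827] (some (5, 15))),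
  (.edge 1 5 102 1125 152 311, .walk ⟨0, 153, 0⟩ [.merge 587] [.ext 1 584 [] []] none),
  (.merge 152 101 965 108, .walk ⟨5, 102, 0⟩ [.ext 1 588 [] []] [.ext 1 417 [1, 2, 0, 3] []] none),
  (.edge 1 965 101 702 129 311, .walk ⟨0, 152, 0⟩ [.merge 589] [.ext 1 580 [] []] none),
  (.merge 129 61 832 108, .walk ⟨965, 101, 0⟩ [.ext 1 590 [] []] [.ext 1 413 [0, 0, 2] []] none),
  (.edge 0 152 61 0 130 311, .walk ⟨1125, 129, 0⟩ [.merge 591] [.ext 0 504 [] []] none),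
  (.edge 0 709 61 1054 135 796, .walk ⟨781, 129, 0⟩ [.merge 591] [.ext 0 515 [] []] none),
  (.edge 0 652 61 1054 142 311, .walk ⟨517, 129, 0⟩ [.merge 591] [.ext 0 532 [] []] none),
  (.edge 0 1089 61 0 143 311, .walk ⟨65, 129, 0⟩ [.merge 591] [.ext 0 533 [] []] none),
  (.merge 130 79 932 179, .walk ⟨152, 61, 0⟩ [.ext 0 592 [] []] [.ext 0 343 [0, 1, 3, 0] [213]] none),
  (.edge 0 67 79 0 131 663, .walk ⟨1125, 130, 0⟩ [.merge 596] [.ext 0 505 [] []] none),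
  (.edge 0 246 79 1148 76 1095, .walk ⟨761, 130, 0⟩ [.merge 596] [.ext 0 507 [] []] none),
  (.merge 135 98 1 901, .walk ⟨709, 61, 0⟩ [.ext 0 593 [] []] [.ext 0 406 [1, 1] [213]] none)]

/-- Part 6 of the identities. -/
def facts6 : List (Concl × Why) := [
  (.edge 1 1 98 416 134 924, .walk ⟨0, 135, 0⟩ [.merge 599] [.ext 1 513 [] []] none),
  (.edge 1 873 98 416 147 905, .walk ⟨872, 135, 0⟩ [.merge 599] [.ext 1 543 [] []] none),
  (.merge 142 92 928 1073, .walk ⟨652, 61, 0⟩ [.ext 0 594 [] []] [.ext 0 393 [1, 1, 2, 0] [213]] none),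
  (.edge 1 928 92 416 141 636, .walk ⟨0, 142, 0⟩ [.merge 602] [.ext 1 530 [] []] none),
  (.merge 143 76 935 179, .walk ⟨1089, 61, 0⟩ [.ext 0 595 [] []] [.ext 0 335 [0, 3, 0, 1] [213]] none),
  (.edge 0 71 76 0 144 663, .walk ⟨1125, 143, 0⟩ [.merge 604] [.ext 0 534 [] []] none),
  (.edge 0 243 76 231 79 710, .walk ⟨761, 143, 0⟩ [.merge 604] [.ext 0 537 [] []] none),
  (.merge 131 6 65 1135, .walk ⟨67, 79, 0⟩ [.ext 0 597 [] []] [.ext 0 386 [0, 2] []] none),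
  (.edge 0 996 6 1122 79 671, .walk ⟨1125, 131, 0⟩ [.merge 607] [.ext 0 506 [] []] none),
  (.pair 76 430 594, .walk ⟨246, 79, 0⟩ [.ext 0 598 [] []] [.ext 0 382 [2, 0] [], .merge 436] none),
  (.merge 134 97 4 901, .walk ⟨1, 98, 0⟩ [.ext 1 600 [] []] [.ext 1 404 [1, 1] []] none),
  (.edge 0 4 97 815 133 924, .walk ⟨0, 134, 0⟩ [.merge 610] [.ext 0 511 [] []] none),
  (.edge 0 996 97 815 136 905, .walk ⟨992, 134, 0⟩ [.merge 610] [.ext 0 519 [] []] none),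
  (.merge 147 112 996 901, .walk ⟨873, 98, 0⟩ [.ext 1 601 [] []] [.ext 1 444 [0, 2, 3] []] none),
  (.edge 0 996 112 815 146 924, .walk ⟨0, 147, 0⟩ [.merge 613] [.ext 0 541 [] []] none),
  (.edge 0 4 112 677 146 330, .walk ⟨992, 147, 0⟩ [.merge 613] [.ext 0 546 [] [], .merge 573] none),
  (.merge 141 91 20 1073, .walk ⟨928, 92, 0⟩ [.ext 1 603 [] []] [.ext 1 391 [0, 2] []] none),
  (.edge 0 20 91 815 140 636, .walk ⟨0, 141, 0⟩ [.merge 616] [.ext 0 528 [] []] none),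
  (.merge 144 6 84 427, .walk ⟨71, 76, 0⟩ [.ext 0 605 [] []] [.ext 0 437 [2, 1, 3] []] none),
  (.edge 0 1018 6 248 76 873, .walk ⟨1125, 144, 0⟩ [.merge 618] [.ext 0 535 [] []] none),
  (.merge 79 29 712 356, .walk ⟨996, 6, 0⟩ [.ext 0 608 [] []] [.ext 0 250 [0, 3, 2] [], .merge 259] none),
  (.edge 0 971 29 451 76 115, .walk ⟨255, 79, 0⟩ [.merge 620] [.ext 0 382 [] [], .merge 436] none),
  (.edge 0 1015 29 723 6 427, .walk ⟨74, 79, 0⟩ [.merge 620] [.ext 0 386 [] []] none),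
  (.edge 1 303 29 0 80 502, .walk ⟨824, 79, 0⟩ [.merge 620] [.ext 1 345 [] []] none),
  (.edge 1 319 29 0 93 502, .walk ⟨809, 79, 0⟩ [.merge 620] [.ext 1 394 [] []] none),
  (.edge 1 78 29 1126 76 108, .walk ⟨957, 79, 0⟩ [.merge 620] [.ext 1 435 [] []] none),
  (.pair 29 715 1130, .walk ⟨243, 76, 0⟩ [.ext 0 606 [] [], .merge 620] [.ext 0 434 [1, 3, 2] [], .merge 620] none),
  (.merge 61 6 853 657, .walk ⟨248, 76, 0⟩ [.ext 1 336 [1, 2] [609, 609]] [.ext 1 536 [] [], .merge 618] none),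
  (.edge 0 225 6 0 76 185, .walk ⟨1066, 61, 0⟩ [.merge 627] [.ext 0 335 [] []] none),
  (.edge 0 858 6 425 65 392, .walk ⟨14, 61, 0⟩ [.merge 627] [.ext 0 375 [] []] none),
  (.edge 0 674 6 424 12 209, .walk ⟨870, 61, 0⟩ [.merge 627] [.ext 0 379 [] []] none),
  (.edge 0 297 6 1054 92 1070, .walk ⟨401, 61, 0⟩ [.merge 627] [.ext 0 393 [] []] none),
  (.edge 0 592 6 1054 98 28, .walk ⟨1013, 61, 0⟩ [.merge 627] [.ext 0 406 [] []] none),
  (.edge 0 690 6 0 101 185, .walk ⟨886, 61, 0⟩ [.merge 627] [.ext 0 412 [] []] none),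
  (.edge 1 687 6 416 65 660, .walk ⟨874, 61, 0⟩ [.merge 627] [.ext 1 307 [] []] none),
  (.edge 1 847 6 416 128 714, .walk ⟨27, 61, 0⟩ [.merge 627] [.ext 1 493 [] []] none),
  (.merge 133 96 43 901, .walk ⟨4, 97, 0⟩ [.ext 0 611 [] []] [.ext 0 402 [2] []] none),
  (.merge 136 100 43 150, .walk ⟨996, 97, 0⟩ [.ext 0 612 [] []] [.ext 0 411 [2] []] none),
  (.edge 1 43 100 244 63 930, .walk ⟨0, 136, 0⟩ [.merge 637] [.ext 1 517 [] [], .merge 565] none),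
  (.pair 112 1122 722, .walk ⟨722, 147, 0⟩ [.pair 575 0, .merge 613] [.merge 613] none),
  (.merge 146 113 43 157, .walk ⟨996, 112, 0⟩ [.ext 0 614 [] []] [.ext 0 448 [2] []] none),
  (.merge 113 111 936 314, .walk ⟨4, 112, 0⟩ [.ext 0 615 [] [], .merge 640] [.ext 0 442 [2] []] none),
  (.edge 1 936 111 764 99 119, .walk ⟨0, 113, 0⟩ [.merge 641] [.ext 1 446 [] []] none),
  (.merge 140 110 43 173, .walk ⟨20, 91, 0⟩ [.ext 0 617 [] []] [.ext 0 433 [2] []] none),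
  (.edge 1 43 110 224 139 659, .walk ⟨0, 140, 0⟩ [.merge 643] [.ext 1 526 [] []] none),
  (.merge 76 7 717 873, .walk ⟨1018, 6, 0⟩ [.ext 0 619 [] []] [.ext 0 39 [0, 0, 1, 2] []] none),
  (.edge 0 12 7 78 29 424, .walk ⟨1126, 76, 0⟩ [.merge 645] [.ext 0 434 [] [], .merge 620] none),
  (.edge 0 553 7 430 6 240, .walk ⟨765, 76, 0⟩ [.merge 645] [.ext 0 437 [] []] none),
  (.edge 1 319 7 0 77 873, .walk ⟨824, 76, 0⟩ [.merge 645] [.ext 1 338 [] []] none),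
  (.edge 1 767 7 971 29 429, .walk ⟨451, 76, 0⟩ [.merge 645] [.ext 1 438 [] [], .merge 620] none),
  (.merge 80 54 961 695, .walk ⟨303, 29, 0⟩ [.ext 1 623 [] []] [.ext 1 260 [0, 1, 2, 3] [626]] none),
  (.edge 0 1149 54 0 81 211, .walk ⟨224, 80, 0⟩ [.merge 650] [.ext 0 346 [] []] none),
  (.edge 0 76 54 0 86 211, .walk ⟨764, 80, 0⟩ [.merge 650] [.ext 0 364 [] []] none),
  (.merge 93 10 996 666, .walk ⟨319, 29, 0⟩ [.ext 1 624 [] []] [.ext 1 135 [1] [626], .merge 291] none),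
  (.edge 0 455 10 0 94 188, .walk ⟨224, 93, 0⟩ [.merge 653] [.ext 0 395 [] []] none),
  (.pair 7 1135 1132, .walk ⟨225, 6, 0⟩ [.ext 0 628 [] [], .merge 645] [.ext 0 39 [0, 0] []] none),
  (.merge 101 65 921 953, .walk ⟨858, 6, 0⟩ [.ext 0 474 [0, 2, 1, 3] [], .merge 547] [.ext 0 629 [] []] none),
  (.edge 0 412 65 0 102 944, .walk ⟨1125, 101, 0⟩ [.merge 656] [.ext 0 416 [] []] none),
  (.edge 0 306 65 840 6 163, .walk ⟨476, 101, 0⟩ [.merge 656] [.ext 0 548 [] []] none),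
  (.edge 0 579 65 0 137 393, .walk ⟨212, 101, 0⟩ [.merge 656] [.ext 0 549 [] []] none),
  (.edge 1 921 65 690 6 398, .walk ⟨0, 101, 0⟩ [.merge 656] [.ext 1 413 [] [], .merge 627] none),
  (.merge 12 6 1110 817, .walk ⟨674, 6, 0⟩ [.ext 0 630 [] []] [.ext 0 472 [0, 2, 1, 2] [], .merge 627] none),
  (.edge 0 1110 6 815 11 1047, .walk ⟨0, 12, 0⟩ [.merge 661] [.ext 0 59 [] []] none),
  (.merge 92 57 801 710, .walk ⟨297, 6, 0⟩ [.ext 0 631 [] []] [.ext 0 471 [2, 1, 2] [37]] none),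
  (.edge 0 758 57 0 149 1150, .walk ⟨151, 92, 0⟩ [.merge 663] [.ext 0 550 [] []] none),
  (.edge 0 1135 57 991 150 1095, .walk ⟨110, 92, 0⟩ [.merge 663] [.ext 0 556 [] []] none),
  (.merge 123 98 858 449, .walk ⟨592, 6, 0⟩ [.ext 0 487 [2, 1, 2] [38], .merge 495] [.ext 0 632 [] []] none),
  (.edge 1 937 98 0 126 461, .walk ⟨53, 123, 0⟩ [.merge 666] [.ext 1 488 [] []] none),
  (.merge 65 13 93 1020, .walk ⟨687, 6, 0⟩ [.ext 1 634 [] []] [.ext 1 473 [0, 0, 1, 2, 3] []] none),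
  (.edge 0 93 13 815 64 1004, .walk ⟨0, 65, 0⟩ [.merge 668] [.ext 0 305 [] []] none),
  (.edge 0 160 13 0 102 1151, .walk ⟨412, 65, 0⟩ [.merge 668] [.ext 0 657 [] []] none),
  (.edge 0 687 13 840 6 332, .walk ⟨306, 65, 0⟩ [.merge 668] [.ext 0 658 [] []] none),
  (.edge 0 847 13 0 137 873, .walk ⟨579, 65, 0⟩ [.merge 668] [.ext 0 659 [] []] none),
  (.edge 1 880 13 690 6 878, .walk ⟨921, 65, 0⟩ [.merge 668] [.ext 1 660 [] []] none),
  (.merge 128 13 618 396, .walk ⟨847, 6, 0⟩ [.ext 1 635 [] []] [.ext 1 498 [0, 1, 3, 2] [], .merge 547, .merge 656, .merge 668] none),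
  (.edge 0 618 13 815 127 412, .walk ⟨0, 128, 0⟩ [.merge 674] [.ext 0 491 [] []] none),
  (.merge 115 98 14 363, .walk ⟨16, 112, 0⟩ [.ext 0 453 [] []] [.ext 0 443 [1, 3, 0] [639]] none),
  (.edge 1 14 98 764 105 485, .walk ⟨0, 115, 0⟩ [.merge 676] [.ext 1 451 [] []] none),
  (.merge 116 98 6 873, .walk ⟨1008, 112, 0⟩ [.ext 0 457 [] []] [.ext 0 443 [0, 0, 1, 2] [639, 639]] none),
  (.edge 1 6 98 764 103 873, .walk ⟨0, 116, 0⟩ [.merge 678] [.ext 1 455 [] []] none),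
  (.merge 99 95 996 314, .walk ⟨936, 111, 0⟩ [.ext 1 642 [] []] [.ext 1 440 [1, 1, 3] []] none),
  (.edge 0 996 95 37 66 119, .walk ⟨0, 99, 0⟩ [.merge 680] [.ext 0 408 [] []] none),
  (.merge 77 29 943 720, .walk ⟨767, 7, 0⟩ [.ext 1 648 [0, 1, 1, 1] [41, 42]] [.ext 1 649 [] []] none),
  (.edge 0 762 29 0 78 1125, .walk ⟨224, 77, 0⟩ [.merge 682] [.ext 0 340 [] []] none),
  (.pair 94 936 1013, .walk ⟨981, 10, 0⟩ [.ext 0 654 [] [55]] [.ext 0 654 [1, 1, 3] []] none),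
  (.merge 98 11 203 879, .walk ⟨1110, 6, 0⟩ [.ext 0 487 [1, 3] [37, 38], .merge 495, .merge 666] [.ext 0 662 [] []] none),
  (.edge 1 203 11 416 97 887, .walk ⟨0, 98, 0⟩ [.merge 685] [.ext 1 404 [] []] none),
  (.edge 1 451 11 416 112 885, .walk ⟨864, 98, 0⟩ [.merge 685] [.ext 1 444 [] []] none),
  (.edge 1 969 11 416 120 132, .walk ⟨348, 98, 0⟩ [.merge 685] [.ext 1 572 [] []] none),
  (.merge 126 97 747 449, .walk ⟨937, 98, 0⟩ [.ext 1 667 [] []] [.ext 1 404 [3] []] none),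
  (.edge 0 16 97 32 127 82, .walk ⟨764, 126, 0⟩ [.merge 689] [.ext 0 499 [] []] none),
  (.merge 73 64 1040 601, .walk ⟨93, 13, 0⟩ [.ext 0 330 [0, 3, 2] [66, 64]] [.ext 0 669 [] []] none),
  (.edge 1 1040 64 416 72 1112, .walk ⟨0, 73, 0⟩ [.merge 691] [.ext 1 328 [] []] none),
  (.edge 1 984 64 416 84 1131, .walk ⟨872, 73, 0⟩ [.merge 691] [.ext 1 360 [] []] none),
  (.merge 102 64 815 1113, .walk ⟨160, 13, 0⟩ [.ext 0 670 [] []] [.ext 0 330 [0, 3, 2] [], .merge 691] none),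
  (.edge 1 1049 64 0 103 600, .walk ⟨824, 102, 0⟩ [.merge 694] [.ext 1 418 [] []] none),
  (.edge 1 977 64 0 105 600, .walk ⟨60, 102, 0⟩ [.merge 694] [.ext 1 421 [] []] none),
  (.edge 1 969 64 0 151 600, .walk ⟨37, 102, 0⟩ [.merge 694] [.ext 1 576 [] []] none),
  (.merge 68 6 32 874, .walk ⟨687, 13, 0⟩ [.ext 0 319 [2, 0, 1] [64]] [.ext 0 671 [] []] none),
  (.edge 0 1090 6 0 69 867, .walk ⟨1125, 68, 0⟩ [.merge 698] [.ext 0 322 [] []] none)]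

/-- Part 7 of the identities. -/
def facts7 : List (Concl × Why) := [
  (.merge 21 6 697 810, .walk ⟨880, 13, 0⟩ [.ext 1 294 [0, 1, 1, 2] [64]] [.ext 1 673 [] []] none),
  (.edge 0 912 6 43 11 827, .walk ⟨224, 21, 0⟩ [.merge 700] [.ext 0 103 [] [], .merge 257] none),
  (.merge 127 64 850 902, .walk ⟨618, 13, 0⟩ [.ext 0 675 [] []] [.ext 0 330 [0, 1, 1, 1] [65, 66], .merge 691] none),
  (.merge 105 97 985 363, .walk ⟨14, 98, 0⟩ [.ext 1 677 [] []] [.ext 1 404 [1, 1, 1] []] none),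
  (.merge 103 97 546 873, .walk ⟨6, 98, 0⟩ [.ext 1 679 [] []] [.ext 1 404 [0, 1, 2, 3] []] none),
  (.merge 78 6 726 968, .walk ⟨762, 29, 0⟩ [.ext 0 683 [] []] [.ext 0 622 [1, 2, 0, 3] [626, 626]] none),
  (.edge 1 599 6 224 151 560, .walk ⟨43, 78, 0⟩ [.merge 705] [.ext 1 578 [] []] none),
  (.pair 91 71 1013, .walk ⟨676, 94, 0⟩ [.ext 1 396 [] [684]] [.ext 1 396 [1, 1, 3] []] none),
  (.merge 120 10 459 150, .walk ⟨969, 11, 0⟩ [.ext 1 688 [] []] [.ext 1 57 [0, 0, 2, 1] []] none),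
  (.edge 0 459 10 43 94 132, .walk ⟨0, 120, 0⟩ [.merge 708] [.ext 0 467 [] []] none),
  (.merge 106 64 197 727, .walk ⟨16, 97, 0⟩ [.ext 0 424 [] []] [.ext 0 690 [] [], .merge 702] none),
  (.merge 97 72 1147 650, .walk ⟨1049, 64, 0⟩ [.ext 1 695 [] [], .merge 704] [.ext 1 692 [0, 2, 3] []] none),
  (.edge 0 1147 72 815 96 165, .walk ⟨0, 97, 0⟩ [.merge 711] [.ext 0 402 [] []] none),
  (.edge 0 965 72 203 11 1127, .walk ⟨416, 97, 0⟩ [.merge 711] [.ext 0 403 [] [], .merge 685] none),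
  (.edge 0 79 72 815 100 1098, .walk ⟨992, 97, 0⟩ [.merge 711] [.ext 0 411 [] []] none),
  (.edge 0 1130 72 958 64 1128, .walk ⟨16, 97, 0⟩ [.merge 711] [.ext 0 424 [] [], .merge 710] none),
  (.merge 84 72 938 1132, .walk ⟨977, 64, 0⟩ [.ext 1 693 [0, 2, 3] []] [.ext 1 696 [] [], .merge 703, .merge 711] none),
  (.edge 0 733 72 815 86 44, .walk ⟨1008, 84, 0⟩ [.merge 716] [.ext 0 367 [] []] none),
  (.merge 151 63 1017 1113, .walk ⟨969, 64, 0⟩ [.ext 1 697 [] []] [.ext 1 303 [0, 0, 2, 1] []] none),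
  (.edge 0 459 63 599 6 223, .walk ⟨224, 151, 0⟩ [.merge 718] [.ext 0 577 [] [], .merge 705] none),
  (.merge 69 11 883 10, .walk ⟨1090, 6, 0⟩ [.ext 0 699 [] []] [.ext 0 487 [1, 3, 2] [37], .merge 495, .merge 666, .merge 685] none),
  (.edge 1 985 11 0 70 10, .walk ⟨824, 69, 0⟩ [.merge 720] [.ext 1 323 [] []] none),
  (.merge 57 11 1037 452, .walk ⟨912, 6, 0⟩ [.ext 0 471 [0, 0, 2] [37, 38]] [.ext 0 701 [] []] none),
  (.edge 0 143 11 0 149 758, .walk ⟨758, 57, 0⟩ [.merge 722] [.ext 0 664 [] []] none),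
  (.edge 0 101 11 991 150 616, .walk ⟨1135, 57, 0⟩ [.merge 722] [.ext 0 665 [] []] none),
  (.edge 1 31 11 0 58 459, .walk ⟨824, 57, 0⟩ [.merge 722] [.ext 1 206 [] []] none),
  (.edge 1 879 11 0 63 459, .walk ⟨60, 57, 0⟩ [.merge 722] [.ext 1 301 [] []] none),
  (.merge 150 63 1007 758, .walk ⟨599, 6, 0⟩ [.ext 1 555 [0, 1, 3, 2] []] [.ext 1 706 [] [], .merge 718] none),
  (.edge 1 1007 63 1125 149 752, .walk ⟨0, 150, 0⟩ [.merge 727] [.ext 1 553 [] []] none),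
  (.merge 110 11 889 1067, .walk ⟨16, 91, 0⟩ [.ext 0 433 [] []] [.ext 0 390 [0, 0, 1, 2] [707], .merge 663, .merge 722] none),
  (.edge 1 1037 11 224 139 862, .walk ⟨43, 110, 0⟩ [.merge 729] [.ext 1 644 [] []] none),
  (.pair 94 687 279, .walk ⟨459, 10, 0⟩ [.ext 0 709 [] []] [.ext 0 654 [0, 0, 0] []] none),
  (.merge 96 81 936 1033, .walk ⟨1147, 72, 0⟩ [.ext 0 712 [] []] [.ext 0 349 [1, 1, 3] []] none),
  (.edge 1 936 81 224 95 823, .walk ⟨0, 96, 0⟩ [.merge 732] [.ext 1 400 [] []] none),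
  (.merge 71 11 461 1127, .walk ⟨965, 72, 0⟩ [.ext 0 326 [1, 3, 0] []] [.ext 0 713 [] []] none),
  (.merge 75 64 205 1093, .walk ⟨1130, 72, 0⟩ [.ext 0 334 [2, 3, 0] []] [.ext 0 715 [] []] none),
  (.merge 100 86 936 708, .walk ⟨733, 72, 0⟩ [.ext 0 714 [1, 1, 3] []] [.ext 0 717 [] []] none),
  (.edge 1 837 86 244 63 1009, .walk ⟨43, 100, 0⟩ [.merge 736] [.ext 1 638 [] []] none),
  (.merge 112 70 744 879, .walk ⟨985, 11, 0⟩ [.ext 1 687 [1, 1, 3] []] [.ext 1 721 [] []] none),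
  (.edge 0 744 70 815 111 887, .walk ⟨0, 112, 0⟩ [.merge 738] [.ext 0 442 [] []] none),
  (.merge 70 58 967 450, .walk ⟨31, 11, 0⟩ [.ext 1 687 [0, 1, 1, 1] [], .merge 738] [.ext 1 725 [] []] none),
  (.edge 0 94 58 815 111 193, .walk ⟨744, 70, 0⟩ [.merge 740] [.ext 0 739 [] []] none),
  (.merge 139 6 698 465, .walk ⟨1037, 11, 0⟩ [.ext 1 730 [] []] [.ext 1 258 [0, 0, 2] [], .merge 700] none),
  (.edge 0 698 6 824 138 467, .walk ⟨0, 139, 0⟩ [.merge 742] [.ext 0 524 [] []] none),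
  (.merge 95 54 745 938, .walk ⟨936, 81, 0⟩ [.ext 1 733 [] []] [.ext 1 347 [1, 1, 3] [], .merge 650] none),
  (.edge 0 745 54 677 37 938, .walk ⟨0, 95, 0⟩ [.merge 744] [.ext 0 398 [] []] none),
  (.edge 0 20 54 0 111 938, .walk ⟨764, 95, 0⟩ [.merge 744] [.ext 0 439 [] []] none),
  (.edge 0 241 54 37 66 1082, .walk ⟨996, 95, 0⟩ [.merge 744] [.ext 0 681 [] []] none),
  (.pair 111 827 816, .walk ⟨94, 58, 0⟩ [.ext 0 741 [] []] [.ext 0 569 [0, 0, 0, 1] [370, 370], .merge 640, .merge 641] none),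
  (.merge 138 13 854 198, .walk ⟨698, 6, 0⟩ [.ext 0 743 [] []] [.ext 0 633 [2, 0] [], .merge 656, .merge 668] none),
  (.edge 1 854 13 1125 137 688, .walk ⟨0, 138, 0⟩ [.merge 749] [.ext 1 522 [] []] none),
  (.merge 55 37 814 938, .walk ⟨745, 54, 0⟩ [.ext 0 198 [1, 1, 3] []] [.ext 0 745 [] []] none),
  (.edge 1 16 37 973 38 473, .walk ⟨1054, 55, 0⟩ [.merge 751] [.ext 1 199 [] []] none),
  (.merge 66 62 962 684, .walk ⟨241, 54, 0⟩ [.ext 0 747 [] []] [.ext 0 300 [1] []] none),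
  (.edge 0 253 62 958 62 473, .walk ⟨1125, 66, 0⟩ [.merge 753] [.ext 0 312 [] [], .merge 316, .merge 753] none),
  (.edge 0 761 62 310 8 895, .walk ⟨76, 66, 0⟩ [.merge 753] [.ext 0 317 [] []] none),
  (.edge 1 958 62 253 62 472, .walk ⟨454, 66, 0⟩ [.merge 753] [.ext 1 318 [] [], .merge 753] none),
  (.merge 137 1 1066 21, .walk ⟨854, 13, 0⟩ [.ext 1 750 [] []] [.ext 1 62 [0, 0, 1, 2, 3] []] none),
  (.merge 38 13 502 323, .walk ⟨16, 37, 0⟩ [.ext 1 752 [] []] [.ext 1 356 [0, 1] []] none),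
  (.edge 1 844 13 863 13 930, .walk ⟨571, 38, 0⟩ [.merge 758] [.ext 1 309 [] []] none),
  (.edge 0 631 64 0 155 0, .def'),
  (.edge 0 170 64 421 63 248, .walk ⟨421, 63, 836⟩ [.code 247, .ext 0 719 [0, 0, 2, 1] [], .code 247, .ext 0 474 [1, 2] [], .merge 547, .merge 656, .merge 668, .code 247, .ext 0 330 [2, 1, 2] [64, 66], .merge 691, .code 247] [] (some (2, 3))),
  (.edge 0 990 11 0 156 0, .def'),
  (.edge 0 1125 156 0 157 0, .def'),
  (.edge 1 824 157 0 158 0, .def'),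
  (.edge 0 0 158 824 157 0, .walk ⟨824, 157, 0⟩ [.ext 1 764 [] []] [] (some (4, 0))),
  (.edge 0 224 158 22 81 444, .walk ⟨22, 81, 587⟩ [.code 815, .ext 1 348 [0, 0, 1] [], .code 416, .ext 0 342 [0, 1, 1, 2] [], .merge 705, .code 1054, .ext 1 385 [0, 0, 0, 1] [], .merge 436, .merge 645, .code 780, .ext 1 40 [0, 3, 0, 1] [42, 655, 655], .code 221, .ext 0 487 [0, 0, 3] [37, 38], .merge 495, .merge 666, .merge 685, .code 32, .ext 0 762 [] [], .code 1125, .ext 0 763 [] [], .code 824, .ext 1 764 [] [], .code 224] [] (some (6, 8))),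
  (.merge 156 10 416 939, .walk ⟨566, 10, 198⟩ [.ext 0 292 [0, 0, 3] [], .code 824, .ext 1 260 [0, 0, 0] [134], .code 224, .ext 0 300 [2, 1, 2] [], .code 815, .ext 1 299 [0, 0, 2, 1] [297], .code 416, .ext 0 197 [0, 2] [], .merge 259, .code 1054, .ext 1 625 [] [626, 626], .merge 645, .code 780, .ext 1 40 [0, 1, 3, 0] [42, 655], .code 221, .ext 0 487 [3] [37, 38], .merge 495, .merge 666, .merge 685, .code 32, .ext 0 762 [0, 2] [], .code 1125] [] (some (6, 13))),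
  (.edge 0 984 10 0 157 939, .walk ⟨1125, 156, 0⟩ [.merge 767] [.ext 0 763 [] []] none),
  (.merge 157 94 974 910, .walk ⟨984, 10, 0⟩ [.ext 0 768 [] []] [.ext 0 654 [3, 0] []] none),
  (.edge 1 54 94 0 158 920, .walk ⟨824, 157, 0⟩ [.merge 769] [.ext 1 764 [] []] none),
  (.merge 37 9 76 971, .walk ⟨244, 9, 1046⟩ [.ext 0 155 [1, 1, 2, 0] [], .code 815, .ext 1 397 [0, 0] [], .merge 744, .code 416, .ext 0 197 [1, 1, 3] [], .merge 259, .code 1054, .ext 1 625 [0, 0] [626, 626], .merge 645, .code 780, .ext 1 40 [3, 1] [42, 655], .code 221, .ext 0 487 [2, 3, 0] [37, 38], .merge 495, .merge 666, .merge 685, .code 32, .ext 0 762 [2, 3, 0] [], .merge 767, .code 1125, .ext 0 54 [1, 2, 3] [], .code 824, .ext 1 353 [0, 1, 3] [], .merge 354, .code 224] [] (some (6, 9))),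
  (.edge 0 1011 9 502 13 212, .walk ⟨1125, 37, 0⟩ [.merge 771] [.ext 0 158 [] [], .merge 758] none),
  (.edge 0 973 9 953 9 928, .walk ⟨748, 37, 0⟩ [.merge 771] [.ext 0 355 [] []] none),
  (.edge 1 310 9 745 54 472, .walk ⟨677, 37, 0⟩ [.merge 771] [.ext 1 397 [] [], .merge 744] none),
  (.edge 0 78 158 986 86 967, .walk ⟨986, 86, 875⟩ [.code 815, .ext 1 737 [1, 3] [], .code 416, .ext 0 719 [2, 3, 0] [], .code 1054, .ext 1 385 [0, 0, 1, 1] [], .merge 436, .merge 645, .code 780, .ext 1 40 [0, 1, 2, 3] [42, 41], .code 221, .ext 0 487 [0, 3, 0] [37, 38], .merge 495, .merge 666, .merge 685, .code 32, .ext 0 762 [0, 0] [], .merge 767, .code 1125, .ext 0 654 [2, 3, 0] [], .code 824, .ext 1 770 [0, 0, 1, 2] [731, 731], .code 224] [] (some (6, 8))),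
  (.edge 1 867 81 0 159 0, .def'),
  (.edge 0 0 159 867 81 0, .walk ⟨867, 81, 0⟩ [.ext 1 776 [] []] [] (some (4, 0))),
  (.edge 0 416 159 703 64 647, .walk ⟨703, 64, 48⟩ [.code 1054, .ext 1 693 [2, 1, 3] [], .merge 716, .code 224, .ext 0 342 [0, 1, 2] [], .merge 705, .code 5, .code 1054, .code 5, .ext 1 385 [0, 1, 1] [], .merge 436, .merge 645, .code 416, .ext 0 647 [0, 3, 0, 1] [655], .code 827, .ext 1 555 [0, 3, 0, 1] [38], .merge 727, .code 224, .ext 0 566 [1, 3] [], .merge 636, .merge 732, .code 5, .code 827, .code 5, .ext 1 776 [] [], .code 416] [] (some (5, 6))),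
  (.edge 1 703 64 416 159 170, .walk ⟨416, 159, 0⟩ [.ext 0 778 [] []] [] (some (3, 0))),
  (.edge 0 1054 11 0 160 0, .def'),
  (.edge 0 1125 160 0 161 0, .def'),
  (.edge 1 824 161 0 162 0, .def'),
  (.edge 0 224 162 0 163 0, .def'),
  (.edge 1 815 163 0 164 0, .def'),
  (.edge 0 416 164 0 165 0, .def'),
  (.edge 1 1054 165 300 29 817, .walk ⟨300, 29, 3⟩ [.code 780, .ext 1 133 [0, 0, 1, 2, 3] [], .merge 251, .code 221, .ext 0 487 [0, 0, 3, 2] [], .merge 495, .merge 666, .merge 685, .code 32, .ext 0 780 [] [], .code 1125, .ext 0 781 [] [], .code 824, .ext 1 782 [] [], .code 224, .ext 0 783 [] [], .code 815, .ext 1 784 [] [], .code 416, .ext 0 785 [] [], .code 1054] [] (some (6, 2))),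
  (.edge 0 300 29 1054 165 1047, .walk ⟨1054, 165, 0⟩ [.ext 1 786 [] []] [] (some (4, 0))),
  (.edge 0 69 160 0 166 0, .def'),
  (.edge 1 824 166 0 167 0, .def'),
  (.edge 0 224 167 0 168 0, .def'),
  (.edge 1 815 168 0 169 0, .def'),
  (.edge 0 416 169 0 170 0, .def'),
  (.edge 1 1054 170 309 29 817, .walk ⟨309, 29, 3⟩ [.code 780, .ext 1 133 [1, 2, 3] [], .merge 251, .code 221, .ext 0 487 [3, 2] [], .merge 495, .merge 666, .merge 685, .code 32, .ext 0 780 [0, 2] [], .code 1125, .ext 0 788 [] [], .code 824, .ext 1 789 [] [], .code 224, .ext 0 790 [] [], .code 815, .ext 1 791 [] [], .code 416, .ext 0 792 [] [], .code 1054] [] (some (6, 2))),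
  (.edge 0 309 29 1054 170 1047, .walk ⟨1054, 170, 0⟩ [.ext 1 793 [] []] [] (some (4, 0))),
  (.edge 0 956 159 200 86 795, .walk ⟨200, 86, 708⟩ [.code 1054, .ext 1 366 [1, 1, 2, 0] [], .merge 716, .code 224, .ext 0 342 [0, 3, 0, 1] [], .merge 705, .code 5, .code 1054, .code 5, .ext 1 385 [0, 0, 0, 1, 1] [], .merge 436, .merge 645, .code 416, .ext 0 647 [0, 1, 3, 0] [655], .code 827, .ext 1 555 [2, 0, 1] [38], .merge 727, .code 224, .ext 0 302 [1, 3] [], .code 5, .code 827, .code 5, .ext 1 779 [0, 3, 2] [], .code 416] [] (some (5, 6))),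
  (.edge 1 51 81 236 159 194, .walk ⟨236, 159, 844⟩ [.code 416, .ext 0 795 [0, 3, 2] [], .code 1054, .ext 1 366 [0, 1, 1, 2] [], .merge 716, .code 224, .ext 0 342 [0, 1, 3, 0] [], .merge 705, .code 5, .code 1054, .code 5, .ext 1 385 [3, 2] [], .merge 436, .merge 645, .code 416, .ext 0 646 [2, 0] [], .code 827, .ext 1 260 [1, 1] [626], .code 224, .ext 0 651 [1, 3, 0] [], .code 5, .code 827, .code 5] [] (some (5, 8))),
  (.edge 0 236 159 51 81 681, .walk ⟨51, 81, 0⟩ [.ext 1 796 [] []] [] (some (4, 0))),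
  (.edge 1 822 86 992 159 239, .walk ⟨992, 159, 370⟩ [.code 416, .ext 0 778 [0, 3, 2] [], .code 1054, .ext 1 693 [1, 3, 2] [], .merge 716, .code 224, .ext 0 342 [1, 2, 0] [], .merge 705, .code 5, .code 1054, .code 5, .ext 1 385 [0, 0, 3, 2] [], .merge 436, .merge 645, .code 416, .ext 0 646 [0, 2] [], .code 827, .ext 1 260 [0, 2, 3] [626], .code 224, .ext 0 652 [0, 1, 2, 3] [], .code 5, .code 827, .code 5] [] (some (5, 8))),
  (.edge 0 992 159 822 86 443, .walk ⟨822, 86, 0⟩ [.ext 1 798 [] []] [] (some (4, 0)))]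

/-- Part 8 of the identities. -/
def facts8 : List (Concl × Why) := [
  (.edge 0 344 11 26 63 459, .walk ⟨26, 63, 844⟩ [.ext 0 719 [0, 2, 1, 2] [], .ext 0 487 [0, 0, 1, 1, 2] [38], .merge 495, .merge 666, .merge 685] [] (some (0, 1))),
  (.edge 0 913 11 0 171 0, .def'),
  (.edge 1 0 171 913 11 0, .walk ⟨913, 11, 0⟩ [.ext 0 801 [] []] [] (some (3, 0))),
  (.edge 0 1125 171 447 72 558, .walk ⟨447, 72, 778⟩ [.code 1125, .ext 0 342 [0, 1, 3] [], .merge 705, .code 1125, .ext 0 472 [0, 0, 0, 1, 1] [], .merge 627, .code 1125, .ext 0 487 [0, 0, 1, 1, 2] [37], .merge 495, .merge 666, .merge 685, .code 1125, .ext 0 801 [] [], .code 1125] [] (some (1, 5))),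
  (.edge 1 447 72 1125 171 559, .walk ⟨1125, 171, 0⟩ [.ext 0 803 [] []] [] (some (3, 0))),
  (.edge 0 761 171 394 13 848, .walk ⟨394, 13, 325⟩ [.code 247, .ext 0 319 [1] [64], .merge 698, .code 247, .ext 0 487 [0, 0, 1, 1, 2] [37, 38], .merge 495, .merge 666, .merge 685, .code 247, .ext 0 801 [0, 3, 0, 1] [], .code 247] [] (some (2, 3))),
  (.edge 0 327 11 0 172 0, .def'),
  (.edge 0 1125 172 0 173 0, .def'),
  (.edge 1 824 173 0 174 0, .def'),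
  (.edge 0 224 174 0 175 0, .def'),
  (.edge 1 815 175 0 176 0, .def'),
  (.edge 0 416 176 0 177 0, .def'),
  (.edge 1 1054 177 483 11 825, .walk ⟨483, 11, 1047⟩ [.code 780, .ext 1 58 [2, 1, 3] [], .merge 661, .code 221, .ext 0 471 [0, 2, 1] [], .merge 722, .code 32, .ext 0 806 [] [], .code 1125, .ext 0 807 [] [], .code 824, .ext 1 808 [] [], .code 224, .ext 0 809 [] [], .code 815, .ext 1 810 [] [], .code 416, .ext 0 811 [] [], .code 1054] [] (some (6, 2))),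
  (.edge 0 483 11 1054 177 1044, .walk ⟨1054, 177, 0⟩ [.ext 1 812 [] []] [] (some (4, 0))),
  (.edge 0 69 172 0 178 0, .def'),
  (.edge 1 824 178 0 179 0, .def'),
  (.edge 0 224 179 0 180 0, .def'),
  (.edge 1 815 180 0 181 0, .def'),
  (.edge 0 416 181 45 149 926, .walk ⟨45, 149, 148⟩ [.code 1054, .ext 1 551 [0, 0, 2, 1] [], .merge 663, .merge 722, .code 780, .ext 1 58 [1, 3, 2] [], .merge 661, .code 221, .ext 0 471 [2, 0, 1] [], .merge 722, .code 32, .ext 0 806 [0, 2] [], .code 1125, .ext 0 814 [] [], .code 824, .ext 1 815 [] [], .code 224, .ext 0 816 [] [], .code 815, .ext 1 817 [] [], .code 416] [] (some (6, 4))),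
  (.merge 54 11 470 566, .walk ⟨683, 11, 1047⟩ [.ext 1 58 [1, 3] [], .merge 661, .code 221, .ext 0 471 [0, 1, 1, 1] [38], .merge 722, .code 32, .ext 0 762 [2, 0, 1] [], .merge 767, .code 1125, .ext 0 56 [0, 3] [], .code 824, .ext 1 686 [0, 0, 0, 1] [], .merge 711, .code 224, .ext 0 327 [0, 0, 3, 2] [], .merge 691, .code 815, .ext 1 779 [1, 1, 2] [], .code 416, .ext 0 797 [3, 1] [], .code 1054, .ext 1 347 [0, 0, 3, 2] [], .merge 650, .code 780] [] (some (6, 1))),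
  (.edge 0 470 11 822 29 973, .walk ⟨0, 54, 0⟩ [.merge 819] [.ext 0 197 [] [], .merge 259] none),
  (.edge 0 1006 11 628 9 1138, .walk ⟨416, 54, 0⟩ [.merge 819] [.ext 0 198 [] [], .merge 751, .merge 771] none),
  (.edge 0 430 11 830 62 763, .walk ⟨992, 54, 0⟩ [.merge 819] [.ext 0 300 [] []] none),
  (.edge 0 762 11 0 81 188, .walk ⟨1149, 54, 0⟩ [.merge 819] [.ext 0 651 [] []] none),
  (.edge 0 227 11 0 86 188, .walk ⟨76, 54, 0⟩ [.merge 819] [.ext 0 652 [] []] none),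
  (.edge 0 451 11 0 111 229, .walk ⟨20, 54, 0⟩ [.merge 819] [.ext 0 746 [] []] none),
  (.merge 111 10 719 739, .walk ⟨451, 11, 0⟩ [.ext 0 825 [] []] [.ext 0 762 [0, 3] [], .merge 767] none),
  (.pair 10 816 1044, .walk ⟨827, 111, 0⟩ [.pair 748 0, .merge 826] [.merge 826] none),
  (.edge 0 166 11 0 182 0, .def'),
  (.edge 0 1125 182 451 171 10, .walk ⟨451, 171, 1052⟩ [.code 1125, .ext 0 805 [2] [], .code 1125, .ext 0 319 [0, 0, 0, 1] [64], .merge 698, .code 1125, .ext 0 487 [0, 1, 1] [], .merge 495, .merge 666, .merge 685, .code 1125, .ext 0 828 [] [], .code 1125] [] (some (1, 5))),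
  (.merge 182 72 91 271, .walk ⟨980, 72, 539⟩ [.ext 0 342 [0, 1, 2, 3] [], .merge 705, .code 247, .ext 0 472 [0, 0, 1, 1] [], .merge 627, .code 247, .ext 0 487 [0, 1, 1] [], .merge 495, .merge 666, .merge 685, .code 247, .ext 0 828 [0, 3, 0, 1] [], .code 247] [] (some (2, 4))),
  (.edge 0 1000 72 451 171 541, .walk ⟨1125, 182, 0⟩ [.merge 830] [.ext 0 829 [] []] none),
  (.merge 171 64 476 211, .walk ⟨1000, 72, 0⟩ [.ext 0 831 [] []] [.ext 0 334 [2, 0] [], .merge 735] none),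
  (.edge 0 759 64 447 72 643, .walk ⟨1125, 171, 0⟩ [.merge 832] [.ext 0 803 [] []] none),
  (.edge 0 1134 64 394 13 988, .walk ⟨761, 171, 0⟩ [.merge 832] [.ext 0 805 [] []] none),
  (.edge 1 476 64 913 11 695, .walk ⟨0, 171, 0⟩ [.merge 832] [.ext 1 802 [] []] none),
  (.merge 63 11 675 695, .walk ⟨476, 64, 0⟩ [.ext 1 303 [0, 0, 0, 1, 1] []] [.ext 1 835 [] []] none),
  (.edge 0 185 11 32 64 917, .walk ⟨764, 63, 0⟩ [.merge 836] [.ext 0 368 [] []] none),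
  (.edge 0 173 11 837 81 1037, .walk ⟨744, 63, 0⟩ [.merge 836] [.ext 0 566 [] [], .merge 636, .merge 732] none),
  (.edge 0 906 11 837 86 486, .walk ⟨244, 63, 0⟩ [.merge 836] [.ext 0 567 [] [], .merge 637, .merge 736] none),
  (.edge 0 872 11 599 6 818, .walk ⟨459, 63, 0⟩ [.merge 836] [.ext 0 719 [] []] none),
  (.edge 1 296 11 1125 149 1107, .walk ⟨1007, 63, 0⟩ [.merge 836] [.ext 1 728 [] []] none),
  (.merge 81 72 142 997, .walk ⟨173, 11, 0⟩ [.ext 0 838 [] []] [.ext 0 828 [1, 1, 2, 0] [], .merge 830] none),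
  (.edge 1 616 72 0 159 997, .walk ⟨867, 81, 0⟩ [.merge 842] [.ext 1 776 [] []] none),
  (.edge 1 73 72 236 159 124, .walk ⟨51, 81, 0⟩ [.merge 842] [.ext 1 796 [] []] none),
  (.merge 172 6 605 818, .walk ⟨872, 11, 0⟩ [.ext 0 806 [2, 3, 0] []] [.ext 0 840 [] []] none),
  (.edge 0 55 6 0 173 1052, .walk ⟨1125, 172, 0⟩ [.merge 845] [.ext 0 807 [] []] none),
  (.edge 0 799 6 0 178 1052, .walk ⟨69, 172, 0⟩ [.merge 845] [.ext 0 814 [] []] none),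
  (.merge 159 64 460 35, .walk ⟨73, 72, 0⟩ [.ext 1 844 [] []] [.ext 1 804 [1, 2, 3] [], .merge 832] none),
  (.edge 0 460 64 616 72 785, .walk ⟨0, 159, 0⟩ [.merge 848] [.ext 0 777 [] [], .merge 842] none),
  (.edge 0 1020 64 703 64 318, .walk ⟨416, 159, 0⟩ [.merge 848] [.ext 0 778 [] []] none),
  (.edge 0 961 64 200 86 1009, .walk ⟨956, 159, 0⟩ [.merge 848] [.ext 0 795 [] []] none),
  (.edge 0 417 64 822 86 505, .walk ⟨992, 159, 0⟩ [.merge 848] [.ext 0 799 [] []] none),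
  (.merge 173 13 963 62, .walk ⟨55, 6, 0⟩ [.ext 0 846 [] []] [.ext 0 474 [0, 2, 1] [], .merge 547, .merge 656, .merge 668] none),
  (.edge 1 45 13 0 174 62, .walk ⟨824, 173, 0⟩ [.merge 853] [.ext 1 808 [] []] none),
  (.merge 178 11 806 10, .walk ⟨799, 6, 0⟩ [.ext 0 847 [] []] [.ext 0 487 [0, 1, 2] [37, 38], .merge 495, .merge 666, .merge 685] none),
  (.edge 1 1043 11 0 179 10, .walk ⟨824, 178, 0⟩ [.merge 855] [.ext 1 815 [] []] none),
  (.merge 174 13 205 849, .walk ⟨45, 13, 0⟩ [.ext 1 854 [] []] [.ext 1 759 [0, 3, 0, 1] []] none),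
  (.edge 0 158 13 0 175 859, .walk ⟨224, 174, 0⟩ [.merge 857] [.ext 0 809 [] []] none),
  (.merge 179 72 476 712, .walk ⟨1043, 11, 0⟩ [.ext 1 856 [] []] [.ext 1 686 [0, 0, 3] [], .merge 711] none),
  (.edge 0 95 72 0 180 1132, .walk ⟨224, 179, 0⟩ [.merge 859] [.ext 0 816 [] []] none),
  (.merge 175 62 929 805, .walk ⟨158, 13, 0⟩ [.ext 0 858 [] []] [.ext 0 310 [1, 2, 3] [66], .merge 753] none),
  (.edge 1 686 62 0 176 1030, .walk ⟨815, 175, 0⟩ [.merge 861] [.ext 1 810 [] []] none),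
  (.merge 180 64 849 1093, .walk ⟨95, 72, 0⟩ [.ext 0 860 [] []] [.ext 0 327 [0, 2, 1, 2] [], .merge 691] none),
  (.edge 1 336 64 0 181 597, .walk ⟨815, 180, 0⟩ [.merge 863] [.ext 1 817 [] []] none),
  (.merge 176 11 423 180, .walk ⟨686, 62, 0⟩ [.ext 1 862 [] []] [.ext 1 299 [2, 0] [297, 298], .merge 819] none),
  (.edge 0 1145 11 0 177 643, .walk ⟨416, 176, 0⟩ [.merge 865] [.ext 0 811 [] []] none),
  (.merge 181 13 419 132, .walk ⟨336, 64, 0⟩ [.ext 1 864 [] []] [.ext 1 304 [0, 0, 0, 1] [], .merge 668] none),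
  (.edge 0 1147 13 45 149 808, .walk ⟨416, 181, 0⟩ [.merge 867] [.ext 0 818 [] []] none),
  (.merge 177 86 962 731, .walk ⟨1145, 11, 0⟩ [.ext 0 866 [] []] [.ext 0 824 [0, 3, 1] []] none),
  (.edge 1 884 86 483 11 383, .walk ⟨1054, 177, 0⟩ [.merge 869] [.ext 1 812 [] []] none),
  (.merge 149 64 1054 385, .walk ⟨1147, 13, 0⟩ [.ext 0 868 [] []] [.ext 0 330 [0, 3] [64, 65], .merge 691] none),
  (.merge 72 11 37 178, .walk ⟨884, 86, 0⟩ [.ext 1 366 [0, 3, 1] [], .merge 716] [.ext 1 870 [] []] none),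
  (.edge 0 37 11 850 11 865, .walk ⟨0, 72, 0⟩ [.merge 872] [.ext 0 326 [] [], .merge 734] none),
  (.edge 0 776 11 948 64 879, .walk ⟨992, 72, 0⟩ [.merge 872] [.ext 0 334 [] [], .merge 735] none),
  (.edge 0 53 11 319 6 63, .walk ⟨16, 72, 0⟩ [.merge 872] [.ext 0 342 [] [], .merge 705] none),
  (.edge 1 897 11 460 64 211, .walk ⟨616, 72, 0⟩ [.merge 872] [.ext 1 843 [] [], .merge 848] none),
  (.merge 160 6 915 63, .walk ⟨53, 11, 0⟩ [.ext 0 780 [1, 2, 3] []] [.ext 0 875 [] []] none),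
  (.edge 0 393 6 0 161 63, .walk ⟨1125, 160, 0⟩ [.merge 877] [.ext 0 781 [] []] none),
  (.edge 0 885 6 0 166 63, .walk ⟨69, 160, 0⟩ [.merge 877] [.ext 0 788 [] []] none),
  (.pair 64 109 288, .walk ⟨897, 11, 0⟩ [.ext 1 876 [] []] [.ext 1 841 [0, 1] [], .merge 871] none),
  (.merge 161 11 838 873, .walk ⟨393, 6, 0⟩ [.ext 0 878 [] []] [.ext 0 471 [3, 2] [], .merge 722] none),
  (.edge 1 331 11 0 162 873, .walk ⟨824, 161, 0⟩ [.merge 881] [.ext 1 782 [] []] none),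
  (.merge 166 6 59 854, .walk ⟨885, 6, 0⟩ [.ext 0 879 [] []] [.ext 0 472 [0, 1, 1, 2] [], .merge 627] none),
  (.edge 1 883 6 0 167 842, .walk ⟨824, 166, 0⟩ [.merge 883] [.ext 1 789 [] []] none),
  (.merge 155 86 199 1069, .walk ⟨961, 64, 0⟩ [.ext 0 760 [1, 1, 1] [880]] [.ext 0 851 [] []] none),
  (.merge 86 11 993 394, .walk ⟨417, 64, 0⟩ [.ext 0 852 [] []] [.ext 0 761 [2] [880], .merge 836] none),
  (.edge 1 993 11 227 11 70, .walk ⟨0, 86, 0⟩ [.merge 886] [.ext 1 365 [] [], .merge 650, .merge 819] none),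
  (.edge 1 1093 11 906 11 449, .walk ⟨837, 86, 0⟩ [.merge 886] [.ext 1 737 [] [], .merge 836] none),
  (.merge 162 11 681 1047, .walk ⟨331, 11, 0⟩ [.ext 1 882 [] []] [.ext 1 726 [1, 1, 2, 0] [], .merge 836] none),
  (.edge 0 911 11 0 163 817, .walk ⟨224, 162, 0⟩ [.merge 889] [.ext 0 783 [] []] none),
  (.merge 167 13 469 818, .walk ⟨883, 6, 0⟩ [.ext 1 884 [] []] [.ext 1 473 [0, 1, 3, 2] []] none),
  (.edge 0 75 13 0 168 1052, .walk ⟨224, 167, 0⟩ [.merge 891] [.ext 0 790 [] []] none),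
  (.merge 163 11 125 842, .walk ⟨911, 11, 0⟩ [.ext 0 890 [] []] [.ext 0 839 [0, 0, 2] [], .merge 886] none),
  (.edge 1 1120 11 0 164 854, .walk ⟨815, 163, 0⟩ [.merge 893] [.ext 1 784 [] []] none),
  (.merge 168 64 881 517, .walk ⟨75, 13, 0⟩ [.ext 0 892 [] []] [.ext 0 330 [0, 0, 0, 3] [64, 66], .merge 691] none),
  (.edge 1 967 64 0 169 277, .walk ⟨815, 168, 0⟩ [.merge 895] [.ext 1 791 [] []] none),
  (.merge 164 11 232 1107, .walk ⟨1120, 11, 0⟩ [.ext 1 894 [] []] [.ext 1 887 [0, 1, 1, 2] []] none),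
  (.edge 0 31 11 0 165 582, .walk ⟨416, 164, 0⟩ [.merge 897] [.ext 0 785 [] []] none),
  (.merge 169 11 921 111, .walk ⟨967, 64, 0⟩ [.ext 1 896 [] []] [.ext 1 303 [1, 1, 2] [], .merge 836] none)]

/-- Part 9 of the identities. -/
def facts9 : List (Concl × Why) := [
  (.edge 0 679 11 0 170 302, .walk ⟨416, 169, 0⟩ [.merge 899] [.ext 0 792 [] []] none),
  (.merge 165 10 706 793, .walk ⟨31, 11, 0⟩ [.ext 0 898 [] []] [.ext 0 762 [0, 3, 1] [], .merge 767] none),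
  (.merge 170 11 823 174, .walk ⟨679, 11, 0⟩ [.ext 0 900 [] []] [.ext 0 800 [1, 3] [], .merge 836] none),
  (.merge 62 9 245 474, .walk ⟨1123, 9, 1091⟩ [.ext 0 155 [0, 3, 1] [], .merge 771, .code 1054, .ext 1 774 [0, 0, 0, 1] [], .merge 819, .code 780, .ext 1 58 [1, 2, 0, 3] [], .merge 661, .code 221, .ext 0 471 [0, 0, 1, 2] [38], .merge 722, .code 32, .ext 0 762 [0, 3, 0, 1] [], .merge 767, .code 1125, .ext 0 292 [0, 3, 0] [], .code 824, .ext 1 260 [0, 0, 0, 1, 1] [134], .merge 819, .code 224, .ext 0 822 [1, 2] [], .code 815, .ext 1 756 [0, 0, 1, 2, 3] [], .code 416] [] (some (6, 5))),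
  (.edge 0 709 9 552 9 473, .walk ⟨253, 62, 0⟩ [.merge 903] [.ext 0 754 [] [], .merge 903] none),
  (.edge 0 955 9 310 8 205, .walk ⟨761, 62, 0⟩ [.merge 903] [.ext 0 755 [] []] none),
  (.edge 1 831 42 24 158 1015, .walk ⟨24, 158, 719⟩ [.code 416, .ext 0 775 [1, 2] [], .merge 886, .code 1054, .ext 1 888 [3, 2] [], .code 780, .ext 1 258 [0, 2, 1, 2] [], .merge 700, .code 221, .ext 0 250 [0, 0, 0, 1, 1] [37], .merge 259, .code 32, .ext 0 787 [3, 0] [626, 626], .merge 901, .code 1125, .ext 0 54 [0, 1, 2, 3] [827, 827], .code 824, .ext 1 248 [0, 0, 2, 1] [], .merge 289, .code 224, .ext 0 290 [0, 2, 1, 3] [94], .code 815] [] (some (6, 6))),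
  (.edge 0 24 158 831 42 1011, .walk ⟨831, 42, 0⟩ [.ext 1 906 [] []] [] (some (4, 0))),
  (.edge 0 847 9 0 183 0, .def'),
  (.pair 183 928 939, .walk ⟨839, 9, 0⟩ [.ext 0 908 [] [51]] [.ext 0 908 [0, 2] []] none),
  (.edge 0 1125 183 0 184 0, .def'),
  (.edge 1 824 184 0 185 0, .def'),
  (.edge 0 224 185 0 186 0, .def'),
  (.edge 1 815 186 0 187 0, .def'),
  (.edge 0 416 187 0 188 0, .def'),
  (.edge 1 1054 188 517 9 827, .walk ⟨517, 9, 938⟩ [.code 780, .ext 1 50 [2] [], .code 221, .ext 0 49 [1, 1, 3] [277, 277], .code 32, .ext 0 908 [] [], .code 1125, .ext 0 910 [] [], .code 824, .ext 1 911 [] [], .code 224, .ext 0 912 [] [], .code 815, .ext 1 913 [] [], .code 416, .ext 0 914 [] [], .code 1054] [] (some (6, 2))),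
  (.edge 0 517 9 1054 188 1054, .walk ⟨1054, 188, 0⟩ [.ext 1 915 [] []] [] (some (4, 0))),
  (.edge 0 81 183 0 189 0, .def'),
  (.edge 1 0 189 81 183 0, .walk ⟨81, 183, 0⟩ [.ext 0 917 [] []] [] (some (3, 0))),
  (.edge 1 60 184 0 190 0, .def'),
  (.edge 0 224 190 0 191 0, .def'),
  (.edge 1 815 191 0 192 0, .def'),
  (.edge 0 416 192 0 193 0, .def'),
  (.edge 1 1054 193 293 9 827, .walk ⟨293, 9, 938⟩ [.code 780, .ext 1 50 [0, 0, 0] [], .code 221, .ext 0 49 [3] [277, 277], .code 32, .ext 0 908 [0, 0] [], .code 1125, .ext 0 910 [2] [], .code 824, .ext 1 919 [] [], .code 224, .ext 0 920 [] [], .code 815, .ext 1 921 [] [], .code 416, .ext 0 922 [] [], .code 1054] [] (some (6, 2))),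
  (.edge 0 293 9 1054 193 1054, .walk ⟨1054, 193, 0⟩ [.ext 1 923 [] []] [] (some (4, 0))),
  (.edge 0 862 9 0 194 0, .def'),
  (.edge 0 860 183 472 18 201, .walk ⟨472, 18, 201⟩ [.code 1125, .ext 0 290 [0, 1, 3, 0] [], .code 824, .ext 1 169 [3, 1] [295, 295], .merge 289, .code 224, .ext 0 290 [0, 0, 0, 3] [94], .code 815, .ext 1 169 [0, 0, 2] [295], .merge 289, .code 416, .ext 0 93 [2, 1, 2] [], .merge 282, .code 1054, .ext 1 50 [0, 1, 3, 2] [], .code 780, .ext 1 315 [1, 2, 0] [46], .merge 316, .merge 753, .merge 903, .code 221, .ext 0 908 [3, 1] [52], .code 32] [] (some (6, 14))),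
  (.edge 0 255 189 741 158 542, .walk ⟨741, 158, 312⟩ [.code 1125, .ext 0 766 [0, 3] [], .merge 842, .merge 872, .code 1125, .ext 0 821 [1, 3] [], .code 1125, .ext 0 908 [3] [52], .code 1125, .ext 0 917 [0, 0, 2] [], .code 1125] [] (some (1, 5))),
  (.merge 189 11 965 2, .walk ⟨761, 11, 937⟩ [.ext 0 823 [0, 0, 1, 1] [], .merge 842, .merge 872, .code 247, .ext 0 821 [1, 3, 2] [], .code 247, .ext 0 908 [0, 2, 3] [52], .code 247, .ext 0 917 [0, 0, 1, 2, 3] [909], .code 247] [] (some (2, 4))),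
  (.edge 0 1125 11 741 158 518, .walk ⟨255, 189, 0⟩ [.merge 928] [.ext 0 927 [] []] none),
  (.edge 1 965 11 81 183 2, .walk ⟨0, 189, 0⟩ [.merge 928] [.ext 1 918 [] []] none),
  (.merge 158 9 875 198, .walk ⟨1125, 11, 0⟩ [.ext 0 929 [] []] [.ext 0 821 [2, 0, 3] []] none),
  (.edge 0 875 9 54 94 1116, .walk ⟨0, 158, 0⟩ [.merge 931] [.ext 0 765 [] [], .merge 769] none),
  (.edge 0 368 9 79 11 1138, .walk ⟨224, 158, 0⟩ [.merge 931] [.ext 0 766 [] [], .merge 842, .merge 872] none),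
  (.edge 0 897 9 544 11 732, .walk ⟨78, 158, 0⟩ [.merge 931] [.ext 0 775 [] [], .merge 886] none),
  (.edge 0 882 9 831 42 291, .walk ⟨24, 158, 0⟩ [.merge 931] [.ext 0 907 [] []] none),
  (.merge 183 10 459 2, .walk ⟨965, 11, 0⟩ [.ext 1 930 [] []] [.ext 1 57 [0, 0, 2] []] none),
  (.edge 0 811 10 472 18 195, .walk ⟨860, 183, 0⟩ [.merge 936] [.ext 0 926 [] []] none),
  (.merge 194 94 853 1101, .walk ⟨875, 9, 0⟩ [.ext 0 925 [1, 2, 0] [52]] [.ext 0 932 [] []] none),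
  (.merge 188 11 587 364, .walk ⟨368, 9, 0⟩ [.ext 0 916 [0, 0, 2, 3] []] [.ext 0 933 [] []] none),
  (.merge 193 11 367 312, .walk ⟨897, 9, 0⟩ [.ext 0 924 [0, 1] []] [.ext 0 934 [] []] none),
  (.merge 42 10 1041 116, .walk ⟨882, 9, 0⟩ [.ext 0 935 [] []] [.ext 0 908 [0, 0, 0, 1] [52], .merge 936] none),
  (.merge 94 18 471 916, .walk ⟨811, 10, 0⟩ [.ext 0 654 [1, 1, 1] [827]] [.ext 0 937 [] []] none),
  (.pair 18 215 687, .walk ⟨687, 94, 0⟩ [.pair 731 0, .merge 942] [.merge 942] none)]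

/-- A remaining node. -/
def live0 : Live := ⟨1, 18, [
    (0,0,0), (468,0,4), (477,0,5), (928,0,6), (968,0,7), (1,468,4), (11,468,5), (975,468,6), (933,468,7), (9,477,4),
    (3,477,5), (966,477,6), (940,477,7), (972,928,4), (965,928,5), (466,928,7), (943,968,5), (467,968,6), (469,1,4),
    (476,1,5), (929,1,6), (969,1,7), (478,11,4), (471,11,5), (939,11,6), (963,11,7), (930,975,4), (936,975,5),
    (4,975,7), (960,933,5), (5,933,6), (937,9,6), (961,9,7), (931,3,6), (971,3,7), (938,966,4), (13,966,7), (12,940,6),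
    (7,972,7), (14,965,7), (962,943,4), (15,943,6), (6,467,4), (10,469,5), (974,469,6), (932,469,7), (8,476,4),
    (2,476,5), (967,476,6), (941,476,7), (973,929,4), (964,929,5), (942,969,5), (934,471,7), (473,939,7), (472,963,6),
    (464,930,7), (474,936,7), (475,960,6), (465,5,4), (935,961,5), (479,10,4), (470,10,5), (970,2,7)]⟩

/-- A remaining node. -/
def live1 : Live := ⟨3, 24, [
    (0,0,0), (963,0,18), (3,0,19), (961,0,20), (7,0,21), (431,0,238), (960,963,19), (2,963,20), (964,963,21),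
    (719,963,238), (962,3,20), (4,3,21), (428,3,238), (966,961,21), (717,961,238), (424,7,238), (713,431,18),
    (425,431,19), (718,431,20), (427,431,21), (1129,431,238), (1,960,20), (967,960,21), (716,960,238), (5,2,21),
    (429,2,238), (712,964,238), (430,719,20), (715,719,21), (243,719,238), (965,962,21), (714,428,18), (426,428,19),
    (1130,428,238), (241,717,238), (1134,424,238), (245,713,238), (1135,425,238), (242,718,238), (1133,427,238),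
    (240,1129,18), (1132,1129,19), (244,1129,20), (1131,1129,21), (6,1,21), (1128,430,238), (247,715,238),
    (246,243,19)]⟩

/-- A remaining node. -/
def live2 : Live := ⟨6, 288, [
    (0,0,0), (937,0,37), (2,0,38), (939,937,38)]⟩

/-- A remaining node. -/
def live3 : Live := ⟨7, 64, [
    (0,0,0), (966,0,41), (43,0,42), (1135,0,655), (1038,966,42), (240,966,655), (815,43,41), (1117,43,655),
    (718,1135,655), (880,1038,41), (96,1038,655), (427,240,655), (366,815,655), (592,1117,655), (171,880,655),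
    (495,96,655), (288,366,655), (646,171,655)]⟩

/-- A remaining node. -/
def live4 : Live := ⟨8, 24, [
    (0,0,0), (1,0,45), (8,0,46), (3,0,47), (929,0,48), (810,0,277), (9,1,46), (2,1,47), (928,1,48), (811,1,277),
    (11,8,47), (937,8,48), (802,8,277), (930,3,48), (809,3,277), (683,929,277), (801,810,46), (1050,810,277),
    (10,9,47), (936,9,48), (803,9,277), (931,2,48), (808,2,277), (682,928,277), (800,811,46), (1051,811,277),
    (938,11,48), (675,937,277), (1042,802,277), (680,930,277), (1049,809,277), (672,683,46), (201,683,277),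
    (1041,801,277), (939,10,48), (674,936,277), (1043,803,277), (681,931,277), (1048,808,277), (673,682,46),
    (200,682,277), (1040,800,277), (193,675,277), (202,680,277), (194,672,277), (192,674,277), (203,681,277),
    (195,673,277)]⟩

/-- A remaining node. -/
def live5 : Live := ⟨9, 288, [
    (0,0,0), (3,0,51), (966,0,52), (965,3,52)]⟩

/-- A remaining node. -/
def live6 : Live := ⟨10, 192, [
    (0,0,0), (939,0,55), (816,0,827), (690,939,827), (1046,816,827), (204,690,827)]⟩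

/-- A remaining node. -/
def live7 : Live := ⟨11, 1152, [
    (0,0,0)]⟩

/-- A remaining node. -/
def live8 : Live := ⟨13, 144, [
    (0,0,0), (872,0,64), (8,0,65), (929,0,66), (864,872,65), (324,872,66), (937,8,66), (333,929,64)]⟩

/-- A remaining node. -/
def live9 : Live := ⟨18, 64, [
    (0,0,0), (937,0,94), (1129,0,95), (215,0,943), (992,937,95), (1031,937,943), (88,1129,94), (715,1129,95),
    (1070,1129,943), (276,215,95), (804,215,943), (498,992,943), (119,1031,95), (686,1031,943), (380,1070,943),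
    (314,276,943), (516,498,943), (634,119,943)]⟩

/-- A remaining node. -/
def live10 : Live := ⟨29, 192, [
    (0,0,0), (966,0,134), (715,0,626), (430,966,626), (1129,715,626), (246,430,626)]⟩

/-- A remaining node. -/
def live11 : Live := ⟨64, 384, [
    (0,0,0), (109,0,880), (310,109,880)]⟩

/-- Representatives of the cosets. -/
def reps0 : List (ℕ × List (List ℕ × ℕ)) := [
  (0, [([0, 2, 3], 12), ([1, 1, 1], 3)]), (16, [([3], 13), ([0, 1], 2)]),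
  (32, [([1, 1, 1], 10), ([0, 0, 1, 1], 17)]), (48, [([0, 1], 11), ([1, 1], 16)]),
  (64, [([0, 1, 1, 1], 5), ([0, 0, 1, 1], 7)]), (80, [([0, 0, 1], 4), ([1, 1], 6)]),
  (96, [([1, 1, 2], 17), ([0, 3, 0], 15)]), (112, [([0, 0, 1, 1, 2], 16), ([0, 3, 2], 14)]),
  (128, [([0, 0, 1, 1], 15), ([0], 10)]), (144, [([1, 1], 14), ([0], 11)]),
  (160, [([0, 0, 0, 1], 2), ([1, 2, 3], 5)]), (176, [([2, 1, 2], 3), ([0, 1, 3, 0], 4)]),
  (224, [([0, 3, 2], 1), ([0, 0, 0, 1, 1], 9)]), (240, [([0, 3, 0], 0), ([0, 1, 1], 8)]),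
  (288, [([0, 0], 8), ([1, 2, 0], 12)]), (304, [([0, 0], 9), ([2, 1], 13)]), (320, [([2], 6), ([0, 1, 2, 3], 0)]),
  (336, [([2], 7), ([3, 0, 1], 1)])]

/-- Steps from node 0. -/
def close0 : List (List Op) := [
  [.ext 0 2 [] []], [.ext 0 2 [1, 1] [0, 0]], [.ext 0 2 [0, 0, 0, 1] [0, 0, 1]], [.ext 0 2 [1] [1]],
  [.ext 0 2 [3, 0, 1] [1, 0, 1]], [.ext 0 2 [0, 0, 3] [1, 0, 1, 0]], [.ext 0 2 [0, 0, 1, 2] [1, 1, 0]],
  [.ext 0 2 [0, 1, 3] [1, 0, 1, 1]], [.ext 0 2 [0, 0, 0, 3] [0, 0, 0, 1]], [.ext 0 2 [0, 0, 3, 2] [0, 1]],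
  [.ext 0 2 [0, 0, 0, 1, 1] [0, 0, 1, 0]], [.ext 0 2 [0, 0, 0] [1, 0]], [.ext 0 2 [0, 2, 3] [0]],
  [.ext 0 2 [1, 1, 3] [0, 0, 0]], [.ext 0 2 [0, 0, 2, 3] [0, 1, 0]], [.ext 0 2 [0, 0, 1, 2, 3] [1, 1, 0, 1]],
  [.ext 0 2 [1, 1, 1] [1, 1]], [.ext 0 2 [0, 1, 1, 1] [0, 0, 1, 1]]]

/-- Steps from node 1. -/
def close1 : List (List Op) := [
  [.ext 0 8 [] [], .merge 222], [.ext 0 111 [] [], .merge 231], [.ext 0 43 [2, 0] []], [.ext 0 43 [2, 3, 0] [4, 7]],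
  [.ext 0 16 [0, 1, 2, 3] [5]], [.ext 0 16 [3, 0, 1] [4]], [.ext 0 63 [0, 0, 1] [4, 5]], [.ext 0 63 [0, 0, 1] []],
  [.ext 0 63 [2, 3, 0] [6]], [.ext 0 63 [0, 3, 0] [4, 7]], [.ext 0 63 [0, 1, 2] [6, 4]],
  [.ext 0 63 [0, 0, 2, 1] [7]], [.ext 0 16 [2, 0] [7]], [.ext 0 16 [1, 3, 2] []], [.ext 0 63 [1, 1] [4]],
  [.ext 0 63 [0, 0, 0] [4, 5, 4]], [.ext 0 43 [0, 0, 1, 2] [7]], [.ext 0 43 [1, 3] [4]]]

/-- Steps from node 3. -/
def close2 : List (List Op) := [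
  [.ext 0 22 [0, 3, 0, 1] [238], .merge 26], [.ext 0 27 [2, 0, 1] [238, 238], .merge 222],
  [.ext 0 212 [0, 2, 3] [20, 238], .merge 627], [.ext 0 212 [0, 2, 3] [18, 238], .merge 627],
  [.ext 0 27 [3, 1] [], .merge 222], [.ext 0 22 [3, 0] [238, 238], .merge 26],
  [.ext 0 212 [0, 2, 1, 2] [19], .merge 627], [.ext 0 212 [1, 2, 0] [], .merge 627],
  [.ext 0 212 [0, 1, 1] [238, 238], .merge 627], [.ext 0 212 [0, 0, 1, 1, 2] [19, 238, 238], .merge 627],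
  [.ext 0 212 [0, 2, 1, 2] [18], .merge 627], [.ext 0 212 [0, 1, 2] [20], .merge 627],
  [.ext 0 27 [0, 1, 1, 1] [238], .merge 222], [.ext 0 22 [1, 3, 2] [], .merge 26],
  [.ext 0 212 [1, 1, 3] [18, 238, 238], .merge 627], [.ext 0 212 [0, 3, 0] [20, 238, 238], .merge 627],
  [.ext 0 212 [2, 1, 3] [19, 238], .merge 627], [.ext 0 212 [0, 1, 2, 3] [238], .merge 627]]

/-- Steps from node 6. -/
def close3 : List (List Op) := [
  [.ext 0 36 [] [], .merge 215], [.ext 0 500 [] [], .merge 591, .merge 627], [.ext 0 464 [0, 3, 1] [], .merge 627],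
  [.ext 0 474 [0, 1, 1, 1] [], .merge 547, .merge 656, .merge 668], [.ext 0 39 [1, 2, 3] [37]],
  [.ext 0 250 [0] [37], .merge 259], [.ext 0 487 [0, 0, 1, 1, 2] [37, 38], .merge 495, .merge 666, .merge 685],
  [.ext 0 487 [1, 1] [37], .merge 495, .merge 666, .merge 685],
  [.ext 0 487 [3, 0, 1] [], .merge 495, .merge 666, .merge 685],
  [.ext 0 487 [1, 3, 0] [38], .merge 495, .merge 666, .merge 685], [.ext 0 471 [1, 1, 2] [], .merge 722],
  [.ext 0 471 [0, 0, 1, 1] [38], .merge 722], [.ext 0 39 [] []], [.ext 0 250 [1, 3, 0] [], .merge 259],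
  [.ext 0 471 [0, 1, 2] [37], .merge 722], [.ext 0 471 [1, 1, 1] [37, 38], .merge 722],
  [.ext 0 633 [0, 1, 2, 3] [], .merge 656, .merge 668], [.ext 0 472 [0, 0, 3] [], .merge 627]]

/-- Steps from node 7. -/
def close4 : List (List Op) := [
  [.ext 0 646 [0, 0, 0] []], [.ext 0 647 [2, 0, 1] [655, 655]], [.ext 0 646 [0, 0, 1, 1, 2] [42]],
  [.ext 0 647 [1, 1, 1] [42, 655, 655]], [.ext 0 647 [1, 2, 3] [655]], [.ext 0 646 [0, 2, 3] [655, 655]],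
  [.ext 0 646 [0, 1, 3, 0] [42, 655]], [.ext 0 647 [0, 0, 3] [42]], [.ext 0 647 [0, 1, 3] [42, 655]],
  [.ext 0 646 [1, 1, 3] [42, 655, 655]], [.ext 0 646 [0, 1, 3, 2] [42, 41, 655]], [.ext 0 647 [0, 3, 2] [42, 41]],
  [.ext 0 647 [0, 0, 3] []], [.ext 0 646 [0, 1, 3, 0] [655]], [.ext 0 646 [0, 0, 0] [42, 41, 655, 655]],
  [.ext 0 647 [2, 0, 1] [42, 41, 655]], [.ext 0 647 [2] [42, 41, 655, 655]], [.ext 0 646 [0, 1, 1, 1] [42, 41]]]

/-- Steps from node 8. -/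
def close5 : List (List Op) := [
  [.ext 0 139 [0, 3, 1] [277], .merge 273, .merge 278], [.ext 0 96 [0, 0, 0] [277, 277], .merge 285],
  [.ext 0 96 [0, 3, 1] [277], .merge 285], [.ext 0 139 [1, 1, 2, 0] [], .merge 273, .merge 278],
  [.ext 0 49 [2] [48]], [.ext 0 49 [2] [46, 48]], [.ext 0 49 [0, 0, 2] [46, 277, 277]],
  [.ext 0 49 [0, 0, 2] [277, 277]], [.ext 0 49 [0, 1, 3] [48, 277, 277]],
  [.ext 0 49 [0, 1, 3, 2] [46, 48, 277, 277]], [.ext 0 49 [0, 1, 3, 2] [277]], [.ext 0 49 [0, 1, 3] [46, 277]],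
  [.ext 0 49 [1, 3] [46]], [.ext 0 49 [1, 3, 2] []], [.ext 0 49 [0, 0, 3] [46, 48, 277]],
  [.ext 0 49 [2, 0, 3] [48, 277]], [.ext 0 96 [1, 2] [], .merge 285],
  [.ext 0 139 [2, 3, 0] [277, 277], .merge 273, .merge 278]]

/-- Steps from node 9. -/
def close6 : List (List Op) := [
  [.ext 0 773 [2, 1, 3] []], [.ext 0 905 [1, 1, 3] []], [.ext 0 908 [0, 2, 3] [], .merge 936],
  [.ext 0 925 [3] [], .merge 938, .merge 942], [.ext 0 164 [1, 1, 2, 0] [], .merge 758], [.ext 0 904 [0, 3] []],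
  [.ext 0 916 [0, 0, 2, 1] [51, 52], .merge 939], [.ext 0 916 [0, 0, 1] [52], .merge 939],
  [.ext 0 924 [2, 3, 0] [51, 52], .merge 940], [.ext 0 924 [2, 3, 0] [52], .merge 940],
  [.ext 0 916 [0, 2, 1, 2] [51], .merge 939], [.ext 0 916 [1, 2, 0] [], .merge 939], [.ext 0 772 [0, 0, 0, 1] []],
  [.ext 0 155 [0, 1, 1] [], .merge 771], [.ext 0 924 [0, 0, 2] [], .merge 940],
  [.ext 0 924 [0, 0, 0] [51], .merge 940], [.ext 0 925 [2, 1, 3] [52], .merge 938, .merge 942],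
  [.ext 0 908 [3, 1] [52], .merge 936]]

/-- Steps from node 10. -/
def close7 : List (List Op) := [
  [.ext 0 54 [] []], [.ext 0 654 [0, 2, 1] [], .merge 942], [.ext 0 654 [0, 0, 2, 3] [827, 827], .merge 942],
  [.ext 0 54 [0, 1, 3, 2] [827, 827]], [.ext 0 56 [0, 3, 0, 1] [55]], [.ext 0 292 [0, 1, 3, 0] [55]],
  [.ext 0 292 [3, 1] [827, 827]], [.ext 0 56 [3, 1] [827, 827]], [.ext 0 292 [1, 1, 2, 0] [55, 827, 827]],
  [.ext 0 56 [0, 1, 1] [55, 827, 827]], [.ext 0 292 [0, 0, 1, 1, 2] [827]], [.ext 0 56 [1, 1] [827]],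
  [.ext 0 56 [] []], [.ext 0 292 [2] []], [.ext 0 56 [1, 2, 0] [55, 827]], [.ext 0 292 [2, 1, 2] [55, 827]],
  [.ext 0 54 [1, 1, 1] [827]], [.ext 0 654 [2] [827], .merge 942]]

/-- Steps from node 11. -/
def close8 : List (List Op) := [
  [.ext 0 820 [1, 2] []], [.ext 0 762 [0, 3, 0, 1] [], .merge 767], [.ext 0 873 [0, 0, 2] []],
  [.ext 0 780 [0, 3, 0, 1] [], .merge 877], [.ext 0 823 [1, 3, 2] [], .merge 842, .merge 872],
  [.ext 0 822 [0, 2, 1, 2] [], .merge 903], [.ext 0 724 [0, 0, 2] [], .merge 727, .merge 836],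
  [.ext 0 874 [1, 2] []], [.ext 0 723 [0, 1, 1] [], .merge 871],
  [.ext 0 813 [0, 2, 1, 2] [], .merge 869, .merge 886], [.ext 0 828 [1, 1, 2] [], .merge 830, .merge 872],
  [.ext 0 837 [0, 2] []], [.ext 0 824 [0, 0, 1, 1] [], .merge 886], [.ext 0 821 [0, 1, 1, 1] []],
  [.ext 0 839 [1, 1, 1] [], .merge 886], [.ext 0 801 [0, 0, 2, 1] [], .merge 832],
  [.ext 0 806 [0, 0, 1, 1, 2] [], .merge 845], [.ext 0 800 [2, 0] [], .merge 836]]

/-- Steps from node 13. -/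
def close9 : List (List Op) := [
  [.ext 0 200 [0, 0, 0, 3] [], .merge 470], [.ext 0 319 [0, 0, 0, 1, 1] [], .merge 698],
  [.ext 0 672 [0, 2, 3] [], .merge 757], [.ext 0 308 [0, 0, 3] [], .merge 758],
  [.ext 0 330 [0, 0, 3, 2] [64, 66], .merge 691], [.ext 0 330 [0, 0, 3, 2] [66, 64], .merge 691],
  [.ext 0 310 [2] [], .merge 753, .merge 903], [.ext 0 350 [2] [66], .merge 354, .merge 771],
  [.ext 0 350 [0, 3, 1] [], .merge 354, .merge 771], [.ext 0 310 [0, 2, 1, 3] [66], .merge 753, .merge 903],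
  [.ext 0 330 [0, 3, 2] [], .merge 691], [.ext 0 330 [0, 3, 2] [65], .merge 691],
  [.ext 0 330 [2, 1, 2] [64, 65], .merge 691], [.ext 0 330 [0, 0, 1, 2] [64], .merge 691],
  [.ext 0 330 [0, 0, 1, 2, 3] [65, 66], .merge 691], [.ext 0 330 [0, 2, 1, 3] [66], .merge 691],
  [.ext 0 200 [0, 0, 1, 1] [64], .merge 470], [.ext 0 319 [0, 2, 3] [64], .merge 698]]

/-- Steps from node 18. -/
def close10 : List (List Op) := [
  [.ext 0 93 [] [], .merge 282], [.ext 0 290 [3, 2] [95], .merge 941], [.ext 0 93 [0, 0, 1, 2] [943], .merge 282],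
  [.ext 0 290 [0, 1, 3] [95, 943], .merge 941], [.ext 0 290 [0, 0, 0] [], .merge 941],
  [.ext 0 93 [2, 0] [95, 94], .merge 282], [.ext 0 290 [1, 1] [943], .merge 941],
  [.ext 0 93 [3, 0] [943, 95], .merge 282], [.ext 0 93 [0, 1, 2, 3] [95, 943], .merge 282],
  [.ext 0 290 [1, 2, 0, 3] [94, 943], .merge 941], [.ext 0 290 [1, 3] [94, 943, 943], .merge 941],
  [.ext 0 93 [1, 3] [95, 943, 943], .merge 282], [.ext 0 290 [0, 1, 2, 3] [94], .merge 941],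
  [.ext 0 93 [1, 2, 0, 3] [95], .merge 282], [.ext 0 290 [0, 3] [943, 943], .merge 941],
  [.ext 0 93 [1, 1, 2, 0] [943, 95, 943], .merge 282], [.ext 0 290 [1, 3] [95, 943, 943], .merge 941],
  [.ext 0 93 [0, 1, 2] [943, 943], .merge 282]]

/-- Steps from node 29. -/
def close11 : List (List Op) := [
  [.ext 0 621 [0, 1, 3, 0] [], .merge 645], [.ext 0 622 [0, 0, 2, 3] [626]],
  [.ext 0 794 [0, 0, 0, 1, 1] [134, 626, 626], .merge 902], [.ext 0 787 [1, 1, 2] [134, 626, 626], .merge 901],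
  [.ext 0 622 [0, 1, 1] [626, 626]], [.ext 0 621 [2, 1, 2] [626], .merge 645],
  [.ext 0 787 [0, 1, 3, 2] [134, 626], .merge 901], [.ext 0 794 [1, 2, 3] [134, 626], .merge 902],
  [.ext 0 794 [1, 1, 3] [134], .merge 902], [.ext 0 787 [1, 1, 3] [134], .merge 901],
  [.ext 0 787 [0, 1, 3, 0] [626], .merge 901], [.ext 0 794 [0, 1, 3] [626], .merge 902], [.ext 0 622 [1, 2, 0] []],
  [.ext 0 621 [0, 1, 1, 2] [626, 626], .merge 645], [.ext 0 787 [0, 0, 0] [], .merge 901],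
  [.ext 0 794 [0, 0, 2] [], .merge 902], [.ext 0 787 [0, 0, 1] [626, 626], .merge 901],
  [.ext 0 794 [0, 0, 2, 1] [626, 626], .merge 902]]

/-- Steps from node 64. -/
def close12 : List (List Op) := [
  [.ext 0 760 [0, 3, 2] [880], .merge 885, .merge 886], [.ext 0 849 [1] [], .merge 872],
  [.ext 0 833 [2, 3, 0] [880], .merge 872], [.ext 0 761 [0, 2] [880, 880], .merge 836],
  [.ext 0 833 [1, 2, 0, 3] [], .merge 872], [.ext 0 761 [0, 0, 1, 2] [880], .merge 836],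
  [.ext 0 760 [0, 0, 3, 2] [880, 880], .merge 885, .merge 886], [.ext 0 849 [0, 1] [880], .merge 872],
  [.ext 0 834 [0, 2, 1] [880]], [.ext 0 850 [0, 3, 1] [880]], [.ext 0 761 [1, 1, 2, 0] [], .merge 836],
  [.ext 0 833 [2, 0, 3] [880, 880], .merge 872], [.ext 0 850 [1, 1, 1] []], [.ext 0 834 [0, 1, 3] []],
  [.ext 0 849 [1, 2] [880, 880], .merge 872], [.ext 0 760 [0, 0, 0, 3] [], .merge 885, .merge 886],
  [.ext 0 834 [0, 0, 2, 1] [880, 880]], [.ext 0 850 [1, 3] [880, 880]]]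

/-- The certificate, apart from the group of codes. -/
def data (N : ℕ) (mul : ℕ → ℕ → ℕ) (word : ℕ → List ℕ) : Data where
  N := N
  mul := mul
  gens := gens
  word := word
  K := 1
  dgens := dgens
  rels := rels
  defs := defs
  facts := facts0 ++ facts1 ++ facts2 ++ facts3 ++ facts4 ++ facts5 ++ facts6 ++ facts7 ++ facts8 ++ facts9
  live := [live0, live1, live2, live3, live4, live5, live6, live7, live8, live9, live10, live11]
  reps := [reps0]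
  close := [[close0, close1, close2, close3, close4, close5, close6, close7, close8, close9, close10, close11, close12]]
  n := 2835

end CfsgLib.UFourType.Cert.Full
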