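import Cfsg.Agent.Lib.CodeCert.Check

/-!
Generated data of a certificate.
-/

set_option autoImplicit false
set_option maxRecDepth 100000

namespace CfsgLib.UFourType.Cert.Local

open CfsgLib.CodeCert

/-- Generating codes. -/
def gens : List ℕ := [130, 51]

/-- The generators of the normalised subgroup with their images. -/
def dgens : List (List (ℕ × ℕ)) := [[(12, 158), (144, 15), (4, 294), (256, 265)]]

/-- The relations. -/
def rels : List (List Tok) := [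
  [.s 0, .s 0, .s 0],
  [.c 357, .s 0, .c 357, .s 0, .c 357, .s 0, .c 357, .s 0, .c 357, .s 0],
  [.c 87, .s 0, .c 87, .s 0, .c 87, .s 0, .c 87, .s 0],
  [.s 1, .s 0],
  [.s 0, .s 1]]

/-- The words of the nodes. -/
def defs : List (ℕ × ℕ × ℕ) := [
  (0, 0, 0), (0, 0, 1), (0, 357, 1), (0, 357, 3), (0, 357, 2), (0, 357, 5), (0, 357, 6), (0, 16, 1), (0, 0, 8)]

/-- Part 0 of the identities. -/
def facts0 : List (Concl × Why) := [
  (.pair 0 130 130, .def'),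
  (.pair 0 51 51, .def'),
  (.edge 0 0 0 0 1 0, .def'),
  (.edge 1 0 1 0 0 0, .walk ⟨0, 0, 0⟩ [.ext 0 2 [] []] [] (some (3, 0))),
  (.pair 1 158 12, .walk ⟨12, 0, 0⟩ [.ext 0 2 [] [0, 0]] [.ext 0 2 [0] []] none),
  (.pair 1 15 144, .walk ⟨31, 0, 0⟩ [.ext 0 2 [] [1, 1]] [.ext 0 2 [1] [0]] none),
  (.pair 1 290 294, .walk ⟨173, 0, 0⟩ [.ext 0 2 [] [1, 0, 1]] [.ext 0 2 [0, 3, 1] [0, 1, 0]] none),
  (.pair 1 153 300, .walk ⟨354, 0, 0⟩ [.ext 0 2 [] [0, 1, 0, 1]] [.ext 0 2 [1, 2, 3] [1, 0]] none),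
  (.edge 0 0 1 0 2 0, .def'),
  (.pair 2 156 144, .walk ⟨15, 1, 0⟩ [.ext 0 8 [] [5]] [.ext 0 8 [0, 0, 0, 1, 1] []] none),
  (.edge 0 0 2 0 0 0, .walk ⟨0, 0, 0⟩ [.ext 0 2 [] [], .ext 0 8 [] []] [] (some (0, 0))),
  (.edge 1 0 0 0 2 0, .walk ⟨0, 2, 0⟩ [.ext 0 10 [] []] [] (some (3, 0))),
  (.edge 0 357 1 0 3 0, .def'),
  (.edge 1 0 3 357 1 0, .walk ⟨357, 1, 0⟩ [.ext 0 12 [] []] [] (some (3, 0))),
  (.pair 3 4 294, .walk ⟨93, 1, 0⟩ [.ext 0 12 [] [6]] [.ext 0 12 [0, 2, 1, 3] []] none),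
  (.pair 3 1 291, .walk ⟨240, 1, 0⟩ [.ext 0 12 [] [7]] [.ext 0 12 [1, 1] [4]] none),
  (.pair 3 294 1, .walk ⟨353, 1, 0⟩ [.ext 0 12 [] [4, 4]] [.ext 0 12 [2] []] none),
  (.pair 3 7 292, .walk ⟨38, 1, 0⟩ [.ext 0 12 [] [4, 6]] [.ext 0 12 [0, 1, 3, 2] [4]] none),
  (.edge 0 357 3 0 4 0, .def'),
  (.edge 0 357 4 211 2 115, .walk ⟨211, 2, 115⟩ [.code 357, .ext 0 10 [2] [], .code 357, .ext 0 2 [0] [1, 0], .code 357, .ext 0 12 [] [4], .code 357, .ext 0 18 [] [], .code 357] [] (some (1, 3))),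
  (.edge 1 211 2 357 4 91, .walk ⟨357, 4, 0⟩ [.ext 0 19 [] []] [] (some (3, 0))),
  (.merge 4 3 130 179, .walk ⟨352, 4, 160⟩ [] [.ext 0 19 [0, 0, 2] [], .code 87, .ext 0 10 [0] [], .code 87, .ext 0 2 [1] [0, 1], .code 87, .ext 0 12 [0, 3, 0, 1] [5], .code 87] (some (2, 4))),
  (.edge 0 252 3 211 2 51, .walk ⟨357, 4, 0⟩ [.merge 21] [.ext 0 19 [] []] none),
  (.edge 0 357 2 0 5 0, .def'),
  (.edge 1 0 5 357 2 0, .walk ⟨357, 2, 0⟩ [.ext 0 23 [] []] [] (some (3, 0))),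
  (.edge 0 357 5 0 6 0, .def'),
  (.edge 0 357 6 0 7 0, .def'),
  (.edge 0 357 7 208 1 0, .walk ⟨208, 1, 0⟩ [.code 357, .ext 0 8 [] [], .code 357, .ext 0 23 [] [], .code 357, .ext 0 25 [] [], .code 357, .ext 0 26 [] [], .code 357] [] (some (1, 1))),
  (.edge 1 208 1 357 7 0, .walk ⟨357, 7, 0⟩ [.ext 0 27 [] []] [] (some (3, 0))),
  (.edge 0 47 5 27 7 146, .walk ⟨27, 7, 144⟩ [.code 87, .ext 0 27 [0, 1, 3] [], .code 87, .ext 0 8 [0, 1, 1] [], .code 87, .ext 0 23 [1, 2, 3] [9], .code 87] [] (some (2, 3))),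
  (.edge 0 16 1 0 8 0, .def'),
  (.edge 0 0 8 0 9 0, .def'),
  (.edge 0 0 9 16 1 0, .walk ⟨16, 1, 0⟩ [.ext 0 30 [] [], .ext 0 31 [] []] [] (some (0, 0))),
  (.edge 0 77 3 114 9 173, .walk ⟨114, 9, 0⟩ [.code 87, .ext 0 32 [0, 0, 0] [], .code 87, .ext 0 12 [1, 3, 0] [4], .code 87, .ext 0 18 [0, 0, 0, 1, 1] [], .merge 21, .code 87] [] (some (2, 3))),
  (.merge 5 3 157 275, .walk ⟨74, 3, 199⟩ [.ext 0 33 [0, 0, 1, 1, 2] [], .code 357, .ext 0 32 [2] [], .code 357, .ext 0 12 [0, 0, 1, 2, 3] [5], .code 357, .ext 0 22 [0, 2] [], .code 357, .ext 0 23 [0, 3, 0] [], .code 357] [] (some (1, 4))),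
  (.edge 0 85 3 27 7 319, .walk ⟨47, 5, 0⟩ [.merge 34] [.ext 0 29 [] []] none),
  (.edge 1 157 3 357 2 283, .walk ⟨0, 5, 0⟩ [.merge 34] [.ext 1 24 [] []] none),
  (.merge 7 3 300 327, .walk ⟨85, 3, 0⟩ [.ext 0 35 [] []] [.ext 0 18 [1, 3] [], .merge 21] none),
  (.merge 2 1 26 275, .walk ⟨157, 3, 0⟩ [.ext 1 36 [] []] [.ext 1 13 [0, 0, 0] []] none),
  (.edge 0 26 1 0 0 283, .walk ⟨0, 2, 0⟩ [.merge 38] [.ext 0 10 [] []] none),
  (.edge 1 196 1 252 3 368, .walk ⟨211, 2, 0⟩ [.merge 38] [.ext 1 20 [] [], .merge 21] none),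
  (.merge 8 0 258 283, .walk ⟨26, 1, 0⟩ [.ext 0 30 [1, 1, 2, 0] []] [.ext 0 39 [] []] none),
  (.pair 3 202 116, .walk ⟨196, 1, 0⟩ [.ext 1 40 [] []] [.ext 1 28 [0, 3, 2] [5], .merge 37] none)]

/-- A remaining node. -/
def live0 : Live := ⟨1, 6, [
    (0,0,0), (158,0,4), (15,0,5), (290,0,6), (153,0,7), (3,158,4), (144,158,5), (262,158,6), (6,158,7), (1,15,5),
    (301,15,6), (150,15,7), (263,290,4), (302,290,5), (256,290,7), (4,153,4), (151,153,5), (257,153,6), (157,3,4),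
    (12,3,5), (289,3,6), (154,3,7), (159,144,5), (264,144,6), (8,144,7), (288,262,4), (267,262,5), (293,262,7),
    (152,6,4), (9,6,5), (292,6,6), (14,1,5), (291,1,6), (265,301,4), (271,301,7), (10,150,4), (270,150,6), (266,263,5),
    (268,302,7), (294,256,4), (269,256,5), (11,4,5), (295,257,4), (147,157,5), (261,157,6), (5,157,7), (2,12,5),
    (149,12,7), (260,289,4), (259,289,7), (7,154,4), (148,154,5), (258,154,6), (145,159,5), (303,264,4), (299,264,7),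
    (298,8,6), (300,288,5), (296,267,7), (297,293,5), (146,266,6), (156,147,5), (155,5,4), (13,2,5)]⟩

/-- A remaining node. -/
def live1 : Live := ⟨3, 8, [
    (0,0,0), (4,0,14), (1,0,15), (294,0,16), (7,0,17), (202,0,42), (5,4,15), (290,4,16), (3,4,17), (206,4,42),
    (295,1,16), (6,1,17), (203,1,42), (289,294,17), (111,294,42), (205,7,42), (200,202,14), (361,202,42), (291,5,16),
    (2,5,17), (207,5,42), (293,290,17), (107,290,42), (201,3,42), (204,206,14), (365,206,42), (288,295,17),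
    (110,295,42), (360,203,42), (104,289,42), (109,111,14), (86,111,42), (366,205,42), (363,200,42), (292,291,17),
    (106,291,42), (364,207,42), (108,293,42), (105,107,14), (82,107,42), (362,201,42), (367,204,42), (87,110,42),
    (81,104,42), (84,109,42), (83,106,42), (85,108,42), (80,105,42)]⟩

/-- Representatives of the cosets. -/
def reps0 : List (ℕ × List (List ℕ × ℕ)) := [
  (0, [([0, 0, 0, 1], 1), ([0, 0, 1, 1], 3)]), (16, [([2, 1, 2], 0), ([1, 1], 2)]), (32, [([0, 0, 2], 4), ([0], 0)]),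
  (48, [([0, 0, 2], 5), ([0], 1)]), (64, [([1, 1, 2], 3), ([0, 3, 2], 5)]),
  (80, [([0, 0, 1, 1, 2], 2), ([0, 3, 0], 4)])]

/-- Steps from node 0. -/
def close0 : List (List Op) := [
  [.ext 0 2 [] []], [.ext 0 2 [0, 1, 1, 1] [0]], [.ext 0 2 [0, 1] [0, 1]], [.ext 0 2 [0, 0, 1, 1] [1]],
  [.ext 0 2 [0, 2, 1] [0, 1, 0]], [.ext 0 2 [1, 1, 2] [1, 0]]]

/-- Steps from node 1. -/
def close1 : List (List Op) := [
  [.ext 0 8 [] [], .merge 38], [.ext 0 30 [] [], .merge 41], [.ext 0 12 [1, 3, 0] [4]],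
  [.ext 0 12 [0, 2, 1, 3] [4, 5]], [.ext 0 12 [0, 3, 0, 1] [5]], [.ext 0 12 [1, 3, 2] []]]

/-- Steps from node 3. -/
def close2 : List (List Op) := [
  [.ext 0 18 [0] [42], .merge 21], [.ext 0 22 [1, 2, 0] [42, 42], .merge 38], [.ext 0 22 [0, 3, 0, 1] [], .merge 38],
  [.ext 0 18 [3, 0] [42, 42], .merge 21], [.ext 0 22 [2, 3] [42], .merge 38], [.ext 0 18 [1, 3, 2] [], .merge 21]]

/-- The certificate, apart from the group of codes. -/
def data (N : ℕ) (mul : ℕ → ℕ → ℕ) (word : ℕ → List ℕ) : Data where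
  N := N
  mul := mul
  gens := gens
  word := word
  K := 1
  dgens := dgens
  rels := rels
  defs := defs
  facts := facts0
  live := [live0, live1]
  reps := [reps0]
  close := [[close0, close1, close2]]
  n := 15

end CfsgLib.UFourType.Cert.Local
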